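import Cfsg.Agent.Lib.S3Simple.Suborbit

/-!
Two blocks of the same size meeting trivially: the linear algebra on the automisers.
`A` is elementary abelian of exponent two, `G` acts faithfully and irreducibly, a block is
`A = D × V` with an element `κ` centralising `D` and transitive on the involutions of `V`.
The only possibility is `|A| = 8` with `|G| = 21`.
-/

set_option autoImplicit false
set_option linter.unusedSectionVars false

namespace CfsgLib.S3Simple

open MulAction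
open scoped Pointwise

universe u v

theorem smulOne_iff {G : Type v} [Group G] {A : Type u} [Monoid A] [MulDistribMulAction G A] (g : G) {a : A} :
    g • a = 1 ↔ a = 1 :=
  ⟨fun h => MulAction.injective g (h.trans (smul_one g).symm), fun h => by rw [h, smul_one]⟩

/-- A block on `A`, all of whose conjugates meet trivially. -/
structure LinearBlock (G : Type v) [Group G] {A : Type u} [CommGroup A] [MulDistribMulAction G A]
    (D V : Subgroup A) (κ : G) : Prop where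
  sq : ∀ a : A, a * a = 1
  inf : ∀ x ∈ D, x ∈ V → x = 1
  sup : D ⊔ V = ⊤
  ne : D ≠ ⊥
  four : 4 ≤ Nat.card V
  le : Nat.card D ≤ Nat.card V
  fixD : ∀ d ∈ D, κ • d = d
  memV : ∀ v ∈ V, κ • v ∈ V
  tr : ∀ v ∈ V, v ≠ 1 → ∀ w ∈ V, w ≠ 1 → ∃ k : ℕ, κ ^ k • v = w
  meet : ∀ g : G, g • D ≠ D → ∀ x ∈ g • D, x ∈ D → x = 1

namespace LinearBlock

variable {G : Type v} [Group G] {A : Type u} [CommGroup A] [Finite A] [MulDistribMulAction G A]
  {D V : Subgroup A} {κ : G} (H : LinearBlock G D V κ)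
include H

theorem fix_pow (k : ℕ) {d : A} (hd : d ∈ D) : κ ^ k • d = d := by
  induction k with
  | zero => rw [pow_zero, one_smul]
  | succ k ih => rw [pow_succ, mul_smul, H.fixD d hd, ih]

theorem mem_pow (k : ℕ) {w : A} (hw : w ∈ V) : κ ^ k • w ∈ V := by
  induction k with
  | zero => rwa [pow_zero, one_smul]
  | succ k ih => rw [pow_succ', mul_smul]; exact H.memV _ ih

theorem decomp (x : A) : ∃ b ∈ D, ∃ w ∈ V, b * w = x :=
  Subgroup.mem_sup.mp (H.sup ▸ Subgroup.mem_top x)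

theorem unique {b b' w w' : A} (hb : b ∈ D) (hb' : b' ∈ D) (hw : w ∈ V) (hw' : w' ∈ V)
    (h : b * w = b' * w') : b = b' ∧ w = w' := by
  have e : b'⁻¹ * b = w' * w⁻¹ := by
    rw [eq_mul_inv_iff_mul_eq, mul_assoc, h, inv_mul_cancel_left]
  have h1 := H.inf _ (D.mul_mem (D.inv_mem hb') hb) (by rw [e]; exact V.mul_mem hw' (V.inv_mem hw))
  have e1 : b = b' := (inv_mul_eq_one.mp h1).symm
  subst e1
  exact ⟨rfl, mul_left_cancel h⟩

theorem card_eq : Nat.card A = Nat.card D * Nat.card V := by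
  rw [← Nat.card_prod]
  refine (Nat.card_eq_of_bijective (fun p : D × V => (p.1 : A) * p.2) ⟨fun p q h => ?_, fun x => ?_⟩).symm
  · have := H.unique p.1.2 q.1.2 p.2.2 q.2.2 h
    exact Prod.ext (Subtype.ext this.1) (Subtype.ext this.2)
  · obtain ⟨b, hb, w, hw, rfl⟩ := H.decomp x
    exact ⟨(⟨b, hb⟩, ⟨w, hw⟩), rfl⟩

theorem ne_top : V ≠ ⊤ := fun h => H.ne ((Subgroup.eq_bot_iff_forall D).mpr fun x hx =>
  H.inf x hx (h ▸ Subgroup.mem_top x))

theorem ne_bot : V ≠ ⊥ := fun h => by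
  have := H.four
  rw [h, Subgroup.card_bot] at this
  omega

theorem exists_ne_V : ∃ w ∈ V, w ≠ 1 :=
  V.bot_or_exists_ne_one.resolve_left H.ne_bot

theorem exists_ne_D : ∃ b ∈ D, b ≠ 1 :=
  D.bot_or_exists_ne_one.resolve_left H.ne

theorem exists_ne_member (g : G) : ∃ x ∈ g • D, x ≠ 1 := by
  obtain ⟨b, hb, hb1⟩ := H.exists_ne_D
  exact ⟨g • b, Subgroup.smul_mem_pointwise_smul _ _ _ hb, fun h => hb1 ((smulOne_iff g).mp h)⟩

/-- Two members sharing a non-trivial element coincide. -/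
theorem member_eq {g h : G} {x : A} (hx : x ∈ g • D) (hx' : x ∈ h • D) (h1 : x ≠ 1) : g • D = h • D := by
  by_contra hne
  refine h1 ?_
  have hk : (h⁻¹ * g) • D ≠ D := fun e => hne (by
    rw [mul_smul, inv_smul_eq_iff] at e
    exact e)
  have := H.meet _ hk (h⁻¹ • x) (by rw [mul_smul]; exact Subgroup.smul_mem_pointwise_smul _ _ _ hx)
    (Subgroup.mem_pointwise_smul_iff_inv_smul_mem.mp hx')
  exact (smulOne_iff h⁻¹).mp this

/-- A member other than `D` meeting `V` lies in `V`. -/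
theorem member_le {g : G} (hg : g • D ≠ D) {e : A} (he : e ∈ g • D) (heV : e ∈ V) (he1 : e ≠ 1) :
    g • D ≤ V := by
  classical
  intro x hx
  by_contra hxV
  obtain ⟨b, hb, w, hw, rfl⟩ := H.decomp x
  have hwE : w ∉ g • D := fun h => hxV (by
    have hb' : b ∈ g • D := by simpa using (g • D).mul_mem hx ((g • D).inv_mem h)
    rw [H.meet g hg b hb' hb, one_mul]
    exact hw)
  have hw1 : w ≠ 1 := fun h => hwE (h ▸ one_mem _)
  have hwe1 : w * e ≠ 1 := fun h => hwE (by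
    rw [mul_eq_one_iff_eq_inv.mp h]
    exact inv_mem he)
  obtain ⟨l, hl⟩ := H.tr (w * e) (V.mul_mem hw heV) hwe1 w hw hw1
  have hfree : ∀ u ∈ V, κ ^ l • u = u → u = 1 := by
    intro u hu hfix
    by_contra hu1
    obtain ⟨i, hi⟩ := H.tr u hu hu1 (w * e) (V.mul_mem hw heV) hwe1
    have : κ ^ l • (w * e) = w * e := by
      rw [← hi, ← mul_smul, ← pow_add, add_comm, pow_add, mul_smul, hfix]
    rw [hl] at this
    exact he1 (by simpa using this)
  have hxne : b * w ≠ 1 := fun h => hxV (h ▸ one_mem V)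
  have hlx : κ ^ l • ((b * w) * e) = b * w := by
    rw [mul_assoc, smul_mul', H.fix_pow l hb, hl]
  have hstab : (κ ^ l * g) • D = g • D := H.member_eq (x := b * w)
    (by rw [mul_smul, ← hlx]; exact Subgroup.smul_mem_pointwise_smul _ _ _ ((g • D).mul_mem hx he)) hx hxne
  rw [mul_smul] at hstab
  have hmove : ∀ y ∈ g • D, κ ^ l • y ∈ g • D := fun y hy => by
    have h := Subgroup.smul_mem_pointwise_smul y (κ ^ l) (g • D) hy
    rwa [hstab] at h
  let C := {c : A // c ∈ g • D ∧ c ∈ V}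
  let f : C → C := fun c => ⟨κ ^ l • c.1 * c.1,
    (g • D).mul_mem (hmove c.1 c.2.1) c.2.1,
    V.mul_mem (H.mem_pow l c.2.2) c.2.2⟩
  have hinj : Function.Injective f := fun c c' h => Subtype.ext (by
    have h' : κ ^ l • c.1 * c.1 = κ ^ l • c'.1 * c'.1 := congrArg Subtype.val h
    have : κ ^ l • (c.1 * c'.1) = c.1 * c'.1 := by
      rw [smul_mul']
      calc κ ^ l • c.1 * κ ^ l • c'.1 = (κ ^ l • c.1 * c.1) * (κ ^ l • c'.1 * c.1) := by
            rw [mul_mul_mul_comm, H.sq c.1, mul_one]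
        _ = (κ ^ l • c'.1 * c'.1) * (κ ^ l • c'.1 * c.1) := by rw [h']
        _ = c.1 * c'.1 := by rw [mul_mul_mul_comm, H.sq, one_mul, mul_comm]
    have := hfree _ (V.mul_mem c.2.2 c'.2.2) this
    rw [← mul_one c.1, ← H.sq c'.1, ← mul_assoc, this, one_mul])
  have hC : κ ^ l • w * w ∈ g • D := by
    have : (κ ^ l • (b * w)) * (b * w) ∈ g • D :=
      (g • D).mul_mem (hmove _ hx) hx
    rwa [smul_mul', H.fix_pow l hb, mul_mul_mul_comm, H.sq b, one_mul] at this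
  obtain ⟨c, hc⟩ := (Finite.injective_iff_surjective.mp hinj) ⟨_, hC, V.mul_mem (H.mem_pow l hw) hw⟩
  have hc' : κ ^ l • c.1 * c.1 = κ ^ l • w * w := congrArg Subtype.val hc
  have : κ ^ l • (w * c.1) = w * c.1 := by
    rw [smul_mul']
    calc κ ^ l • w * κ ^ l • c.1 = (κ ^ l • w * w) * (κ ^ l • c.1 * w) := by
          rw [mul_mul_mul_comm, H.sq w, mul_one]
      _ = (κ ^ l • c.1 * c.1) * (κ ^ l • c.1 * w) := by rw [hc']
      _ = w * c.1 := by rw [mul_mul_mul_comm, H.sq, one_mul, mul_comm]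
  have := hfree _ (V.mul_mem hw c.2.2) this
  exact hwE (by rw [← mul_one w, ← H.sq c.1, ← mul_assoc, this, one_mul]; exact c.2.1)

theorem not_le_iff {g : G} (hg : g • D ≠ D) : ¬ g • D ≤ V ↔ ∀ x ∈ g • D, x ∈ V → x = 1 := by
  refine ⟨fun h x hx hxV => by_contra fun h1 => h (H.member_le hg hx hxV h1), fun h hle => ?_⟩
  obtain ⟨x, hx, hx1⟩ := H.exists_ne_member g
  exact hx1 (h x hx (hle hx))

/-- A member meeting `V` trivially is a graph over `D`. -/
theorem graph {g : G} (hg : ∀ x ∈ g • D, x ∈ V → x = 1) {b : A} (hb : b ∈ D) :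
    ∃ w ∈ V, b * w ∈ g • D := by
  classical
  choose π hπD ψ hψV hπ using fun x : ↥(g • D) => H.decomp x.1
  have hinj : Function.Injective (fun x => (⟨π x, hπD x⟩ : D)) := fun x y h => Subtype.ext (by
    have h' : π x = π y := congrArg Subtype.val h
    have he : x.1⁻¹ * y.1 = (ψ x)⁻¹ * ψ y := by
      rw [← hπ x, ← hπ y, h', mul_inv_rev, mul_assoc, inv_mul_cancel_left]
    have := hg _ ((g • D).mul_mem (inv_mem x.2) y.2) (by rw [he]; exact V.mul_mem (inv_mem (hψV x)) (hψV y))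
    exact inv_mul_eq_one.mp this)
  have hbij := (Nat.bijective_iff_injective_and_card _).mpr
    ⟨hinj, Nat.card_congr (Subgroup.equivSMul g D).toEquiv.symm⟩
  obtain ⟨x, hx⟩ := hbij.2 ⟨b, hb⟩
  refine ⟨ψ x, hψV x, ?_⟩
  have hx' : π x = b := congrArg Subtype.val hx
  rw [← hx', hπ x]
  exact x.2

theorem graph_ne {g : G} (hgD : g • D ≠ D) {b w : A} (hb : b ∈ D) (hb1 : b ≠ 1)
    (h : b * w ∈ g • D) : w ≠ 1 := fun e => hb1 (H.meet g hgD b (by rwa [e, mul_one] at h) hb)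

theorem cover_graph {g : G} (hgD : g • D ≠ D) (hg : ∀ x ∈ g • D, x ∈ V → x = 1) {b w : A}
    (hb : b ∈ D) (hb1 : b ≠ 1) (hw : w ∈ V) (hw1 : w ≠ 1) :
    ∃ k : ℕ, b * w ∈ (κ ^ k * g) • D := by
  obtain ⟨u, hu, hbu⟩ := H.graph hg hb
  obtain ⟨k, hk⟩ := H.tr u hu (H.graph_ne hgD hb hb1 hbu) w hw hw1
  refine ⟨k, ?_⟩
  rw [mul_smul, ← hk]
  nth_rewrite 1 [← H.fix_pow k hb]
  rw [← smul_mul']
  exact Subgroup.smul_mem_pointwise_smul _ _ _ hbu

theorem cover_inside {g : G} (hg : g • D ≤ V) {w : A} (hw : w ∈ V) (hw1 : w ≠ 1) :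
    ∃ k : ℕ, w ∈ (κ ^ k * g) • D := by
  obtain ⟨e, he, he1⟩ := H.exists_ne_member g
  obtain ⟨k, hk⟩ := H.tr e (hg he) he1 w hw hw1
  exact ⟨k, by rw [mul_smul, ← hk]; exact Subgroup.smul_mem_pointwise_smul _ _ _ he⟩

theorem graph_orbit {g h : G} (hgD : g • D ≠ D) (hg : ¬ g • D ≤ V) (hhD : h • D ≠ D) (hh : ¬ h • D ≤ V) :
    ∃ k : ℕ, κ ^ k • g • D = h • D := by
  obtain ⟨b, hb, hb1⟩ := H.exists_ne_D
  obtain ⟨w, hw, hbw⟩ := H.graph ((H.not_le_iff hhD).mp hh) hb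
  obtain ⟨k, hk⟩ := H.cover_graph hgD ((H.not_le_iff hgD).mp hg) hb hb1 hw (H.graph_ne hhD hb hb1 hbw)
  refine ⟨k, (mul_smul _ _ _).symm.trans (H.member_eq hk hbw fun e => hb1 ?_)⟩
  exact (H.unique hb (one_mem _) hw (one_mem _) (by rw [e, one_mul])).1

theorem inside_orbit {g h : G} (hg : g • D ≤ V) (hh : h • D ≤ V) : ∃ k : ℕ, κ ^ k • g • D = h • D := by
  obtain ⟨x, hx, hx1⟩ := H.exists_ne_member h
  obtain ⟨k, hk⟩ := H.cover_inside hg (hh hx) hx1
  exact ⟨k, (mul_smul _ _ _).symm.trans (H.member_eq hk hx hx1)⟩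

theorem pow_fix (k : ℕ) : κ ^ k • D = D := by
  refine le_antisymm (fun x hx => ?_) fun x hx => ?_
  · obtain ⟨d, hd, rfl⟩ := (Subgroup.mem_smul_pointwise_iff_exists _ _ _).mp hx
    rwa [H.fix_pow k hd]
  · rw [← H.fix_pow k hx]
    exact Subgroup.smul_mem_pointwise_smul _ _ _ hx

section Global

variable (hirr : ∀ W : Subgroup A, (∀ g : G, g • W = W) → W = ⊥ ∨ W = ⊤)
include hirr

theorem exists_move : ∃ g : G, g • D ≠ D := by
  by_contra h
  push Not at h
  rcases hirr D h with h1 | h1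
  · exact H.ne h1
  · exact H.ne_bot ((Subgroup.eq_bot_iff_forall V).mpr fun x hx => H.inf x (h1 ▸ Subgroup.mem_top x) hx)

theorem not_invariant : ∃ g : G, g • V ≠ V := by
  by_contra h
  push Not at h
  exact (hirr V h).elim H.ne_bot H.ne_top

theorem exists_inside : ∃ g : G, g • D ≠ D ∧ g • D ≤ V := by
  by_contra hno
  push Not at hno
  obtain ⟨g0, hg0⟩ := H.exists_move hirr
  obtain ⟨g, hg⟩ := H.not_invariant hirr
  refine hg (Subgroup.eq_of_le_of_card_ge (fun x hx => by_contra fun hxV => ?_)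
    (Nat.card_congr (Subgroup.equivSMul g V).toEquiv).le)
  obtain ⟨v, hv, rfl⟩ := (Subgroup.mem_smul_pointwise_iff_exists _ _ _).mp hx
  obtain ⟨b, hb, w, hw, he⟩ := H.decomp (g • v)
  have hb1 : b ≠ 1 := fun e => hxV (by rw [← he, e, one_mul]; exact hw)
  obtain ⟨h, hh⟩ : ∃ h : G, g • v ∈ h • D := by
    rcases eq_or_ne w 1 with e | e
    · exact ⟨1, by rw [one_smul, ← he, e, mul_one]; exact hb⟩
    · obtain ⟨k, hk⟩ := H.cover_graph hg0 ((H.not_le_iff hg0).mp (hno g0 hg0)) hb hb1 hw e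
      exact ⟨_, he ▸ hk⟩
  have hv1 : v ≠ 1 := fun e => hxV (by rw [e, smul_one]; exact one_mem V)
  have hv' : v ∈ (g⁻¹ * h) • D := by
    rw [mul_smul, ← Subgroup.smul_mem_pointwise_smul_iff (a := g), smul_inv_smul]
    exact hh
  by_cases e : (g⁻¹ * h) • D = D
  · exact hv1 (H.inf v (e ▸ hv') hv)
  · exact hv1 ((H.not_le_iff e).mp (hno _ e) v hv' hv)

theorem exists_outside (htwo : ∀ K : Subgroup G, K.index ≠ 2) : ∃ g : G, g • D ≠ D ∧ ¬ g • D ≤ V := by
  by_contra hno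
  push Not at hno
  obtain ⟨g0, hg0, hle0⟩ := H.exists_inside hirr
  have hkey : ∀ g : G, g • V = V ∨ g • V = D := by
    intro g
    have hsub : ∀ x ∈ g • V, x ∈ D ∨ x ∈ V := by
      intro x hx
      obtain ⟨v, hv, rfl⟩ := (Subgroup.mem_smul_pointwise_iff_exists _ _ _).mp hx
      rcases eq_or_ne v 1 with rfl | hv1
      · exact Or.inl (by rw [smul_one]; exact one_mem _)
      obtain ⟨k, hk⟩ := H.cover_inside hle0 hv hv1
      have hm : g • v ∈ (g * (κ ^ k * g0)) • D := by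
        rw [mul_smul]; exact Subgroup.smul_mem_pointwise_smul _ _ _ hk
      by_cases e : (g * (κ ^ k * g0)) • D = D
      · exact Or.inl (e ▸ hm)
      · exact Or.inr (hno _ e hm)
    by_cases hle : g • V ≤ V
    · exact Or.inl (Subgroup.eq_of_le_of_card_ge hle (Nat.card_congr (Subgroup.equivSMul g V).toEquiv).le)
    refine Or.inr (Subgroup.eq_of_le_of_card_ge (fun x hx => by_contra fun hxD => ?_)
      (H.le.trans (Nat.card_congr (Subgroup.equivSMul g V).toEquiv).le))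
    obtain ⟨y, hy, hyV⟩ := SetLike.not_le_iff_exists.mp hle
    have hyD : y ∈ D := (hsub y hy).resolve_right hyV
    have hxV : x ∈ V := (hsub x hx).resolve_left hxD
    rcases hsub _ ((g • V).mul_mem hx hy) with h | h
    · exact hxD (by simpa using D.mul_mem h (D.inv_mem hyD))
    · exact hyV (by simpa using V.mul_mem (V.inv_mem hxV) h)
  obtain ⟨g, hg⟩ := H.not_invariant hirr
  have horb : orbit G V = {V, D} := by
    ext W
    refine ⟨fun ⟨h, hh⟩ => hh ▸ (hkey h), ?_⟩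
    rintro (rfl | rfl)
    · exact mem_orbit_self _
    · exact ⟨g, (hkey g).resolve_left hg⟩
  refine htwo (stabilizer G V) ?_
  rw [index_stabilizer, horb, Set.ncard_pair fun e : V = D => H.ne ?_]
  exact (Subgroup.eq_bot_iff_forall D).mpr fun x hx => H.inf x hx (e ▸ hx)

/-- The stabiliser of `D` fixes `V`: otherwise `G` is transitive on the pairs of points of distinct members and
induces `S₃` on a line. -/
theorem det (htwo : ∀ K : Subgroup G, K.index ≠ 2)
    (hS3 : ∀ (K : Subgroup G) (φ : K →* Equiv.Perm (Fin 3)), ¬ Function.Surjective φ) :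
    ∀ g : G, g • D = D → g • V = V := by
  classical
  intro g hg
  by_contra hgV
  obtain ⟨gc, hgcD, hgc⟩ := H.exists_inside hirr
  obtain ⟨gg, hggD, hgg⟩ := H.exists_outside hirr htwo
  obtain ⟨v, hv, hgv⟩ : ∃ v ∈ V, g • v ∉ V := by
    by_contra hno
    push Not at hno
    refine hgV (Subgroup.eq_of_le_of_card_ge (fun x hx => ?_) (Nat.card_congr (Subgroup.equivSMul g V).toEquiv).le)
    obtain ⟨w, hw, rfl⟩ := (Subgroup.mem_smul_pointwise_iff_exists _ _ _).mp hx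
    exact hno w hw
  have hv1 : v ≠ 1 := fun e => hgv (by rw [e, smul_one]; exact one_mem V)
  obtain ⟨k0, hk0⟩ := H.cover_inside hgc hv hv1
  let y0 : G := g * κ ^ k0
  have hy0 : y0 • D = D := by rw [mul_smul, H.pow_fix, hg]
  have hy0T : ¬ (y0 * gc) • D ≤ V := fun h => hgv (h (by
    rw [mul_assoc, mul_smul]; exact Subgroup.smul_mem_pointwise_smul _ _ _ hk0))
  have hy0D : (y0 * gc) • D ≠ D := fun e => hgcD (MulAction.injective y0 (by
    show y0 • gc • D = y0 • D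
    rw [← mul_smul, e, hy0]))
  -- every ordered pair of distinct members comes from one of them
  have hreach : ∀ f h : G, f • D ≠ h • D → ∃ x : G, x • D = f • D ∧ (x * gc) • D = h • D := by
    intro f h hne
    have hne' : (f⁻¹ * h) • D ≠ D := fun e => hne (by rwa [mul_smul, inv_smul_eq_iff, eq_comm] at e)
    obtain ⟨y, hy, hyC⟩ : ∃ y : G, y • D = D ∧ (y * gc) • D = (f⁻¹ * h) • D := by
      by_cases hle : (f⁻¹ * h) • D ≤ V
      · obtain ⟨k, hk⟩ := H.inside_orbit hgc hle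
        exact ⟨κ ^ k, H.pow_fix k, (mul_smul _ _ _).trans hk⟩
      · obtain ⟨k, hk⟩ := H.graph_orbit hy0D hy0T hne' hle
        exact ⟨κ ^ k * y0, by rw [mul_smul, hy0, H.pow_fix], by rw [mul_assoc, mul_smul]; exact hk⟩
    exact ⟨f * y, by rw [mul_smul, hy], by rw [mul_assoc, mul_smul, hyC, ← mul_smul, mul_inv_cancel_left]⟩
  have hmove : ∀ f h : G, f • D ≠ h • D → ∀ u ∈ h • D, u ≠ 1 → ∀ u' ∈ h • D, u' ≠ 1 →
      ∃ m : G, (∀ d ∈ f • D, m • d = d) ∧ m • u = u' := by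
    intro f h hne u hu hu1 u' hu' hu1'
    obtain ⟨x, hxD, hxC⟩ := hreach f h hne
    have hin : ∀ w ∈ h • D, x⁻¹ • w ∈ V := fun w hw => by
      rw [← hxC, mul_smul] at hw
      exact hgc (Subgroup.mem_pointwise_smul_iff_inv_smul_mem.mp hw)
    obtain ⟨k, hk⟩ := H.tr _ (hin u hu) (fun e => hu1 ((smulOne_iff _).mp e)) _ (hin u' hu')
      fun e => hu1' ((smulOne_iff _).mp e)
    refine ⟨x * κ ^ k * x⁻¹, fun d hd => ?_, by rw [mul_smul, mul_smul, hk, smul_inv_smul]⟩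
    rw [← hxD] at hd
    rw [mul_smul, mul_smul, H.fix_pow k (Subgroup.mem_pointwise_smul_iff_inv_smul_mem.mp hd), smul_inv_smul]
  have hpairs : ∀ f h f' h' : G, f • D ≠ h • D → f' • D ≠ h' • D → ∀ x ∈ f • D, x ≠ 1 → ∀ y ∈ h • D, y ≠ 1 →
      ∀ x' ∈ f' • D, x' ≠ 1 → ∀ y' ∈ h' • D, y' ≠ 1 → ∃ z : G, z • x = x' ∧ z • y = y' := by
    intro f h f' h' hne hne' x hx hx1 y hy hy1 x' hx' hx1' y' hy' hy1'
    obtain ⟨r, hrD, hrC⟩ := hreach f h hne
    obtain ⟨r', hrD', hrC'⟩ := hreach f' h' hne'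
    have e1 : (r' * r⁻¹) • f • D = f' • D := by rw [← hrD, mul_smul, inv_smul_smul, hrD']
    have e2 : (r' * r⁻¹) • h • D = h' • D := by
      rw [← hrC, ← hrC', mul_smul r gc, mul_smul r' gc, mul_smul r' r⁻¹, inv_smul_smul]
    have hzx : (r' * r⁻¹) • x ∈ f' • D := e1 ▸ Subgroup.smul_mem_pointwise_smul _ _ _ hx
    have hzy : (r' * r⁻¹) • y ∈ h' • D := e2 ▸ Subgroup.smul_mem_pointwise_smul _ _ _ hy
    obtain ⟨m, hm, hmx⟩ := hmove h' f' hne'.symm _ hzx (fun e => hx1 ((smulOne_iff _).mp e)) x' hx' hx1'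
    obtain ⟨m', hm', hmy⟩ := hmove f' h' hne' _ hzy (fun e => hy1 ((smulOne_iff _).mp e)) y' hy' hy1'
    refine ⟨m' * (m * (r' * r⁻¹)), ?_, ?_⟩
    · rw [mul_smul, mul_smul m, hmx, hm' x' hx']
    · rw [mul_smul, mul_smul m, hm _ hzy, hmy]
  -- a line meeting three members
  obtain ⟨a, ha, ha1⟩ := H.exists_ne_D
  obtain ⟨w, hw, hw1⟩ := H.exists_ne_V
  obtain ⟨k1, hk1⟩ := H.cover_inside hgc hw hw1
  obtain ⟨k2, hk2⟩ := H.cover_graph hggD ((H.not_le_iff hggD).mp hgg) ha ha1 hw hw1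
  have ha' : a ∈ (1 : G) • D := by rwa [one_smul]
  have haw1 : a * w ≠ 1 := fun e => ha1 (H.unique ha (one_mem _) hw (one_mem _) (by rw [e, one_mul])).1
  have hne1 : (1 : G) • D ≠ (κ ^ k1 * gc) • D := fun e =>
    hw1 (H.inf w (by rw [← e, one_smul] at hk1; exact hk1) hw)
  have hne2 : (κ ^ k1 * gc) • D ≠ (κ ^ k2 * gg) • D := fun e => ha1 (H.inf a ha (by
    have hle : (κ ^ k1 * gc) • D ≤ V := H.member_le (by rwa [one_smul, ne_comm] at hne1) hk1 hw hw1
    have h := V.mul_mem (hle (e.symm ▸ hk2)) (V.inv_mem hw)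
    rwa [mul_inv_cancel_right] at h))
  obtain ⟨t, ht1, ht2⟩ := hpairs _ _ _ _ hne1 hne1.symm a ha' ha1 w hk1 hw1 w hk1 hw1 a ha' ha1
  obtain ⟨r, hr1, hr2⟩ := hpairs _ _ _ _ hne1 hne2 a ha' ha1 w hk1 hw1 w hk1 hw1 (a * w) hk2 haw1
  let f : Fin 3 → A := ![a, w, a * w]
  have hf : Function.Injective f := by
    have h1 : a ≠ w := fun e => ha1 (H.inf a ha (e ▸ hw))
    have h2 : a ≠ a * w := fun e => hw1 (mul_eq_left.mp e.symm)
    have h3 : w ≠ a * w := fun e => ha1 (mul_eq_right.mp e.symm)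
    intro i j h
    fin_cases i <;> fin_cases j <;>
      first
      | rfl
      | exact absurd h h1 | exact absurd h h2 | exact absurd h h3
      | exact absurd h h1.symm | exact absurd h h2.symm | exact absurd h h3.symm
  let K : Subgroup G :=
    { carrier := {x | ∃ σ : Equiv.Perm (Fin 3), ∀ i, x • f i = f (σ i)}
      one_mem' := ⟨1, fun i => one_smul G _⟩
      mul_mem' := fun {x y} ⟨σ, hσ⟩ ⟨τ, hτ⟩ => ⟨σ * τ, fun i => by rw [mul_smul, hτ, hσ]; rfl⟩
      inv_mem' := fun {x} ⟨σ, hσ⟩ => ⟨σ⁻¹, fun i => by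
        rw [inv_smul_eq_iff, hσ, Equiv.Perm.coe_inv, Equiv.apply_symm_apply]⟩ }
  choose σ hσ using fun x : K => x.2
  have huniq : ∀ (x : K) (τ : Equiv.Perm (Fin 3)), (∀ i, (x : G) • f i = f (τ i)) → σ x = τ := fun x τ h =>
    Equiv.ext fun i => hf ((hσ x i).symm.trans (h i))
  let φ : K →* Equiv.Perm (Fin 3) :=
    { toFun := σ
      map_one' := huniq 1 1 fun i => one_smul G _
      map_mul' := fun x y => huniq (x * y) _ fun i => by rw [Subgroup.coe_mul, mul_smul, hσ, hσ]; rfl }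
  have hrange : ∀ (x : G) (τ : Equiv.Perm (Fin 3)), (∀ i, x • f i = f (τ i)) → τ ∈ φ.range := fun x τ h =>
    ⟨⟨x, τ, h⟩, huniq _ _ h⟩
  have hA : Equiv.swap (0 : Fin 3) 1 ∈ φ.range := hrange t _ fun i => by
    fin_cases i
    · exact ht1
    · exact ht2
    · show t • (a * w) = a * w
      rw [smul_mul', ht1, ht2, mul_comm]
  have hB : finRotate 3 ∈ φ.range := hrange r _ fun i => by
    fin_cases i
    · exact hr1
    · exact hr2
    · show r • (a * w) = a
      rw [smul_mul', hr1, hr2, mul_left_comm, H.sq, mul_one]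
  refine hS3 K φ fun τ => ?_
  have hsix : ∀ τ : Equiv.Perm (Fin 3), τ = 1 ∨ τ = Equiv.swap 0 1 ∨ τ = finRotate 3 ∨
      τ = finRotate 3 * finRotate 3 ∨ τ = Equiv.swap 0 1 * finRotate 3 ∨
      τ = Equiv.swap 0 1 * (finRotate 3 * finRotate 3) := by decide
  suffices h : τ ∈ φ.range from h
  rcases hsix τ with rfl | rfl | rfl | rfl | rfl | rfl
  exacts [one_mem _, hA, hB, mul_mem hB hB, mul_mem hA hB, mul_mem hA (mul_mem hB hB)]

/-- The orbital argument: `|D| = 2` and the relation on the members is a tournament. -/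
theorem orbital (htwo : ∀ K : Subgroup G, K.index ≠ 2)
    (hS3 : ∀ (K : Subgroup G) (φ : K →* Equiv.Perm (Fin 3)), ¬ Function.Surjective φ) :
    Nat.card D = 2 ∧ (∀ g : G, g • D ≠ D → (g • D ≤ V ↔ ¬ g⁻¹ • D ≤ V)) ∧
      ∀ x : A, x ≠ 1 → ∃ g : G, x ∈ g • D := by
  classical
  obtain ⟨gc, hgcD, hgc⟩ := H.exists_inside hirr
  obtain ⟨gg, hggD, hgg⟩ := H.exists_outside hirr htwo
  have hcov : ∀ x : A, x ≠ 1 → ∃ g : G, x ∈ g • D := by
    intro x hx1
    obtain ⟨b, hb, w, hw, rfl⟩ := H.decomp x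
    rcases eq_or_ne w 1 with e | e
    · exact ⟨1, by rw [one_smul, e, mul_one]; exact hb⟩
    rcases eq_or_ne b 1 with e' | e'
    · obtain ⟨k, hk⟩ := H.cover_inside hgc hw e
      exact ⟨_, by rw [e', one_mul]; exact hk⟩
    · exact let ⟨_, hk⟩ := H.cover_graph hggD ((H.not_le_iff hggD).mp hgg) hb e' hw e; ⟨_, hk⟩
  let p : orbit G D := ⟨D, mem_orbit_self D⟩
  let S : Set (orbit G D) := {E | E.1 ≠ D ∧ E.1 ≤ V}
  let T : Set (orbit G D) := {E | E.1 ≠ D ∧ ¬ E.1 ≤ V}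
  have hpres : ∀ g : G, g • p = p → ∀ E : orbit G D, ((g • E).1 ≠ D ↔ E.1 ≠ D) ∧ ((g • E).1 ≤ V ↔ E.1 ≤ V) := by
    intro g hg E
    have hg' : g • D = D := congrArg Subtype.val hg
    refine ⟨not_congr ?_, ?_⟩
    · show g • E.1 = D ↔ E.1 = D
      exact ⟨fun h => MulAction.injective g (h.trans hg'.symm), fun h => by rw [h, hg']⟩
    · show g • E.1 ≤ V ↔ E.1 ≤ V
      refine ⟨fun h => ?_, fun h => ?_⟩
      · rw [← H.det hirr htwo hS3 g hg'] at h
        exact Subgroup.pointwise_smul_le_pointwise_smul_iff.mp h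
      · exact (Subgroup.pointwise_smul_le_pointwise_smul_iff.mpr h).trans (H.det hirr htwo hS3 g hg').le
  have hS : ∀ g : G, g • p = p → ∀ E ∈ S, g • E ∈ S := fun g hg E hE =>
    ⟨(hpres g hg E).1.mpr hE.1, (hpres g hg E).2.mpr hE.2⟩
  have hT : ∀ g : G, g • p = p → ∀ E ∈ T, g • E ∈ T := fun g hg E hE =>
    ⟨(hpres g hg E).1.mpr hE.1, fun h => hE.2 ((hpres g hg E).2.mp h)⟩
  have hfixp : ∀ k : ℕ, κ ^ k • p = p := fun k => Subtype.ext (H.pow_fix k)
  have hStr : ∀ E ∈ S, ∀ F ∈ S, ∃ g : G, g • p = p ∧ g • E = F := by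
    rintro ⟨_, g, rfl⟩ hE ⟨_, h, rfl⟩ hF
    obtain ⟨k, hk⟩ := H.inside_orbit hE.2 hF.2
    exact ⟨_, hfixp k, Subtype.ext hk⟩
  have hTtr : ∀ E ∈ T, ∀ F ∈ T, ∃ g : G, g • p = p ∧ g • E = F := by
    rintro ⟨_, g, rfl⟩ hE ⟨_, h, rfl⟩ hF
    obtain ⟨k, hk⟩ := H.graph_orbit hE.1 hE.2 hF.1 hF.2
    exact ⟨_, hfixp k, Subtype.ext hk⟩
  have hpS : p ∉ S := fun h => h.1 rfl
  have hcov' : ∀ E : orbit G D, E ≠ p → E ∈ S ∨ E ∈ T := fun E hE =>
    (em (E.1 ≤ V)).imp (⟨fun e => hE (Subtype.ext e), ·⟩) (⟨fun e => hE (Subtype.ext e), ·⟩)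
  have hd : Disjoint S T := Set.disjoint_left.mpr fun E h h' => h'.2 h.2
  -- the sizes
  have hcS : S.ncard * (Nat.card D - 1) = Nat.card V - 1 := by
    have hd1 : ∀ W : Subgroup A, Nat.card {x : A // x ∈ W ∧ x ≠ 1} = Nat.card W - 1 := fun W => by
      rw [show Nat.card {x : A // x ∈ W ∧ x ≠ 1} = ((W : Set A) \ {1}).ncard from Nat.card_coe_set_eq _,
        Set.ncard_sdiff_singleton_of_mem (one_mem W), ← Nat.card_coe_set_eq]
      rfl
    haveI := Fintype.ofFinite S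
    have hsig : Nat.card (Σ E : S, {x : A // x ∈ E.1.1 ∧ x ≠ 1}) = Nat.card {x : A // x ∈ V ∧ x ≠ 1} := by
      refine Nat.card_eq_of_bijective (fun q => ⟨q.2.1, q.1.2.2 q.2.2.1, q.2.2.2⟩) ⟨?_, ?_⟩
      · rintro ⟨⟨⟨_, g, rfl⟩, hE⟩, x, hx, hx1⟩ ⟨⟨⟨_, h, rfl⟩, hF⟩, y, hy, hy1⟩ hxy
        obtain rfl : x = y := congrArg Subtype.val hxy
        have e := H.member_eq hx hy hx1
        exact Sigma.subtype_ext (Subtype.ext (Subtype.ext e)) rfl
      · rintro ⟨w, hw, hw1⟩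
        obtain ⟨k, hk⟩ := H.cover_inside hgc hw hw1
        have hne : (κ ^ k * gc) • D ≠ D := fun e => hw1 (H.inf w (e ▸ hk) hw)
        exact ⟨⟨⟨⟨_, κ ^ k * gc, rfl⟩, hne, H.member_le hne hk hw hw1⟩, w, hk, hw1⟩, rfl⟩
    rw [Nat.card_sigma, Finset.sum_congr rfl (g := fun _ => Nat.card D - 1) fun E _ => ?_, Finset.sum_const,
      Finset.card_univ, ← Nat.card_eq_fintype_card, Nat.card_coe_set_eq, smul_eq_mul, hd1] at hsig
    · exact hsig
    · obtain ⟨g, hg⟩ := E.1.2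
      rw [hd1, ← hg, ← Nat.card_congr (Subgroup.equivSMul g D).toEquiv]
  have hcT : T.ncard = Nat.card V - 1 := by
    obtain ⟨b, hb, hb1⟩ := H.exists_ne_D
    have : Nat.card T = ((V : Set A) \ {1}).ncard := by
      rw [← Nat.card_coe_set_eq]
      have hex : ∀ E : T, ∃ w ∈ V, b * w ∈ E.1.1 := by
        rintro ⟨⟨_, g, rfl⟩, hgD, hg⟩
        exact H.graph ((H.not_le_iff hgD).mp hg) hb
      choose w hwV hwE using hex
      have hw1 : ∀ E : T, w E ≠ 1 := fun E e => by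
        obtain ⟨⟨_, g, rfl⟩, hgD, hg⟩ := E
        exact H.graph_ne hgD hb hb1 (hwE ⟨⟨_, g, rfl⟩, hgD, hg⟩) e
      refine Nat.card_eq_of_bijective (fun E => ⟨w E, hwV E, hw1 E⟩) ⟨?_, ?_⟩
      · intro E F he
        have he' : w E = w F := congrArg Subtype.val he
        obtain ⟨g, hg⟩ := E.1.2
        obtain ⟨h, hh⟩ := F.1.2
        refine Subtype.ext (Subtype.ext ?_)
        rw [← hg, ← hh]
        refine H.member_eq (x := b * w E) (by show _ ∈ g • D; simp only at hg; rw [hg]; exact hwE E)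
          (by show _ ∈ h • D; simp only at hh; rw [hh, he']; exact hwE F) fun e => hb1 ?_
        exact (H.unique hb (one_mem _) (hwV E) (one_mem _) (by rw [e, one_mul])).1
      · rintro ⟨u, hu, hu1⟩
        obtain ⟨k, hk⟩ := H.cover_graph hggD ((H.not_le_iff hggD).mp hgg) hb hb1 hu hu1
        have hne : (κ ^ k * gg) • D ≠ D := fun e => hu1 (H.inf u (by
          have h := D.mul_mem (D.inv_mem hb) (e ▸ hk)
          rwa [inv_mul_cancel_left] at h) hu)
        have hnle : ¬ (κ ^ k * gg) • D ≤ V := fun h => hb1 (H.inf b hb (by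
          simpa using V.mul_mem (h hk) (V.inv_mem hu)))
        refine ⟨⟨⟨_, κ ^ k * gg, rfl⟩, hne, hnle⟩, Subtype.ext ?_⟩
        by_contra hneq
        have := hwE ⟨⟨_, κ ^ k * gg, rfl⟩, hne, hnle⟩
        have h2 := ((κ ^ k * gg) • D).mul_mem (inv_mem this) hk
        rw [mul_inv_rev, mul_assoc, inv_mul_cancel_left] at h2
        exact hneq (inv_mul_eq_one.mp ((H.not_le_iff hne).mp hnle _ h2 (V.mul_mem (inv_mem (hwV _)) hu)))
    rw [← Nat.card_coe_set_eq, this, Set.ncard_sdiff_singleton_of_mem (one_mem V), ← Nat.card_coe_set_eq]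
    rfl
  have hqeven : Even (Nat.card V) := by
    obtain ⟨w, hw, hw1⟩ := H.exists_ne_V
    have : orderOf (⟨w, hw⟩ : V) = 2 :=
      orderOf_eq_prime (by rw [pow_two]; exact Subtype.ext (H.sq w)) fun e => hw1 (congrArg Subtype.val e)
    exact even_iff_two_dvd.mpr (this ▸ orderOf_dvd_natCard _)
  have hq : Odd (Nat.card V - 1) := Nat.Even.sub_odd (by have := H.four; omega) hqeven odd_one
  have hSodd : Odd S.ncard := (Nat.odd_mul.mp (hcS ▸ hq)).1
  have hodd : Odd (Nat.card (orbit G D)) := by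
    have : (Set.univ : Set (orbit G D)) = insert p (S ∪ T) := by
      ext E
      simp only [Set.mem_univ, Set.mem_insert_iff, Set.mem_union, true_iff]
      by_cases h : E = p
      · exact Or.inl h
      · exact Or.inr (hcov' E h)
    rw [← Set.ncard_univ, this, Set.ncard_insert_of_notMem
      (fun h => h.elim (fun h => h.1 rfl) fun h => h.1 rfl), Set.ncard_union_eq hd, hcT]
    exact (hSodd.add_odd hq).add_one
  have hne : S.Nonempty := ⟨⟨_, gc, rfl⟩, hgcD, hgc⟩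
  rcases paired_cases hS hT hStr hTtr hpS hne ⟨⟨_, gg, rfl⟩, hggD, hgg⟩ hcov' hd with hsym | ⟨hST, hanti, htot⟩
  · exact (handshake hS hodd hSodd hpS hsym).elim
  have hD2 : Nat.card D = 2 := by
    rw [hST, hcT] at hcS
    have h4 := H.four
    have := Nat.eq_of_mul_eq_mul_left (by omega) (hcS.trans (Nat.mul_one _).symm)
    omega
  refine ⟨hD2, fun g hg => ⟨fun h h' => ?_, fun h => by_contra fun h' => ?_⟩, hcov⟩
  · exact hanti g ⟨hg, h⟩ ⟨fun e => hg (by
      calc g • D = g • g⁻¹ • D := congrArg _ (e : g⁻¹ • D = D).symm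
        _ = D := smul_inv_smul _ _), h'⟩
  · exact h (htot g ⟨hg, h'⟩).2

end Global

end LinearBlock

/-- Blocks of equal size meeting trivially: `|A| = 8`, `|G| = 21`. -/
theorem linearBlock_eight {G : Type v} [Group G] {A : Type u} [CommGroup A] [Finite A]
    [MulDistribMulAction G A] (hfaith : ∀ g : G, (∀ a : A, g • a = a) → g = 1)
    (hirr : ∀ W : Subgroup A, (∀ g : G, g • W = W) → W = ⊥ ∨ W = ⊤)
    (hS3 : ∀ (K : Subgroup G) (φ : K →* Equiv.Perm (Fin 3)), ¬ Function.Surjective φ)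
    (htwo : ∀ K : Subgroup G, K.index ≠ 2)
    {D V : Subgroup A} {κ : G} (H : LinearBlock G D V κ) :
    Nat.card D = 2 ∧ Nat.card A = 8 ∧ Nat.card G = 21 ∧ ∀ x y : A, x ≠ 1 → y ≠ 1 → ∃ g : G, g • x = y := by
  classical
  obtain ⟨hD2, htour, hcov⟩ := H.orbital hirr htwo hS3
  obtain ⟨a, haD, ha1, ha⟩ : ∃ a ∈ D, a ≠ 1 ∧ ∀ x ∈ D, x = 1 ∨ x = a := by
    obtain ⟨a, ha1, huniq⟩ := (Nat.card_eq_two_iff' (1 : D)).mp hD2
    exact ⟨a, a.2, fun e => ha1 (Subtype.ext e), fun x hx =>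
      (em ((⟨x, hx⟩ : D) = 1)).imp (congrArg Subtype.val) fun h => congrArg Subtype.val (huniq _ h)⟩
  have hmem : ∀ (g : G) (x : A), x ≠ 1 → (x ∈ g • D ↔ g • a = x) := by
    refine fun g x hx => ⟨fun h => ?_, fun h => h ▸ Subgroup.smul_mem_pointwise_smul _ _ _ haD⟩
    obtain ⟨d, hd, rfl⟩ := (Subgroup.mem_smul_pointwise_iff_exists _ _ _).mp h
    rcases ha d hd with rfl | rfl
    · exact absurd (smul_one g) hx
    · rfl
  have htrans : ∀ x : A, x ≠ 1 → ∃ g : G, g • a = x := fun x hx =>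
    (hcov x hx).imp fun g h => (hmem g x hx).mp h
  have hne : ∀ g : G, g • a ≠ 1 := fun g h => ha1 ((smulOne_iff g).mp h)
  have hfixD : ∀ g : G, g • D = D ↔ g • a = a := fun g => by
    refine ⟨fun h => (hmem g a ha1).mp (h.symm ▸ haD), fun h => H.member_eq (h := 1) (x := a)
      ((hmem g a ha1).mpr h) (by rw [one_smul]; exact haD) ha1 |>.trans (one_smul G D)⟩
  have hle : ∀ g : G, g • D ≤ V ↔ g • a ∈ V := fun g => by
    refine ⟨fun h => h (Subgroup.smul_mem_pointwise_smul _ _ _ haD), fun h x hx => ?_⟩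
    rcases eq_or_ne x 1 with rfl | e
    · exact one_mem _
    · exact (hmem g x e).mp hx ▸ h
  -- the tournament
  choose! c hc using htrans
  have htour' : ∀ x y : A, x ≠ 1 → y ≠ 1 → x ≠ y → ((c x)⁻¹ • y ∈ V ↔ ¬ (c y)⁻¹ • x ∈ V) := by
    intro x y hx hy hxy
    have h := htour ((c x)⁻¹ * c y) fun e => hxy (by
      have := (hfixD _).mp e
      rw [mul_smul, hc y hy, inv_smul_eq_iff, hc x hx] at this
      exact this.symm)
    rwa [hle, hle, mul_inv_rev, inv_inv, mul_smul, mul_smul, hc y hy, hc x hx] at h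
  have hidx : ∀ x y : A, x * y ∈ V ↔ (x ∈ V ↔ y ∈ V) := by
    intro x y
    by_cases hx : x ∈ V
    · simp [hx, V.mul_mem_cancel_left hx]
    by_cases hy : y ∈ V
    · simp [hx, hy, V.mul_mem_cancel_right hy]
    simp only [hx, hy, iff_self, iff_true]
    obtain ⟨b, hb, w, hw, rfl⟩ := H.decomp x
    obtain ⟨b', hb', w', hw', rfl⟩ := H.decomp y
    obtain rfl := (ha b hb).resolve_left fun e => hx (by rw [e, one_mul]; exact hw)
    obtain rfl := (ha b' hb').resolve_left fun e => hy (by rw [e, one_mul]; exact hw')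
    rw [mul_mul_mul_comm, H.sq, one_mul]
    exact V.mul_mem hw hw'
  have h16 : ¬ 16 ≤ Nat.card A := by
    intro h16
    haveI := Fintype.ofFinite A
    have pick : ∀ s : Finset A, s.card < 16 → ∃ x, x ∉ s := fun s hs => by
      by_contra hall
      push Not at hall
      rw [Nat.card_eq_fintype_card, ← Finset.card_univ, ← Finset.eq_univ_iff_forall.mpr hall] at h16
      omega
    obtain ⟨z, hz⟩ := pick {1, a} (by have := Finset.card_le_two (a := (1 : A)) (b := a); omega)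
    simp only [Finset.mem_insert, Finset.mem_singleton, not_or] at hz
    obtain ⟨b₁, hb₁⟩ := pick {1, a, z, a * z} ((Finset.card_le_four (a := (1 : A))).trans_lt (by norm_num))
    obtain ⟨b₂, hb₂⟩ := pick ({1, a, z, a * z} ∪ {b₁, b₁ * a, b₁ * z, b₁ * (a * z)})
      (((Finset.card_union_le _ _).trans (Nat.add_le_add Finset.card_le_four Finset.card_le_four)).trans_lt
        (by norm_num))
    simp only [Finset.mem_union, Finset.mem_insert, Finset.mem_singleton, not_or] at hb₁ hb₂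
    have haz : a * z ≠ 1 := fun e => hz.2 (by
      have := congrArg (a * ·) e
      simpa [← mul_assoc, H.sq] using this)
    have hrel : ∀ b : A, b ≠ 1 → b ≠ a → b ≠ z → b ≠ a * z →
        ((c (a * z))⁻¹ • b ∈ V ↔ ¬ ((c a)⁻¹ • b ∈ V ↔ (c z)⁻¹ • b ∈ V)) := fun b h1 h2 h3 h4 => by
      rw [htour' _ _ haz h1 (Ne.symm h4), smul_mul', hidx, htour' _ _ h1 ha1 h2, htour' _ _ h1 hz.1 h3]
      tauto
    have h3 : ∀ w, w = 1 ∨ w = a ∨ w = z ∨ w = a * z → b₁ * b₂ ≠ w := fun w hw e => by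
      have e' : b₂ = b₁ * w := by rw [← e, ← mul_assoc, H.sq, one_mul]
      rcases hw with rfl | rfl | rfl | rfl
      · exact hb₂.2.1 (e'.trans (mul_one _))
      · exact hb₂.2.2.1 e'
      · exact hb₂.2.2.2.1 e'
      · exact hb₂.2.2.2.2 e'
    have r1 := hrel b₁ hb₁.1 hb₁.2.1 hb₁.2.2.1 hb₁.2.2.2
    have r2 := hrel b₂ hb₂.1.1 hb₂.1.2.1 hb₂.1.2.2.1 hb₂.1.2.2.2
    have r3 := hrel (b₁ * b₂) (h3 _ (.inl rfl)) (h3 _ (.inr (.inl rfl))) (h3 _ (.inr (.inr (.inl rfl))))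
      (h3 _ (.inr (.inr (.inr rfl))))
    simp only [smul_mul', hidx] at r3
    tauto
  have hV4 : Nat.card V = 4 := by
    have hp : IsPGroup 2 V := fun x => ⟨1, by rw [pow_one, pow_two]; exact Subtype.ext (H.sq x)⟩
    haveI : Fact (Nat.Prime 2) := ⟨Nat.prime_two⟩
    obtain ⟨n, hn⟩ := IsPGroup.iff_card.mp hp
    have h8 : Nat.card V < 8 := by
      rw [H.card_eq, hD2] at h16
      omega
    have h4 := H.four
    rw [hn] at h4 h8 ⊢
    have hn2 : 2 ≤ n := (Nat.pow_le_pow_iff_right (le_refl 2)).mp (show 2 ^ 2 ≤ 2 ^ n by simpa using h4)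
    have hn3 : n < 3 := (Nat.pow_lt_pow_iff_right (le_refl 2)).mp (show 2 ^ n < 2 ^ 3 by simpa using h8)
    rw [show n = 2 by omega]
    norm_num
  have hA8 : Nat.card A = 8 := by rw [H.card_eq, hD2, hV4]
  have hsym : ∀ x y : A, x ≠ 1 → y ≠ 1 → ∃ g : G, g • x = y := fun x y hx hy =>
    ⟨c y * (c x)⁻¹, by
      have hx' : (c x)⁻¹ • x = a := inv_smul_eq_iff.mpr (hc x hx).symm
      rw [mul_smul, hx', hc y hy]⟩
  refine ⟨hD2, hA8, ?_, hsym⟩
  -- the stabiliser of `a`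
  have horb : orbit G a = (Set.univ : Set A) \ {1} := by
    ext x
    refine ⟨fun ⟨g, hg⟩ => ⟨trivial, fun e => hne g (hg.trans e)⟩, fun hx => ⟨c x, hc x hx.2⟩⟩
  have hidx7 : (stabilizer G a).index = 7 := by
    rw [index_stabilizer, horb, Set.ncard_sdiff_singleton_of_mem (Set.mem_univ _), Set.ncard_univ, hA8]
  have hstabV : ∀ g ∈ stabilizer G a, g • V = V := fun g hg => H.det hirr htwo hS3 g ((hfixD g).mpr hg)
  have e3 : {v : A // v ∈ V ∧ v ≠ 1} ≃ Fin 3 := by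
    refine (Finite.equivFinOfCardEq ?_)
    rw [show Nat.card {v : A // v ∈ V ∧ v ≠ 1} = ((V : Set A) \ {1}).ncard from Nat.card_coe_set_eq _,
      Set.ncard_sdiff_singleton_of_mem (one_mem V), ← Nat.card_coe_set_eq]
    show Nat.card V - 1 = 3
    rw [hV4]
  have hpres : ∀ (g : stabilizer G a) (v : A), v ∈ V ∧ v ≠ 1 → (g : G) • v ∈ V ∧ (g : G) • v ≠ 1 := fun g v hv =>
    ⟨(hstabV g g.2) ▸ Subgroup.smul_mem_pointwise_smul _ _ _ hv.1, fun e => hv.2 ((smulOne_iff _).mp e)⟩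
  let π : stabilizer G a →* Equiv.Perm {v : A // v ∈ V ∧ v ≠ 1} :=
    { toFun := fun g =>
        { toFun := fun v => ⟨(g : G) • v.1, hpres g v.1 v.2⟩
          invFun := fun v => ⟨((g⁻¹ : stabilizer G a) : G) • v.1, hpres g⁻¹ v.1 v.2⟩
          left_inv := fun v => Subtype.ext (inv_smul_smul (g : G) _)
          right_inv := fun v => Subtype.ext (smul_inv_smul (g : G) _) }
      map_one' := Equiv.ext fun v => Subtype.ext (one_smul G _)
      map_mul' := fun g h => Equiv.ext fun v => Subtype.ext (mul_smul (g : G) (h : G) _) }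
  let φ : stabilizer G a →* Equiv.Perm (Fin 3) := e3.permCongrHom.toMonoidHom.comp π
  have hinj : Function.Injective φ := by
    refine (injective_iff_map_eq_one φ).mpr fun g hg => Subtype.ext (hfaith g fun x => ?_)
    have hg' : π g = 1 := e3.permCongrHom.injective (hg.trans (map_one _).symm)
    have hV' : ∀ v ∈ V, (g : G) • v = v := fun v hv => by
      rcases eq_or_ne v 1 with rfl | e
      · exact smul_one _
      · exact congrArg Subtype.val (DFunLike.congr_fun hg' ⟨v, hv, e⟩)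
    obtain ⟨b, hb, w, hw, rfl⟩ := H.decomp x
    rw [smul_mul', hV' w hw]
    rcases ha b hb with rfl | rfl
    · rw [smul_one]
    · rw [show (g : G) • b = b from g.2]
  have hdvd : Nat.card (stabilizer G a) ∣ 6 := by
    have h := Subgroup.card_dvd_of_injective φ hinj
    rwa [Nat.card_perm, Nat.card_fin] at h
  have hge : 3 ≤ Nat.card (stabilizer G a) := by
    haveI : Finite (stabilizer G a) := Finite.of_injective φ hinj
    have hsurj : Function.Surjective fun g : stabilizer G a => φ g 0 := fun i => by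
      obtain ⟨k, hk⟩ := H.tr _ (e3.symm 0).2.1 (e3.symm 0).2.2 _ (e3.symm i).2.1 (e3.symm i).2.2
      refine ⟨⟨κ ^ k, H.fix_pow k haD⟩, ?_⟩
      show e3 (π _ (e3.symm 0)) = i
      rw [show π ⟨κ ^ k, H.fix_pow k haD⟩ (e3.symm 0) = e3.symm i from Subtype.ext hk, e3.apply_symm_apply]
    simpa using Nat.card_le_card_of_surjective _ hsurj
  have hne6 : Nat.card (stabilizer G a) ≠ 6 := fun h6 => hS3 _ φ
    ((Nat.bijective_iff_injective_and_card φ).mpr ⟨hinj, by
      rw [h6, Nat.card_perm, Nat.card_fin]; rfl⟩).2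
  have h3 : Nat.card (stabilizer G a) = 3 := by
    have hle6 := Nat.le_of_dvd (by norm_num) hdvd
    interval_cases Nat.card (stabilizer G a) <;> omega
  rw [← (stabilizer G a).index_mul_card, hidx7, h3]

/-- The same for a group of automorphisms. -/
theorem linearBlock_eight_aut {A : Type u} [CommGroup A] [Finite A] (X : Subgroup (MulAut A))
    (hirr : ∀ W : Subgroup A, (∀ g : X, g • W = W) → W = ⊥ ∨ W = ⊤)
    (hS3 : ∀ (K : Subgroup X) (φ : K →* Equiv.Perm (Fin 3)), ¬ Function.Surjective φ)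
    (htwo : ∀ K : Subgroup X, K.index ≠ 2)
    {D V : Subgroup A} {κ : X} (H : LinearBlock X D V κ) :
    Nat.card D = 2 ∧ Nat.card A = 8 ∧ Nat.card X = 21 ∧ ∀ x y : A, x ≠ 1 → y ≠ 1 → ∃ g : X, g • x = y :=
  linearBlock_eight (fun _ h => Subtype.ext (MulEquiv.ext h)) hirr hS3 htwo H

end CfsgLib.S3Simple
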