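import Cfsg.Agent.Lib.S3Simple.Defs
import Cfsg.Agent.Lib.S3Simple.Linear
import Cfsg.Agent.Lib.QdSection

/-!
Section 3 of the blueprint, for a family of blocks.
-/

set_option autoImplicit false
set_option linter.unusedSectionVars false

namespace CfsgLib.S3Simple

open Cfsg
open scoped Pointwise

universe u

variable {L : Type u} [Group L] [Finite L] {A : Subgroup L} {q : ℕ} {𝔇 : Set (Subgroup L)}
  {V : Subgroup L → Subgroup L}

theorem Family.card_eq (hF : Family A q 𝔇 V) {D D' : Subgroup L} (hD : D ∈ 𝔇) (hD' : D' ∈ 𝔇) :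
    Nat.card D = Nat.card D' := by
  obtain ⟨g, -, hg⟩ := hF.transitive D hD D' hD'
  rw [← hg]
  exact (Subgroup.card_map_of_injective (MulAut.conj g).injective).symm

/-- Two blocks of the same size meeting trivially: only `|A| = 8` with an automiser of order 21. -/
theorem Family.cases (hfree : ¬ Involves (Equiv.Perm (Fin 3)) L) (hel : IsElementaryAbelian 2 A)
    (hirr : Irred A) (hfoc : Focal A) (hF : Family A q 𝔇 V) :
    (∀ D ∈ 𝔇, q < Nat.card D) ∨
      (Nat.card A = 8 ∧ q = 4 ∧ (∀ a ∈ A, a ≠ 1 → Subgroup.zpowers a ∈ 𝔇) ∧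
        (Subgroup.centralizer (A : Set L)).relIndex (Subgroup.normalizer (A : Set L)) = 21) := by
  classical
  refine or_iff_not_imp_left.mpr fun hsmall => ?_
  push Not at hsmall
  obtain ⟨D, hD, hDq⟩ := hsmall
  obtain ⟨k, hk, hq⟩ := hF.block D hD
  let N := Subgroup.normalizer (A : Set L)
  letI : CommGroup A := { (inferInstance : Group A) with mul_comm := hel.1.is_comm.comm }
  let ρ : N →* MulAut A := A.normalizerMonoidHom
  let X : Subgroup (MulAut A) := ρ.range
  have hρ : ∀ (n : N) (a : A), ((ρ.rangeRestrict n • a : A) : L) = (n : L) * a * (n : L)⁻¹ := fun _ _ => rfl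
  have himage : ∀ (n : N) (W : Subgroup A),
      (ρ.rangeRestrict n • W).map A.subtype = (W.map A.subtype).map (MulAut.conj (n : L)).toMonoidHom := by
    intro n W
    ext x
    simp only [Subgroup.mem_map, Subgroup.mem_smul_pointwise_iff_exists]
    constructor
    · rintro ⟨_, ⟨w, hw, rfl⟩, rfl⟩
      exact ⟨w, ⟨w, hw, rfl⟩, rfl⟩
    · rintro ⟨_, ⟨w, hw, rfl⟩, rfl⟩
      exact ⟨_, ⟨w, hw, rfl⟩, rfl⟩
  have hsurj : ∀ g : X, ∃ n : N, ρ.rangeRestrict n = g := MonoidHom.rangeRestrict_surjective ρ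
  have hirr' : ∀ W : Subgroup A, (∀ g : X, g • W = W) → W = ⊥ ∨ W = ⊤ := by
    intro W hW
    rcases hirr (W.map A.subtype) (Subgroup.map_subtype_le W) (fun g hg b hb => by
      have h := himage ⟨g, hg⟩ W
      rw [hW] at h
      rw [h]
      exact ⟨b, hb, rfl⟩) with h | h
    · exact Or.inl ((Subgroup.map_eq_bot_iff_of_injective W A.subtype_injective).mp h)
    · refine Or.inr ((Subgroup.eq_top_iff' W).mpr fun a => ?_)
      obtain ⟨w, hw, he⟩ : (a : L) ∈ W.map A.subtype := h.symm ▸ a.2
      rwa [← Subtype.ext he]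
  have hS3 : ∀ (K : Subgroup X) (φ : K →* Equiv.Perm (Fin 3)), ¬ Function.Surjective φ := by
    intro K φ hφ
    let K0 : Subgroup N := K.comap ρ.rangeRestrict
    let ψ : (K0.map N.subtype) →* Equiv.Perm (Fin 3) := φ.comp
      ((ρ.rangeRestrict.subgroupComap K).comp (K0.equivMapOfInjective N.subtype N.subtype_injective).symm.toMonoidHom)
    refine hfree (CfsgLib.QdSection.involves_of_surjective _ ψ ?_)
    exact hφ.comp ((ρ.rangeRestrict.subgroupComap_surjective_of_surjective K ρ.rangeRestrict_surjective).comp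
      (K0.equivMapOfInjective N.subtype N.subtype_injective).symm.surjective)
  have htwo : ∀ K : Subgroup X, K.index ≠ 2 := by
    intro K hK
    let f : X → Multiplicative (ZMod 2) := fun g => if g ∈ K then 1 else Multiplicative.ofAdd 1
    have hadd : (Multiplicative.ofAdd (1 : ZMod 2)) * Multiplicative.ofAdd 1 = 1 := rfl
    have hmul : ∀ x y : X, f (x * y) = f x * f y := fun x y => by
      simp only [f, Subgroup.mul_mem_iff_of_index_two hK]
      split_ifs <;> first | simp_all | tauto
    let ψ : X →* Multiplicative (ZMod 2) := MonoidHom.mk' f hmul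
    obtain ⟨g, hg⟩ : ∃ g : X, g ∉ K := by
      by_contra h
      push Not at h
      rw [(Subgroup.eq_top_iff' K).mpr h, Subgroup.index_top] at hK
      omega
    obtain ⟨n, hn⟩ := hsurj g
    have h1 : ψ (ρ.rangeRestrict n) = 1 := DFunLike.congr_fun (hfoc (ψ.comp ρ.rangeRestrict)) n
    rw [hn] at h1
    simp only [ψ, MonoidHom.mk'_apply, f, if_neg hg] at h1
    exact absurd h1 (by decide)
  -- the block on `A`
  let κ : X := ρ.rangeRestrict ⟨k, hk.norm⟩
  have hpow : ∀ (i : ℕ) (a : A), ((κ ^ i • a : A) : L) = k ^ i * a * (k ^ i)⁻¹ := fun i a => by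
    show ((ρ.rangeRestrict ⟨k, hk.norm⟩ ^ i • a : A) : L) = _
    rw [← map_pow, hρ]
    rfl
  have hcard : ∀ W : Subgroup L, W ≤ A → Nat.card (W.subgroupOf A) = Nat.card W := fun W hW =>
    Nat.card_congr (Subgroup.subgroupOfEquivOfLe hW).toEquiv
  have hdD : ∀ n : N, (ρ.rangeRestrict n • D.subgroupOf A).map A.subtype =
      D.map (MulAut.conj (n : L)).toMonoidHom := fun n => by
    rw [himage, Subgroup.map_subgroupOf_eq_of_le hk.D_le]
  have H : LinearBlock X (D.subgroupOf A) ((V D).subgroupOf A) κ :=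
    { sq := fun a => Subtype.ext (by
        rw [Subgroup.coe_mul, Subgroup.coe_one, ← pow_two]
        exact hel.2 _ a.2)
      inf := fun x hx hxV => Subtype.ext (by
        have : (x : L) ∈ D ⊓ V D := ⟨hx, hxV⟩
        rw [hk.disjoint] at this
        exact this)
      sup := by rw [← Subgroup.subgroupOf_sup hk.D_le hk.V_le, hk.sup, Subgroup.subgroupOf_self]
      ne := fun e => hk.D_ne (by
        rw [← Subgroup.map_subgroupOf_eq_of_le hk.D_le, e, Subgroup.map_bot])
      four := by rw [hcard _ hk.V_le]; exact hk.four_le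
      le := by rw [hcard _ hk.D_le, hcard _ hk.V_le, hq]; exact hDq
      fixD := fun d hd => Subtype.ext (by
        rw [hρ]
        show k * (d : L) * k⁻¹ = d
        exact (hk.cent (d : L) hd).symm ▸ mul_inv_cancel_right _ _)
      memV := fun v hv => by
        show ((κ • v : A) : L) ∈ V D
        rw [hρ]
        exact hk.inv _ hv
      tr := fun v hv hv1 w hw hw1 => by
        obtain ⟨i, hi⟩ := hk.trans v hv (fun e => hv1 (Subtype.ext e)) w hw fun e => hw1 (Subtype.ext e)
        exact ⟨i, Subtype.ext ((hpow i v).trans hi)⟩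
      meet := fun g hg x hx hxD => by
        obtain ⟨n, rfl⟩ := hsurj g
        by_contra hx1
        set D' := D.map (MulAut.conj (n : L)).toMonoidHom with hD'def
        have hD' : D' ∈ 𝔇 := hF.conj D hD n n.2
        have hne : D' ≠ D := fun e => hg (Subgroup.map_injective A.subtype_injective
          ((hdD n).trans (e.trans (Subgroup.map_subgroupOf_eq_of_le hk.D_le).symm)))
        have hxD' : (x : L) ∈ D' := (hdD n).le ⟨x, hx, rfl⟩
        obtain ⟨h1, h2, h3⟩ := hF.meet D hD D' hD' hne.symm fun e => hx1 (Subtype.ext (by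
          have h : (x : L) ∈ D ⊓ D' := ⟨hxD, hxD'⟩
          rw [e] at h
          exact h))
        obtain ⟨k', -, hq'⟩ := hF.block D' hD'
        have e1 : V D' = D := Subgroup.eq_of_le_of_card_ge h1 (by rw [hq']; exact hDq)
        have e2 : V D = D' := Subgroup.eq_of_le_of_card_ge h2 (by rw [hq, hF.card_eq hD' hD]; exact hDq)
        rw [e1, e2] at h3
        refine hx1 (Subtype.ext ?_)
        have h : (x : L) ∈ D' ⊓ D := ⟨hxD', hxD⟩
        rw [h3] at h
        exact h }
  obtain ⟨hD2, hA8, hX, htr⟩ := linearBlock_eight_aut X hirr' hS3 htwo H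
  rw [hcard _ hk.D_le] at hD2
  refine ⟨hA8, ?_, ?_, ?_⟩
  · have h := H.card_eq
    rw [hA8, hcard _ hk.D_le, hcard _ hk.V_le, hq, hD2] at h
    omega
  · intro a ha ha1
    obtain ⟨d, hd, hd1⟩ : ∃ d ∈ D, d ≠ 1 := D.bot_or_exists_ne_one.resolve_left hk.D_ne
    obtain ⟨g, hg⟩ := htr ⟨d, hk.D_le hd⟩ ⟨a, ha⟩ (fun e => hd1 (congrArg Subtype.val e))
      fun e => ha1 (congrArg Subtype.val e)
    obtain ⟨n, rfl⟩ := hsurj g
    have he : (n : L) * d * (n : L)⁻¹ = a := congrArg Subtype.val hg
    have hm : D.map (MulAut.conj (n : L)).toMonoidHom = Subgroup.zpowers a := by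
      refine (Subgroup.eq_of_le_of_card_ge (Subgroup.zpowers_le.mpr (Subgroup.mem_map.mpr ⟨d, hd, he⟩)) ?_).symm
      rw [Subgroup.card_map_of_injective (MulAut.conj (n : L)).injective, hD2, Nat.card_zpowers,
        orderOf_eq_prime (hel.2 a ha) ha1]
    exact hm ▸ hF.conj D hD n n.2
  · rw [← hX]
    show ((Subgroup.centralizer (A : Set L)).subgroupOf N).index = _
    rw [← A.normalizerMonoidHom_ker, Subgroup.index_ker]

end CfsgLib.S3Simple
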