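import Cfsg.Agent.Lib.S3Simple.Many
import Cfsg.Agent.Lib.S3Simple.LinearCases

/-!
An irreducible `A` of order at least eight has order eight and seven blocks.

Blueprint: `blueprint/S3Free.md`, sections 2 to 4.
-/

set_option autoImplicit false
set_option linter.unusedSectionVars false
set_option linter.style.haveILetI false

namespace CfsgLib.S3Simple

open Cfsg CfsgLib.Comp CfsgLib.AfterFT.CoreSep

universe u

variable {L : Type u} [Group L] [Finite L] {S : Sylow 2 L} {A : Subgroup L}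

/-- Disjoint commuting subgroups multiply their orders. -/
theorem card_mul_le_of_disjoint {H K M : Subgroup L} (hH : H ≤ M) (hK : K ≤ M) (hd : H ⊓ K = ⊥) :
    Nat.card H * Nat.card K ≤ Nat.card M := by
  rw [← Nat.card_prod]
  refine Nat.card_le_card_of_injective
    (fun p : H × K => (⟨(p.1 : L) * p.2, M.mul_mem (hH p.1.2) (hK p.2.2)⟩ : M)) fun p q hpq => ?_
  have h' : (p.1 : L) * p.2 = q.1 * q.2 := congrArg Subtype.val hpq
  have hm : (q.1 : L)⁻¹ * p.1 ∈ H ⊓ K := by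
    refine ⟨H.mul_mem (H.inv_mem q.1.2) p.1.2, ?_⟩
    rw [show (q.1 : L)⁻¹ * p.1 = q.2 * (p.2 : L)⁻¹ by
      rw [eq_mul_inv_iff_mul_eq, mul_assoc, h', inv_mul_cancel_left]]
    exact K.mul_mem q.2.2 (K.inv_mem p.2.2)
  rw [hd, Subgroup.mem_bot] at hm
  have e1 : (q.1 : L) = p.1 := inv_mul_eq_one.mp hm
  rw [e1] at h'
  exact Prod.ext (Subtype.ext e1.symm) (Subtype.ext (mul_left_cancel h'))

/-- Sections 2 to 4. -/
theorem Hyp.eight_of_irred (h : Hyp L) (hA : Closed S A) (hI : Irred A) (h8 : 8 ≤ Nat.card A) :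
    Nat.card A = 8 ∧ (∀ a ∈ A, a ≠ 1 → Blocked A (Subgroup.zpowers a)) ∧
      (Subgroup.centralizer (A : Set L)).relIndex (Subgroup.normalizer (A : Set L)) = 21 := by
  classical
  haveI : Fact (Nat.Prime 2) := ⟨Nat.prime_two⟩
  obtain ⟨D1, hD1⟩ := h.exists_blocked hA h8
  have hex : ∃ n, ∃ D, Blocked A D ∧ Nat.card D = n := ⟨_, D1, hD1, rfl⟩
  obtain ⟨D0, hD0, hn⟩ := Nat.find_spec hex
  have hmin : ∀ D, Blocked A D → Nat.card D0 ≤ Nat.card D := fun D hD =>
    hn ▸ Nat.find_min' hex ⟨D, hD, rfl⟩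
  obtain ⟨q, V, hF, hAq, hq4, hblk⟩ := h.exists_family hA hD0
  set O : Set (Subgroup L) := {D' | ∃ g ∈ Subgroup.normalizer (A : Set L), D0.map (MulAut.conj g).toMonoidHom = D'}
  rcases hF.cases h.free hA.elem hI (h.focal hA) with hlarge | ⟨hc, -, hall, hrel⟩
  swap
  · exact ⟨hc, fun a ha ha1 => (hblk _ (hall a ha ha1)).1, hrel⟩
  exfalso
  obtain ⟨n, hn2⟩ := IsPGroup.iff_card.mp hA.isPGroup
  obtain ⟨e, -, he⟩ := (Nat.dvd_prime_pow Nat.prime_two).mp (hn2 ▸ Dvd.intro_left _ hAq.symm : q ∣ 2 ^ n)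
  have hD0O : D0 ∈ O := ⟨1, one_mem _, by ext x; simp⟩
  have hle : ∀ D, Blocked A D → Nat.card A ≤ Nat.card D * q := fun D hD => by
    rw [hAq]; exact Nat.mul_le_mul_right _ (hmin D hD)
  have hgt : ∀ D, Blocked A D → q < Nat.card D := fun D hD => (hlarge D0 hD0O).trans_le (hmin D hD)
  have hmeet : ∀ D D', Blocked A D → Blocked A D' → D ≠ D' → D ⊓ D' ≠ ⊥ := by
    intro D D' hD hD' _ he0
    have h1 := (card_mul_le_of_disjoint hD.le hD'.le he0).trans (hle D hD)
    exact absurd (Nat.le_of_mul_le_mul_left h1 Nat.card_pos) (hgt D' hD').not_ge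
  have hV : ∀ D D', Blocked A D → Blocked A D' → D ≠ D' →
      ∃ W k, IsBlock A D' W k ∧ W ≤ D := by
    intro D D' hD hD' hne
    obtain ⟨W, k, hk, -, -⟩ := h.exists_block hA hD'
    exact ⟨W, k, hk, h.le_of_meet hA hD hD' hne (hmeet D D' hD hD' hne) hk⟩
  have hsup : ∀ D D', Blocked A D → Blocked A D' → D ≠ D' → D ⊔ D' = A := by
    intro D D' hD hD' hne
    obtain ⟨W, k, hk, hW⟩ := hV D D' hD hD' hne
    refine le_antisymm (sup_le hD.le hD'.le) ?_
    rw [← hk.sup]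
    exact sup_le le_sup_right (hW.trans le_sup_left)
  -- a second and a third member of the orbit
  have hinv : ∀ B : Subgroup L, B ≤ A → (∀ g ∈ Subgroup.normalizer (A : Set L), B.map (MulAut.conj g).toMonoidHom = B) →
      B = ⊥ ∨ B = A := fun B hB hBg => hI B hB fun g hg b hb => (hBg g hg).le ⟨b, hb, rfl⟩
  obtain ⟨D', hD'O, hD'ne⟩ : ∃ D' ∈ O, D' ≠ D0 := by
    by_contra hcon
    push Not at hcon
    rcases hinv D0 hD0.le fun g hg => hcon _ (hF.conj D0 hD0O g hg) with h1 | h1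
    · exact hD0.ne_bot h1
    · exact hD0.1 h1
  obtain ⟨D'', hD''O, h0'', h'''⟩ : ∃ D'' ∈ O, D'' ≠ D0 ∧ D'' ≠ D' := by
    by_contra hcon
    push Not at hcon
    have htwo : ∀ D ∈ O, D = D0 ∨ D = D' := fun D hD => or_iff_not_imp_left.mpr (hcon D hD)
    rcases hinv (D0 ⊓ D') (inf_le_left.trans hD0.le) fun g hg => by
      rw [Subgroup.map_inf _ _ _ (MulAut.conj g).injective]
      rcases htwo _ (hF.conj D0 hD0O g hg) with h1 | h1 <;> rcases htwo _ (hF.conj D' hD'O g hg) with h2 | h2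
      · exact absurd (Subgroup.map_injective (MulAut.conj g).injective (h2.trans h1.symm)) hD'ne
      · rw [h1, h2]
      · rw [h1, h2, inf_comm]
      · exact absurd (Subgroup.map_injective (MulAut.conj g).injective (h2.trans h1.symm)) hD'ne with h1 | h1
    · exact hmeet D0 D' hD0 (hblk D' hD'O).1 hD'ne.symm h1
    · exact hD0.1 (le_antisymm hD0.le (h1 ▸ inf_le_left))
  obtain ⟨k', hk', hq'⟩ := hF.block D' hD'O
  obtain ⟨k'', hk'', hq''⟩ := hF.block D'' hD''O
  have hb' := (hblk D' hD'O).1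
  have hb'' := (hblk D'' hD''O).1
  have hsq : q * q ≤ Nat.card D0 := by
    have h1 := h.le_of_meet hA hD0 hb' hD'ne.symm (hmeet D0 D' hD0 hb' hD'ne.symm) hk'
    have h2 := h.le_of_meet hA hD0 hb'' h0''.symm (hmeet D0 D'' hD0 hb'' h0''.symm) hk''
    have h3 := h.le_of_meet hA hb' hb'' h'''.symm (hmeet D' D'' hb' hb'' h'''.symm) hk''
    have h4 := card_mul_le_of_disjoint h1 h2 (by
      rw [eq_bot_iff]
      exact fun x hx => hk'.disjoint.le ⟨h3 hx.2, hx.1⟩)
    rwa [hq', hq''] at h4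
  refine Many.false (e := e) ⟨?_, ⟨D0, hD0⟩, fun D hD => he ▸ hle D hD, fun D hD => ?_, hsup, hmeet, ?_⟩ h hA
  · by_contra hlt
    have : q < 4 := by
      rw [he]
      interval_cases e <;> norm_num
    omega
  · refine le_trans ?_ (hsq.trans (hmin D hD))
    rw [pow_add, ← he]
    exact Nat.mul_le_mul_left _ (by omega)
  · intro D E F hD hE hF' hne hFD hFE
    obtain ⟨W, k, hk, hW⟩ := hV D F hD hF' hFD.symm
    have hW' := h.le_of_meet hA hE hF' hFE.symm (hmeet E F hE hF' hFE.symm) hk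
    refine le_antisymm (sup_le (inf_le_left.trans hD.le) hF'.le) ?_
    rw [← hk.sup]
    exact sup_le le_sup_right ((le_inf hW hW').trans le_sup_left)

end CfsgLib.S3Simple
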