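import Cfsg.Agent.Lib.S3Simple.Blocks
import Cfsg.Agent.Lib.SolvSF.CoreBalance
import Cfsg.Agent.S0217

/-!
When `A` centralises the components of all the centralisers of its elements modulo cores.

Blueprint: `blueprint/S3Free.md`, section 2 and the criterion used in 6.1.
-/

set_option autoImplicit false
set_option linter.unusedSectionVars false
set_option linter.style.haveILetI false

namespace CfsgLib.S3Simple

open Cfsg CfsgLib.Comp CfsgLib.AfterFT.CoreSep

universe u

variable {L : Type u} [Group L] [Finite L] {S : Sylow 2 L} {A : Subgroup L}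

theorem Hyp.normalizer_ne_top' (h : Hyp L) (hA : Closed S A) : Subgroup.normalizer (A : Set L) ≠ ⊤ :=
  h.normalizer_ne_top hA.ne_bot fun e => h.nonabelian ⟨⟨fun x y =>
    hA.comm (e ▸ Subgroup.mem_top x) (e ▸ Subgroup.mem_top y)⟩⟩

theorem Closed.ne_top_of_odd (hA : Closed S A) {W : Subgroup L} (hW : Odd (Nat.card W)) : W ≠ ⊤ := fun e => by
  obtain ⟨a, ha, ha1⟩ := A.bot_or_exists_ne_one.resolve_left hA.ne_bot
  have h := Subgroup.orderOf_dvd_natCard W (show a ∈ W from e ▸ Subgroup.mem_top a)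
  rw [hA.orderOf_eq_two ha ha1] at h
  exact Nat.not_odd_iff_even.mpr (even_iff_two_dvd.mpr h) hW

/-- `A` centralises all the components when there is no block. -/
theorem central_of_no_block (hno : ∀ D, ¬ Blocked A D) {a : L} (ha : a ∈ A) (ha1 : a ≠ 1)
    {E : Subgroup (qq a)} (hE : IsComponent E) : imA A a ≤ Subgroup.centralizer (E : Set (qq a)) := by
  by_contra hne
  refine hno (blockD A a E) ⟨fun e => hne ?_, a, ha, ha1, E, hE, rfl⟩
  rintro _ ⟨⟨x, hx⟩, hxA, rfl⟩
  exact ((mem_blockD hx).mp (e.symm ▸ hxA)).2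

/-- The criterion: no component is moved by `A` and the cores generate a subgroup of odd order. -/
theorem Hyp.false_of_central (h : Hyp L) (hA : Closed S A)
    (hc : ∀ a ∈ A, a ≠ 1 → ∀ E : Subgroup (qq a), IsComponent E →
      imA A a ≤ Subgroup.centralizer (E : Set (qq a)))
    (hW : Odd (Nat.card ↥(⨆ a : {a : L // a ∈ A ∧ a ≠ 1}, centralizerPPrimeCore 2 (a : L)))) : False := by
  haveI : Fact (Nat.Prime 2) := ⟨Nat.prime_two⟩
  set W : Subgroup L := ⨆ a : {a : L // a ∈ A ∧ a ≠ 1}, centralizerPPrimeCore 2 (a : L) with hWdef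
  have hle : ∀ a ∈ A, a ≠ 1 → centralizerPPrimeCore 2 a ≤ W := fun a ha ha1 =>
    le_iSup (fun a : {a : L // a ∈ A ∧ a ≠ 1} => centralizerPPrimeCore 2 (a : L)) ⟨a, ha, ha1⟩
  by_cases hW1 : W = ⊥
  · refine h.false_of_le hA (h.normalizer_ne_top' hA) fun a ha ha1 x hx => ?_
    obtain ⟨o, ho, n, hn, rfl⟩ := h.cc_le_of_central hA ha ha1 (hc a ha ha1) hx
    obtain rfl : o = 1 := Subgroup.mem_bot.mp (hW1 ▸ hle a ha ha1 ho)
    rw [one_mul]
    exact hn.1
  · have hN : ∀ n ∈ Subgroup.normalizer (A : Set L), n ∈ Subgroup.normalizer (W : Set L) := fun n hn => by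
      refine mem_normalizer_of_maps fun x hx => ?_
      have hmap : W.map (MulAut.conj n).toMonoidHom ≤ W := by
        rw [hWdef, Subgroup.map_iSup, iSup_le_iff]
        rintro ⟨a, ha, ha1⟩
        rw [CfsgLib.SolvSF.map_centralizerPPrimeCore']
        exact hle _ ((Subgroup.mem_normalizer_iff.mp hn a).mp ha) fun e => ha1 (by simpa using e)
      exact hmap ⟨x, hx, rfl⟩
    refine h.false_of_le hA (h.normalizer_ne_top hW1 (hA.ne_top_of_odd hW)) fun a ha ha1 x hx => ?_
    obtain ⟨o, ho, n, hn, rfl⟩ := h.cc_le_of_central hA ha ha1 (hc a ha ha1) hx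
    exact mul_mem (Subgroup.le_normalizer (hle a ha ha1 ho)) (hN n hn.1)

/-- Section 2: there is a block when `|A| ≥ 8`. -/
theorem Hyp.exists_blocked (h : Hyp L) (hA : Closed S A) (h8 : 8 ≤ Nat.card A) : ∃ D, Blocked A D := by
  haveI : Fact (Nat.Prime 2) := ⟨Nat.prime_two⟩
  by_contra hno
  push Not at hno
  have hc : ∀ a ∈ A, a ≠ 1 → ∀ E : Subgroup (qq a), IsComponent E →
      imA A a ≤ Subgroup.centralizer (E : Set (qq a)) := fun a ha ha1 E hE =>
    central_of_no_block hno ha ha1 hE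
  refine h.false_of_central hA hc ?_
  have key := (Cfsg.Agent.S0217.result (p := 2) A (fun a ha b hb => hA.comm ha hb)
    (fun a ha => by rw [pow_two]; exact hA.sq ha) (by norm_num; exact h8) (fun a => centralizerPPrimeCore 2 a)
    (fun a _ _ => Subgroup.map_subtype_le _)
    (fun a _ _ hd => Nat.not_odd_iff_even.mpr (even_iff_two_dvd.mpr hd) (odd_card_core a))
    (fun a ha _ b hb x hx =>
      (Subgroup.mem_normalizer_iff.mp (cc_le_normalizer_core a (hA.mem_cc ha hb)) x).mp hx)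
    (fun a _ _ => oddSolv _ (odd_card_core a))
    (fun a ha _ b hb hb1 w hw => ?_)).1
  · rwa [Nat.odd_iff, ← Nat.two_dvd_ne_zero]
  · refine mem_core_of_centralizes (hA.mem_cc hb ha) (hA.sq ha) hw.1 hw.2 fun E hE => ?_
    have hz : ff b ⟨a, hA.mem_cc hb ha⟩ * ff b ⟨a, hA.mem_cc hb ha⟩ = 1 := by
      rw [← map_mul, show (⟨a, hA.mem_cc hb ha⟩ : ↥(cc b)) * ⟨a, hA.mem_cc hb ha⟩ = 1 from
        Subtype.ext (hA.sq ha), map_one]
    refine coreC_centralizes_component oddSolv (pPrimeCore_quotient_eq_bot 2) (zpowers_two hz) hE ?_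
      (image_core (hA.mem_cc hb ha) (hA.sq ha) ⟨w, hw.2⟩ hw.1)
    refine Subgroup.le_centralizer_iff.mp ?_
    rw [Subgroup.zpowers_le]
    exact hc b hb hb1 E hE (mem_imA ha _)

end CfsgLib.S3Simple
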