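import Cfsg.Agent.Lib.S3Simple.Models
import Cfsg.Agent.S0496

/-!
Two-local and automorphism facts for an abstract listed simple group.

Blueprint: `blueprint/S3Free.md`, section 1.
-/

set_option autoImplicit false
set_option linter.unusedSectionVars false
set_option linter.style.haveILetI false

namespace CfsgLib.S3Simple

open Cfsg

universe u v

variable {K : Type u} [Group K]

/-- The shape is carried along isomorphisms. -/
theorem TwoLocal.map {K' : Type v} [Group K'] (e : K ≃* K') {T : Subgroup K} {k : K} (h : TwoLocal T k) :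
    TwoLocal (T.map e.toMonoidHom) (e k) := by
  have hmem : ∀ x, x ∈ T.map e.toMonoidHom ↔ e.symm x ∈ T := fun x => Subgroup.mem_map_equiv
  have hs : ∀ {x : K'}, x * x = 1 → e.symm x * e.symm x = 1 := fun hx => by rw [← map_mul, hx, map_one]
  constructor
  · intro x hx h2 y hy
    refine e.symm.injective ?_
    rw [map_mul, map_mul]
    exact h.central _ ((hmem x).mp hx) (hs h2) _ ((hmem y).mp hy)
  · refine h.four.trans (le_of_eq (Nat.card_congr (e.toEquiv.subtypeEquiv fun x => ?_)))
    rw [hmem]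
    simp [← map_mul]
  · rw [MulEquiv.orderOf_eq]
    exact h.odd
  · intro x
    rw [hmem, hmem, map_mul, map_mul, map_inv, MulEquiv.symm_apply_apply]
    exact h.norm _
  · intro x hx h2 hx1 y hy hy2 hy1
    obtain ⟨i, hi⟩ := h.trans _ ((hmem x).mp hx) (hs h2) (fun e1 => hx1 (by simpa using congrArg e e1)) _
      ((hmem y).mp hy) (hs hy2) (fun e1 => hy1 (by simpa using congrArg e e1))
    refine ⟨i, e.symm.injective ?_⟩
    rw [map_mul, map_mul, map_inv, map_pow, MulEquiv.symm_apply_apply, hi]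
  · intro x hc
    rw [hmem]
    refine h.cent _ fun y hy hy2 => ?_
    refine e.injective ?_
    rw [map_mul, map_mul, MulEquiv.apply_symm_apply]
    exact hc _ ((hmem _).mpr (by rwa [MulEquiv.symm_apply_apply])) (by rw [← map_mul, hy2, map_one])
  · intro x hx
    obtain ⟨i, hi⟩ := h.borel (e.symm x) fun y hy hy2 => by
      have := (hmem _).mp (hx (e y) ((hmem _).mpr (by rwa [MulEquiv.symm_apply_apply]))
        (by rw [← map_mul, hy2, map_one]))
      rwa [map_mul, map_mul, map_inv, MulEquiv.symm_apply_apply] at this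
    refine ⟨i, fun y hy hy2 => e.symm.injective ?_⟩
    rw [map_mul, map_mul, map_mul, map_mul, map_inv, map_inv, map_pow, MulEquiv.symm_apply_apply,
      hi _ ((hmem y).mp hy) (hs hy2)]

variable [Finite K] [IsSimpleGroup K]

/-- A listed simple group is one of the two models. -/
theorem listed_model (hl : IsSuzukiOrPSL2OddPowerThree K) :
    (∃ (F : Type) (_ : Field F) (_ : Fintype F) (m : ℕ), 1 ≤ m ∧ Fintype.card F = 2 ^ (2 * m + 1) ∧
        Nonempty (K ≃* ↥(Cfsg.Sz F m))) ∨
      (∃ (F : Type) (_ : Field F) (_ : Fintype F) (m : ℕ), ReeTori.QData F m ∧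
        Nonempty (K ≃* Matrix.ProjectiveSpecialLinearGroup (Fin 2) F)) := by
  rcases hl with ⟨F, i1, i2, m, hm, hc, ⟨e⟩⟩ | ⟨F, i1, i2, n, hc, ⟨e⟩⟩
  · exact Or.inl ⟨F, i1, i2, m, hm, hc, ⟨e.trans (Suzuki.lieEquiv hc hm).symm⟩⟩
  · rcases Nat.eq_zero_or_pos n with rfl | hn
    · exfalso
      have h12 : Nat.card K = 12 := by
        rw [Nat.card_congr e.toEquiv]
        have := GoldschmidtS3.psl_card (F := F)
        rw [hc] at this
        norm_num at this
        omega
      by_cases hcm : IsMulCommutative K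
      · haveI := hcm
        have := Group.is_simple_iff_prime_card.mp (inferInstance : IsSimpleGroup K)
        rw [h12] at this
        norm_num at this
      · have := Cfsg.Agent.S0496.result (G := K) hcm (by omega)
        omega
    · exact Or.inr ⟨F, i1, i2, n, ⟨hn, hc⟩, ⟨e⟩⟩

/-- Transport of a Sylow subgroup to another one. -/
theorem exists_map_sylow {K' : Type v} [Group K'] [Finite K'] (e : K ≃* K') (T : Sylow 2 K) (T' : Subgroup K')
    (h2 : IsPGroup 2 T') (hi : ¬ 2 ∣ T'.index) :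
    ∃ f : K' ≃* K, T'.map f.toMonoidHom = (T : Subgroup K) := by
  haveI : Fact (Nat.Prime 2) := ⟨Nat.prime_two⟩
  have hidx : ¬ 2 ∣ (T'.map e.symm.toMonoidHom).index := by
    rwa [show (T'.map e.symm.toMonoidHom).index = T'.index from Subgroup.index_map_equiv T' e.symm]
  obtain ⟨g, hg⟩ := MulAction.exists_smul_eq K ((h2.map e.symm.toMonoidHom).toSylow hidx) T
  refine ⟨e.symm.trans (MulAut.conj g), ?_⟩
  rw [← hg, Sylow.coe_subgroup_smul]
  ext x
  rw [Subgroup.mem_map_equiv, Subgroup.mem_pointwise_smul_iff_inv_smul_mem]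
  show _ ↔ _ ∈ T'.map e.symm.toMonoidHom
  rw [Subgroup.mem_map_equiv, MulAut.smul_def]
  rfl

theorem exists_twoLocal (hl : IsSuzukiOrPSL2OddPowerThree K) (T : Sylow 2 K) :
    ∃ k, TwoLocal (T : Subgroup K) k := by
  rcases listed_model hl with ⟨F, i1, i2, m, hm, hc, ⟨e⟩⟩ | ⟨F, i1, i2, m, D, ⟨e⟩⟩
  · obtain ⟨k, hk⟩ := SzModel.exists_twoLocal hc hm
    haveI : Finite ↥(Cfsg.Sz F m) := Finite.of_equiv K e.toEquiv
    obtain ⟨f, hf⟩ := exists_map_sylow e T _ (Suzuki.U_isPGroup hc) (Suzuki.not_two_dvd_index_U hc hm)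
    exact ⟨f k, hf ▸ hk.map f⟩
  · haveI : Fact (Nat.Prime 3) := ⟨Nat.prime_three⟩
    haveI := D.charP
    obtain ⟨T', k, hk, h2, hi, -⟩ := L2Model.exists_twoLocal D
    obtain ⟨f, hf⟩ := exists_map_sylow e T T' h2 hi
    exact ⟨f k, hf ▸ hk.map f⟩

/-- A listed simple group is a Suzuki group, or `3` divides its order and its Sylow 2-subgroups are four-groups. -/
theorem suzuki_or_three (hl : IsSuzukiOrPSL2OddPowerThree K) :
    Lie.IsoSuzuki K ∨ (3 ∣ Nat.card K ∧ ∀ T : Sylow 2 K, Nat.card T = 4) := by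
  rcases listed_model hl with ⟨F, i1, i2, m, hm, hc, ⟨e⟩⟩ | ⟨F, i1, i2, m, D, ⟨e⟩⟩
  · exact Or.inl ⟨F, i1, i2, m, hm, hc, ⟨e.trans (Suzuki.lieEquiv hc hm)⟩⟩
  · haveI : Fact (Nat.Prime 3) := ⟨Nat.prime_three⟩
    haveI := D.charP
    refine Or.inr ⟨?_, fun T => ?_⟩
    · obtain ⟨x, hx⟩ := ReeTori.exists_three (F := F)
      rw [Nat.card_congr e.toEquiv, ← hx]
      exact orderOf_dvd_natCard x
    · obtain ⟨T', k, -, h2, hi, h4⟩ := L2Model.exists_twoLocal D
      obtain ⟨f, hf⟩ := exists_map_sylow e T T' h2 hi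
      show Nat.card (T : Subgroup K) = 4
      rw [← hf, Subgroup.card_map_of_injective f.injective, h4]

/-- A Suzuki group has order prime to three and non-abelian Sylow 2-subgroups. -/
theorem suzuki_sylow (hs : Lie.IsoSuzuki K) (T : Sylow 2 K) : ¬ IsMulCommutative T := by
  obtain ⟨F, i1, i2, m, hm, hc, ⟨e0⟩⟩ := hs
  let e := e0.trans (Suzuki.lieEquiv hc hm).symm
  obtain ⟨f, hf⟩ := exists_map_sylow e T _ (Suzuki.U_isPGroup hc) (Suzuki.not_two_dvd_index_U hc hm)
  intro hcm
  obtain ⟨r, hr0, hr1⟩ := Suzuki.exists_not_zero_one hc hm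
  have hz : (1 : F) = 0 := Suzuki.mem_center_U hc hm (b := 0) fun c d => f.injective (by
    have hm' : ∀ u ∈ Suzuki.U hc, f u ∈ (T : Subgroup K) := fun u hu => hf ▸ Subgroup.mem_map_of_mem _ hu
    rw [map_mul, map_mul]
    exact congrArg Subtype.val (hcm.is_comm.comm ⟨_, hm' _ ⟨1, 0, rfl⟩⟩ ⟨_, hm' _ ⟨c, d, rfl⟩⟩))
  exact one_ne_zero hz

/-- A Sylow 2-subgroup of a Suzuki group has at least eight elements squaring to one. -/
theorem suzuki_eight (hs : Lie.IsoSuzuki K) (T : Sylow 2 K) :
    8 ≤ Nat.card {x : K // x ∈ (T : Subgroup K) ∧ x * x = 1} := by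
  obtain ⟨F, i1, i2, m, hm, hc, ⟨e0⟩⟩ := hs
  let e := e0.trans (Suzuki.lieEquiv hc hm).symm
  obtain ⟨f, hf⟩ := exists_map_sylow e T _ (Suzuki.U_isPGroup hc) (Suzuki.not_two_dvd_index_U hc hm)
  let g : F → {x : K // x ∈ (T : Subgroup K) ∧ x * x = 1} := fun b =>
    ⟨f (Suzuki.uS hc 0 b), hf ▸ Subgroup.mem_map_of_mem _ ⟨0, b, rfl⟩,
      by rw [← map_mul, Suzuki.uS_sq, mul_zero, Suzuki.uS_zero, map_one]⟩
  have hg : Function.Injective g := fun b c h => (Suzuki.uS_inj hc (f.injective (congrArg Subtype.val h))).2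
  refine le_trans ?_ (Nat.card_le_card_of_injective g hg)
  rw [Nat.card_eq_fintype_card, hc]
  calc 8 = 2 ^ 3 := by norm_num
    _ ≤ _ := Nat.pow_le_pow_right (by norm_num) (by omega)

/-- The outer automorphism group is solvable. -/
theorem solvable_out (hl : IsSuzukiOrPSL2OddPowerThree K) :
    Group.IsSolvable (MulAut K ⧸ (MulAut.conj (G := K)).range) := by
  have key : ∀ {K' : Type} [Group K'] (e : K ≃* K'), Group.IsSolvable (MulAut K' ⧸ (MulAut.conj (G := K')).range) →
      Group.IsSolvable (MulAut K ⧸ (MulAut.conj (G := K)).range) := by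
    intro K' _ e h
    have hmap : (MulAut.conj (G := K')).range.map (MulAut.congr e).symm.toMonoidHom =
        (MulAut.conj (G := K)).range := by
      ext φ
      rw [Subgroup.mem_map_equiv, MulEquiv.symm_symm]
      constructor
      · rintro ⟨x, hx⟩
        refine ⟨e.symm x, (MulAut.congr e).injective ?_⟩
        rw [← hx]
        ext y
        simp [MulAut.congr]
      · rintro ⟨x, rfl⟩
        refine ⟨e x, ?_⟩
        ext y
        simp [MulAut.congr]
    exact Group.isSolvable_of_surjective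
      (f := (QuotientGroup.congr _ _ (MulAut.congr e).symm hmap).toMonoidHom) (MulEquiv.surjective _)
  rcases listed_model hl with ⟨F, i1, i2, m, hm, hc, ⟨e⟩⟩ | ⟨F, i1, i2, m, D, ⟨e⟩⟩
  · exact key e (SzModel.solvable_out hc hm)
  · haveI : Fact (Nat.Prime 3) := ⟨Nat.prime_three⟩
    haveI := D.charP
    exact key e (L2Model.solvable_out D)

/-- The centraliser of an element of order two is solvable. -/
theorem solvable_cent (hl : IsSuzukiOrPSL2OddPowerThree K) {z : K} (h1 : z ≠ 1) (h2 : z * z = 1) :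
    Group.IsSolvable (Subgroup.centralizer ({z} : Set K)) := by
  have key : ∀ {K' : Type} [Group K'] (e : K ≃* K'),
      Group.IsSolvable (Subgroup.centralizer ({e z} : Set K')) →
      Group.IsSolvable (Subgroup.centralizer ({z} : Set K)) := by
    intro K' _ e h
    let f : Subgroup.centralizer ({z} : Set K) →* Subgroup.centralizer ({e z} : Set K') :=
      (e.toMonoidHom.comp (Subgroup.centralizer ({z} : Set K)).subtype).codRestrict _ fun x =>
        Subgroup.mem_centralizer_singleton_iff.mpr (by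
          show e x * e z = e z * e x
          rw [← map_mul, ← map_mul, Subgroup.mem_centralizer_singleton_iff.mp x.2])
    exact Group.isSolvable_of_isSolvable_injective (f := f) fun a b hab =>
      Subtype.ext (e.injective (congrArg Subtype.val hab :))
  rcases listed_model hl with ⟨F, i1, i2, m, hm, hc, ⟨e⟩⟩ | ⟨F, i1, i2, m, D, ⟨e⟩⟩
  · refine key e ?_
    haveI : Fact (Nat.Prime 2) := ⟨Nat.prime_two⟩
    haveI : Finite ↥(Cfsg.Sz F m) := Finite.of_equiv K e.toEquiv
    set w := e z
    have hw2 : orderOf w = 2 := orderOf_eq_prime (by rw [pow_two, ← map_mul, h2, map_one]) fun h =>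
      h1 (e.injective (h.trans (map_one e).symm))
    have hP : IsPGroup 2 (Subgroup.zpowers w) := IsPGroup.of_card (n := 1) (by rw [Nat.card_zpowers, hw2, pow_one])
    obtain ⟨S, hS⟩ := hP.exists_le_sylow
    obtain ⟨g, hg⟩ := Suzuki.exists_conj_eq hc hm S
    have hU : g * w * g⁻¹ ∈ Suzuki.U hc ∨ g⁻¹ * w * g ∈ Suzuki.U hc := by
      have hwS : w ∈ (S : Subgroup ↥(Cfsg.Sz F m)) := hS (Subgroup.mem_zpowers w)
      rw [hg] at hwS
      obtain ⟨u, hu, he⟩ := hwS
      right
      rw [← he]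
      simpa [mul_assoc] using hu
    obtain ⟨g', hg'⟩ : ∃ g', g' * w * g'⁻¹ ∈ Suzuki.U hc := hU.elim (fun h => ⟨g, h⟩)
      (fun h => ⟨g⁻¹, by rwa [inv_inv]⟩)
    have hne : g' * w * g'⁻¹ ≠ 1 := fun h => by
      rw [mul_inv_eq_one, mul_eq_left] at h
      rw [h, orderOf_one] at hw2
      norm_num at hw2
    have hle := Suzuki.centralizer_unipotent hc hm hg' hne
    let f : Subgroup.centralizer ({w} : Set ↥(Cfsg.Sz F m)) →* Suzuki.U hc :=
      ((MulAut.conj g').toMonoidHom.comp (Subgroup.centralizer ({w} : Set ↥(Cfsg.Sz F m))).subtype).codRestrict _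
        fun x => hle (Subgroup.mem_centralizer_singleton_iff.mpr (by
          show MulAut.conj g' x * MulAut.conj g' w = MulAut.conj g' w * MulAut.conj g' x
          rw [← map_mul, ← map_mul, Subgroup.mem_centralizer_singleton_iff.mp x.2]))
    haveI := (Suzuki.U_isPGroup hc).isNilpotent
    exact Group.isSolvable_of_isSolvable_injective (f := f) fun a b hab =>
      Subtype.ext ((MulAut.conj g').injective (congrArg Subtype.val hab :))
  · haveI : Fact (Nat.Prime 3) := ⟨Nat.prime_three⟩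
    haveI := D.charP
    exact key e (L2Model.solvable_cent D (fun h => h1 (e.injective (h.trans (map_one e).symm)))
      (by rw [← map_mul, h2, map_one]))

/-- The automorphisms fixing an element of order two form a solvable group. -/
theorem solvable_stabilizer (hl : IsSuzukiOrPSL2OddPowerThree K) {z : K} (h1 : z ≠ 1) (h2 : z * z = 1) :
    Group.IsSolvable (MulAction.stabilizer (MulAut K) z) := by
  haveI := solvable_out hl
  haveI := solvable_cent hl h1 h2
  let f : Subgroup.centralizer ({z} : Set K) →* MulAction.stabilizer (MulAut K) z :=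
    ((MulAut.conj (G := K)).comp (Subgroup.centralizer ({z} : Set K)).subtype).codRestrict _ fun x => by
      rw [MulAction.mem_stabilizer_iff, MulAut.smul_def]
      show (x : K) * z * (x : K)⁻¹ = z
      rw [Subgroup.mem_centralizer_singleton_iff.mp x.2, mul_inv_cancel_right]
  refine Group.isSolvable_of_ker_le_range f
    ((QuotientGroup.mk' (MulAut.conj (G := K)).range).comp (MulAction.stabilizer (MulAut K) z).subtype)
    fun φ hφ => ?_
  obtain ⟨x, hx⟩ := (QuotientGroup.eq_one_iff _).mp hφ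
  have hxz : x * z = z * x := by
    have := (MulAction.mem_stabilizer_iff.mp φ.2)
    rw [MulAut.smul_def] at this
    have hx' : (φ : MulAut K) z = x * z * x⁻¹ := (DFunLike.congr_fun hx z).symm
    rwa [hx', mul_inv_eq_iff_eq_mul] at this
  exact ⟨⟨x, Subgroup.mem_centralizer_singleton_iff.mpr hxz⟩, Subtype.ext hx⟩

/-- A perfect group of automorphisms fixing an element of order two is trivial. -/
theorem perfect_fix (hl : IsSuzukiOrPSL2OddPowerThree K) {z : K} (h1 : z ≠ 1) (h2 : z * z = 1)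
    {X : Type v} [Group X] (hX : commutator X = ⊤) (f : X →* MulAut K) (hf : ∀ x, f x z = z) : f = 1 := by
  haveI := solvable_stabilizer hl h1 h2
  let g : X →* MulAction.stabilizer (MulAut K) z := f.codRestrict _ fun x => by
    rw [MulAction.mem_stabilizer_iff, MulAut.smul_def, hf]
  have hr : ∀ n, derivedSeries X n = ⊤ := fun n => by
    induction n with
    | zero => rfl
    | succ n ih => rw [derivedSeries_succ, ih, ← commutator_def, hX]
  obtain ⟨n, hn⟩ := (inferInstance : Group.IsSolvable (MulAction.stabilizer (MulAut K) z)).solvable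
  refine MonoidHom.ext fun x => ?_
  have h := map_derivedSeries_le_derivedSeries g n (Subgroup.mem_map_of_mem g (hr n ▸ Subgroup.mem_top x))
  rw [hn, Subgroup.mem_bot] at h
  exact congrArg Subtype.val h

/-- In an `S₃`-free group of automorphisms containing the inner ones, the automorphisms of 2-power order are inner. -/
theorem inner_of_two (hl : IsSuzukiOrPSL2OddPowerThree K) (H : Subgroup (MulAut K))
    (hinn : (MulAut.conj (G := K)).range ≤ H) (hS : ¬ Involves (Equiv.Perm (Fin 3)) H)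
    {φ : MulAut K} (hφ : φ ∈ H) {j : ℕ} (ho : orderOf φ = 2 ^ j) :
    φ ∈ (MulAut.conj (G := K)).range := by
  rcases listed_model hl with ⟨F, i1, i2, m, hm, hc, ⟨e⟩⟩ | ⟨F, i1, i2, m, D, ⟨e⟩⟩
  · obtain ⟨g, hg⟩ := SzModel.inner_of_two hc hm (MulAut.congr e φ) (j := j) (by rw [MulEquiv.orderOf_eq, ho])
    refine ⟨e.symm g, (MulAut.congr e).injective ?_⟩
    rw [← hg]
    ext y
    simp [MulAut.congr]
  · haveI : Fact (Nat.Prime 3) := ⟨Nat.prime_three⟩
    haveI := D.charP
    have hinn' : (MulAut.conj (G := Matrix.ProjectiveSpecialLinearGroup (Fin 2) F)).range ≤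
        H.map (MulAut.congr e).toMonoidHom := by
      rintro _ ⟨g, rfl⟩
      refine ⟨MulAut.conj (e.symm g), hinn ⟨_, rfl⟩, ?_⟩
      ext y
      simp [MulAut.congr]
    obtain ⟨g, hg⟩ := L2Model.inner_of_two D (H.map (MulAut.congr e).toMonoidHom) hinn'
      (fun h => hS (GoldschmidtS3.involves_congr (MulEquiv.subgroupMap (MulAut.congr e) H).symm h))
      (φ := MulAut.congr e φ) (Subgroup.mem_map_of_mem _ hφ) (j := j) (by rw [MulEquiv.orderOf_eq, ho])
    refine ⟨e.symm g, (MulAut.congr e).injective ?_⟩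
    rw [← hg]
    ext y
    simp [MulAut.congr]

/-- Automorphisms of odd order fixing the elements of order two of a Sylow subgroup form a cyclic group. -/
theorem oddFix_cyclic (hl : IsSuzukiOrPSL2OddPowerThree K) (T : Sylow 2 K) (Y : Subgroup (MulAut K))
    (ho : Odd (Nat.card Y)) (hfix : ∀ φ ∈ Y, ∀ x ∈ (T : Subgroup K), x * x = 1 → φ x = x) : IsCyclic Y := by
  rcases listed_model hl with ⟨F, i1, i2, m, hm, hc, ⟨e⟩⟩ | ⟨F, i1, i2, m, D, ⟨e⟩⟩
  · haveI : Finite ↥(Cfsg.Sz F m) := Finite.of_equiv K e.toEquiv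
    obtain ⟨f, hf⟩ := exists_map_sylow e T _ (Suzuki.U_isPGroup hc) (Suzuki.not_two_dvd_index_U hc hm)
    haveI : Subsingleton Y := ⟨fun a b => by
      suffices h : ∀ a : Y, a = 1 by rw [h a, h b]
      intro a
      refine Subtype.ext ((MulAut.congr f.symm).injective ?_)
      rw [OneMemClass.coe_one, map_one]
      refine SzModel.odd_fix hc hm ?_ fun x hx h2 => ?_
      · rw [MulEquiv.orderOf_eq, Subgroup.orderOf_coe]
        exact ho.of_dvd_nat (orderOf_dvd_natCard a)
      · have hx' : f x ∈ (T : Subgroup K) := hf ▸ Subgroup.mem_map_of_mem _ hx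
        show f.symm ((a : MulAut K) (f.symm.symm x)) = x
        rw [MulEquiv.symm_symm, hfix a a.2 _ hx' (by rw [← map_mul, h2, map_one]), MulEquiv.symm_apply_apply]⟩
    exact inferInstance
  · haveI : Fact (Nat.Prime 3) := ⟨Nat.prime_three⟩
    haveI := D.charP
    obtain ⟨T', k, hk, h2, hi, -⟩ := L2Model.exists_twoLocal D
    obtain ⟨f, hf⟩ := exists_map_sylow e T T' h2 hi
    haveI : IsCyclic (RingAut F) := Chev.ringAut_cyclic_finite F
    let g : Y →* RingAut F := (PSL2.fieldPart 3).comp ((MulAut.congr f.symm).toMonoidHom.comp Y.subtype)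
    refine isCyclic_of_injective g ((injective_iff_map_eq_one g).mpr fun a ha => ?_)
    refine Subtype.ext ((MulAut.congr f.symm).injective ?_)
    rw [OneMemClass.coe_one, map_one]
    refine L2Model.oddFix_injective D hk h2 (Y.map (MulAut.congr f.symm).toMonoidHom) ?_ ?_
      (Subgroup.mem_map_of_mem _ a.2) ha
    · rw [Subgroup.card_map_of_injective (MulAut.congr f.symm).injective]
      exact ho
    · rintro _ ⟨φ, hφ, rfl⟩ x hx h2'
      have hx' : f x ∈ (T : Subgroup K) := hf ▸ Subgroup.mem_map_of_mem _ hx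
      show f.symm (φ (f.symm.symm x)) = x
      rw [MulEquiv.symm_symm, hfix φ hφ _ hx' (by rw [← map_mul, h2', map_one]), MulEquiv.symm_apply_apply]

/-- An automorphism of a Suzuki group of odd order fixing the elements of order two of a Sylow subgroup is trivial. -/
theorem suzuki_oddFix (hs : Lie.IsoSuzuki K) (T : Sylow 2 K) {φ : MulAut K} (ho : Odd (orderOf φ))
    (hfix : ∀ x ∈ (T : Subgroup K), x * x = 1 → φ x = x) : φ = 1 := by
  obtain ⟨F, i1, i2, m, hm, hc, ⟨e0⟩⟩ := hs
  let e := e0.trans (Suzuki.lieEquiv hc hm).symm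
  obtain ⟨f, hf⟩ := exists_map_sylow e T _ (Suzuki.U_isPGroup hc) (Suzuki.not_two_dvd_index_U hc hm)
  refine (MulAut.congr f.symm).injective ?_
  rw [map_one]
  refine SzModel.odd_fix hc hm (by rwa [MulEquiv.orderOf_eq]) fun x hx h2 => ?_
  have hx' : f x ∈ (T : Subgroup K) := hf ▸ Subgroup.mem_map_of_mem _ hx
  show f.symm (φ (f.symm.symm x)) = x
  rw [MulEquiv.symm_symm, hfix _ hx' (by rw [← map_mul, h2, map_one]), MulEquiv.symm_apply_apply]

/-- In a Suzuki group a group of automorphisms of odd order fixing an involution and normalised by its centraliser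
is trivial. -/
theorem suzuki_core (hs : Lie.IsoSuzuki K) {z : K} (hz1 : z ≠ 1) (h2 : z * z = 1)
    (Y : Subgroup (MulAut K)) (ho : Odd (Nat.card Y)) (hfix : ∀ φ ∈ Y, φ z = z)
    (hnorm : ∀ c, c * z = z * c → ∀ φ ∈ Y, MulAut.conj c * φ * (MulAut.conj c)⁻¹ ∈ Y) :
    Y = ⊥ := by
  haveI : Fact (Nat.Prime 2) := ⟨Nat.prime_two⟩
  have hP : IsPGroup 2 (Subgroup.zpowers z) := by
    have hd : orderOf z ∣ 2 ^ 1 := orderOf_dvd_of_pow_eq_one (by rw [pow_one, pow_two]; exact h2)
    obtain ⟨k, -, hk⟩ := (Nat.dvd_prime_pow Nat.prime_two).mp hd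
    exact IsPGroup.of_card (n := k) (by rw [Nat.card_zpowers, hk])
  obtain ⟨T, hT⟩ := hP.exists_le_sylow
  obtain ⟨k, hk⟩ := exists_twoLocal (Or.inl hs) T
  have hcz : ∀ t ∈ (T : Subgroup K), t * z = z * t := fun t ht => (hk.central z (hT (Subgroup.mem_zpowers z)) h2 t ht).symm
  refine (Subgroup.eq_bot_iff_forall Y).mpr fun φ hφ => ?_
  refine suzuki_oddFix hs T (ho.of_dvd_nat (Subgroup.orderOf_dvd_natCard _ hφ)) fun t ht ht2 => ?_
  have h1 : φ * MulAut.conj t * φ⁻¹ * (MulAut.conj t)⁻¹ ∈ Y := by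
    rw [mul_assoc φ, mul_assoc φ]
    exact mul_mem hφ (hnorm t (hcz t ht) _ (inv_mem hφ))
  have h3 : φ * MulAut.conj t * φ⁻¹ * (MulAut.conj t)⁻¹ = MulAut.conj (φ t * t⁻¹) := by
    rw [map_mul, map_inv]
    congr 1
    ext y
    simp
  -- the commutator is inner by an element centralising `z`, of odd order, hence trivial
  have hfz : φ z = z := hfix φ hφ
  have hc : (φ t * t⁻¹) * z = z * (φ t * t⁻¹) := by
    have h4 : φ t * z = z * φ t := by rw [← hfz, ← map_mul, hcz t ht, map_mul]
    have h5 : t⁻¹ * z = z * t⁻¹ := Commute.inv_left (show Commute t z from hcz t ht)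
    rw [mul_assoc, h5, ← mul_assoc, h4, mul_assoc]
  set c := φ t * t⁻¹
  rw [h3] at h1
  have hinj : Function.Injective (MulAut.conj : K →* MulAut K) := by
    rw [← MonoidHom.ker_eq_bot_iff]
    refine ((inferInstance : (MulAut.conj (G := K)).ker.Normal).eq_bot_or_eq_top).resolve_right fun h => ?_
    refine suzuki_sylow hs T ⟨⟨fun a b => Subtype.ext ?_⟩⟩
    have := DFunLike.congr_fun (MonoidHom.mem_ker.mp (h ▸ Subgroup.mem_top (a : K))) (b : K)
    rw [MulAut.conj_apply, MulAut.one_apply, mul_inv_eq_iff_eq_mul] at this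
    exact this
  have hco : Odd (orderOf c) := by
    rw [← orderOf_injective _ hinj c]
    exact ho.of_dvd_nat (Subgroup.orderOf_dvd_natCard _ h1)
  have hcT : c = 1 := by
    obtain ⟨F, i1, i2, m, hm, hcF, ⟨e0⟩⟩ := hs
    let e := e0.trans (Suzuki.lieEquiv hcF hm).symm
    obtain ⟨f, hf⟩ := exists_map_sylow e T _ (Suzuki.U_isPGroup hcF) (Suzuki.not_two_dvd_index_U hcF hm)
    have hzU : f.symm z ∈ Suzuki.U hcF := by
      obtain ⟨u, hu, he⟩ := (hf ▸ hT (Subgroup.mem_zpowers z) : z ∈ (Suzuki.U hcF).map f.toMonoidHom)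
      rw [← he]
      simpa using hu
    have hcU : f.symm c ∈ Suzuki.U hcF := Suzuki.centralizer_unipotent hcF hm hzU
      (fun h => hz1 (f.symm.injective (h.trans (map_one _).symm)))
      (Subgroup.mem_centralizer_singleton_iff.mpr (by rw [← map_mul, hc, map_mul]))
    obtain ⟨j, hj⟩ := Suzuki.U_isPGroup hcF ⟨_, hcU⟩
    have hj' : c ^ 2 ^ j = 1 := f.symm.injective (by
      rw [map_pow, map_one]; exact congrArg Subtype.val hj)
    exact orderOf_eq_one_iff.mp (Nat.dvd_one.mp
      ((Nat.Coprime.pow_left j (Nat.prime_two.coprime_iff_not_dvd.mpr hco.not_two_dvd_nat)).gcd_eq_one ▸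
        Nat.dvd_gcd (orderOf_dvd_of_pow_eq_one hj') dvd_rfl))
  exact mul_inv_eq_one.mp hcT

end CfsgLib.S3Simple
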