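import Cfsg.Agent.Lib.S3Simple.Defs
import Cfsg.Agent.Lib.S3Simple.Facts
import Cfsg.Agent.Lib.Comp.CompMove
import Cfsg.Agent.Lib.Comp.BalanceTwo
import Cfsg.Agent.Lib.Comp.LayerNormalizes
import Cfsg.Agent.Lib.PSL2.Aut
import Cfsg.Agent.Lib.QdSection
import Cfsg.Agent.Lib.CharPLocal
import Cfsg.Agent.Lib.PSolvable
import Cfsg.Agent.Lib.Bender.TwoClosed.Tools
import Cfsg.Agent.Lib.AfterFT.CoreSeparated
import Cfsg.Agent.S2925

/-!
The components of an `S₃`-free group with trivial core, relative to an abelian strongly closed 2-subgroup.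

Blueprint: `blueprint/S3Free.md`, B1 and B2.
-/

set_option autoImplicit false
set_option linter.unusedSectionVars false
set_option linter.style.haveILetI false

namespace CfsgLib.S3Simple

open Cfsg CfsgLib.Comp

universe u

variable {M : Type u} [Group M] [Finite M]

/-- A group with trivial core, free of `S₃`, whose non-abelian composition factors are listed. -/
structure Ctx (M : Type u) [Group M] [Finite M] : Prop where
  core : pPrimeCore 2 M = ⊥
  free : ¬ Involves (Equiv.Perm (Fin 3)) M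
  listed : IsCompositionKGroupWith IsSuzukiOrPSL2OddPowerThree M

/-- An `S₃`-free group: a 2-element normalising a 3-subgroup centralises it. -/
theorem two_centralizes_three (hfree : ¬ Involves (Equiv.Perm (Fin 3)) M) {x : M} {j : ℕ}
    (hx : orderOf x = 2 ^ j) {P : Subgroup M} (hP : IsPGroup 3 P) (hn : x ∈ Subgroup.normalizer (P : Set M)) :
    x ∈ Subgroup.centralizer (P : Set M) := by
  haveI : Fact (Nat.Prime 3) := ⟨Nat.prime_three⟩
  obtain ⟨e⟩ := CfsgLib.S3Free.dihedral_three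
  by_contra hc
  exact hfree (GoldschmidtS3.involves_trans e
    ((Cfsg.Agent.S2758.result (G := M) (p := 3) (by norm_num)).1.mpr ⟨x, P, ⟨j, hx⟩, hP, hn, hc⟩))

variable {T : Sylow 2 M} {A E : Subgroup M}

theorem component_isSimple (hE : IsComponent E) : IsSimpleGroup (↥E ⧸ Subgroup.center ↥E) := hE.2.2

theorem component_not_comm (hE : IsComponent E) : ¬ IsMulCommutative (↥E ⧸ Subgroup.center ↥E) := fun h => by
  haveI := hE.2.1
  haveI := component_isSimple hE
  haveI : Group.IsPerfect (↥E ⧸ Subgroup.center ↥E) := inferInstance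
  exact Group.IsPerfect.not_isMulCommutative _ h

theorem Ctx.comp_listed (hM : Ctx M) (hE : IsComponent E) :
    IsSuzukiOrPSL2OddPowerThree (↥E ⧸ Subgroup.center ↥E) :=
  hM.listed E hE.1 (Subgroup.center ↥E) (component_isSimple hE) (component_not_comm hE)

/-- Conjugation maps a component to a component; a component is normalised as soon as it is mapped to itself. -/
theorem mem_normalizer_of_map_eq {x : M} (h : E.map (MulAut.conj x).toMonoidHom = E) :
    x ∈ Subgroup.normalizer (E : Set M) :=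
  mem_normalizer_of_maps fun y hy => by
    have h' : x * y * x⁻¹ ∈ E.map (MulAut.conj x).toMonoidHom := ⟨y, hy, rfl⟩
    rwa [h] at h'

/-- In an `S₃`-free group the 2-elements normalise the components whose simple quotient has order divisible by
three. -/
theorem three_normalizes_of_free (hfree : ¬ Involves (Equiv.Perm (Fin 3)) M) (hE : IsComponent E)
    (h3 : 3 ∣ Nat.card (↥E ⧸ Subgroup.center ↥E)) {x : M} {j : ℕ} (hx : orderOf x = 2 ^ j) :
    x ∈ Subgroup.normalizer (E : Set M) := by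
  haveI : Fact (Nat.Prime 3) := ⟨Nat.prime_three⟩
  set N := layer M with hN
  -- an element of order a power of three outside the centre of the component
  obtain ⟨y, hyE, hy3, hyZ⟩ : ∃ y ∈ E, IsPGroup 3 (Subgroup.zpowers y) ∧ ¬ ∀ e ∈ E, y * e = e * y := by
    obtain ⟨c, hc⟩ := exists_prime_orderOf_dvd_card' 3 h3
    obtain ⟨e, rfl⟩ := QuotientGroup.mk'_surjective (Subgroup.center ↥E) c
    obtain ⟨k, l, hl, hn⟩ := Nat.exists_eq_pow_mul_and_not_dvd (orderOf_pos e).ne' 3 (by norm_num)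
    have h1 : (e ^ l : ↥E) ^ 3 ^ k = 1 := by rw [← pow_mul, mul_comm, ← hn, pow_orderOf_eq_one]
    refine ⟨((e ^ l : ↥E) : M), (e ^ l).2, ?_, fun hcen => hl ?_⟩
    · obtain ⟨i, -, hi⟩ := (Nat.dvd_prime_pow Nat.prime_three).mp (orderOf_dvd_of_pow_eq_one h1)
      exact IsPGroup.of_card (n := i) (by rw [Nat.card_zpowers, Subgroup.orderOf_coe, hi])
    · have hmem : (e ^ l : ↥E) ∈ Subgroup.center ↥E :=
        Subgroup.mem_center_iff.mpr fun g => Subtype.ext (hcen g g.2).symm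
      have h2 : (QuotientGroup.mk' (Subgroup.center ↥E) e) ^ l = 1 := by
        rw [← map_pow]
        exact (QuotientGroup.eq_one_iff _).mpr hmem
      exact hc ▸ orderOf_dvd_of_pow_eq_one h2
  have hEN : E ≤ N := le_layer hE
  obtain ⟨Q, hQ⟩ := (hy3.comap_of_injective N.subtype N.subtype_injective).exists_le_sylow
  set R := (Q : Subgroup N).map N.subtype with hR
  have hyR : y ∈ R := ⟨⟨y, hEN hyE⟩, hQ (Subgroup.mem_zpowers y), rfl⟩
  have hRp : IsPGroup 3 R := Q.2.map _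
  -- Frattini
  obtain ⟨h, hh, n, hn, hxe⟩ : ∃ h ∈ Subgroup.normalizer (R : Set M), ∃ n ∈ N, h * n = x := by
    have h1 : x ∈ Subgroup.normalizer (R : Set M) ⊔ N := by
      rw [hR, Sylow.normalizer_sup_eq_top Q]
      exact Subgroup.mem_top x
    exact Subgroup.mem_sup_of_normal_right.mp h1
  obtain ⟨k, l, hl, hnh⟩ := Nat.exists_eq_pow_mul_and_not_dvd (orderOf_pos h).ne' 2 (by norm_num)
  have h2 : (h ^ l) ^ 2 ^ k = 1 := by rw [← pow_mul, mul_comm, ← hnh, pow_orderOf_eq_one]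
  obtain ⟨i, -, hi⟩ := (Nat.dvd_prime_pow Nat.prime_two).mp (orderOf_dvd_of_pow_eq_one h2)
  have hc := two_centralizes_three hfree hi hRp (pow_mem hh l)
  -- `h ^ l` normalises the component
  have hlE : h ^ l ∈ Subgroup.normalizer (E : Set M) := by
    refine mem_normalizer_of_map_eq ((components_eq_or_commute
      (isComponent_map_equiv (MulAut.conj (h ^ l)) hE) hE).resolve_right fun hbot => hyZ fun e he => ?_)
    have hy' : y ∈ E.map (MulAut.conj (h ^ l)).toMonoidHom := ⟨y, hyE, by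
      show h ^ l * y * (h ^ l)⁻¹ = y
      rw [← hc y hyR, mul_inv_cancel_right]⟩
    exact comm_of_commutator_eq_bot hbot hy' he
  have hNE : N ≤ Subgroup.normalizer (E : Set M) := Comp.layer_le_normalizer_component hE
  have hxl : x ^ l ∈ Subgroup.normalizer (E : Set M) := by
    have h1 : (h ^ l)⁻¹ * x ^ l ∈ N := by
      rw [← QuotientGroup.eq, QuotientGroup.mk_pow, QuotientGroup.mk_pow]
      congr 1
      rw [← hxe, QuotientGroup.mk_mul, (QuotientGroup.eq_one_iff n).mpr hn, mul_one]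
    have := mul_mem hlE (hNE h1)
    rwa [mul_inv_cancel_left] at this
  have hco : Nat.Coprime l (orderOf x) := by
    rw [hx]
    exact (Nat.prime_two.coprime_iff_not_dvd.mpr hl).symm.pow_right j
  obtain ⟨m, hm⟩ := exists_pow_eq_self_of_coprime hco
  exact hm ▸ pow_mem hxl m

/-- The 2-elements normalise the components whose simple quotient has order divisible by three. -/
theorem Ctx.three_normalizes (hM : Ctx M) (hE : IsComponent E)
    (h3 : 3 ∣ Nat.card (↥E ⧸ Subgroup.center ↥E)) {x : M} {j : ℕ} (hx : orderOf x = 2 ^ j) :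
    x ∈ Subgroup.normalizer (E : Set M) :=
  three_normalizes_of_free hM.free hE h3 hx

/-- A strongly closed abelian subgroup normalises every component. -/
theorem Ctx.closed_normalizes (hM : Ctx M) (hA : Closed T A) (hE : IsComponent E) :
    A ≤ Subgroup.normalizer (E : Set M) := by
  haveI := component_isSimple hE
  have hTA : (T : Subgroup M) ≤ Subgroup.normalizer (A : Set M) := fun s hs =>
    CfsgLib.Bender.TwoClosed.mem_normalizer_of_conj fun a ha =>
      hA.closed.2 a ha s (mul_mem (mul_mem hs (hA.le ha)) (inv_mem hs))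
  by_contra hnot
  rcases suzuki_or_three (hM.comp_listed hE) with hs | ⟨h3, -⟩
  · obtain ⟨P⟩ : Nonempty (Sylow 2 (↥E ⧸ Subgroup.center ↥E)) := inferInstance
    exact suzuki_sylow hs P (Cfsg.Agent.S2925.result E hE T A hA.le
      ((Subgroup.normal_subgroupOf_iff_le_normalizer hA.le).mpr hTA) hA.elem.1 hnot P)
  · refine hnot fun a ha => ?_
    obtain ⟨j, -, hj⟩ := (Nat.dvd_prime_pow Nat.prime_two).mp
      (orderOf_dvd_of_pow_eq_one (show a ^ 2 ^ 1 = 1 by rw [pow_one]; exact hA.elem.2 a ha))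
    exact hM.three_normalizes hE h3 hj

/-- The automorphisms induced on the simple quotient of a component. -/
noncomputable def actQ (E : Subgroup M) :
    Subgroup.normalizer (E : Set M) →* MulAut (↥E ⧸ Subgroup.center ↥E) :=
  (CfsgLib.PSL2.centreQuotAut ↥E).comp E.normalizerMonoidHom

theorem actQ_apply {x : Subgroup.normalizer (E : Set M)} (e : ↥E) :
    actQ E x (QuotientGroup.mk' _ e) =
      QuotientGroup.mk' (Subgroup.center ↥E) ⟨(x : M) * e * (x : M)⁻¹,
        (Subgroup.mem_normalizer_iff.mp x.2 e).mp e.2⟩ := rfl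

/-- An element inducing the trivial automorphism on the simple quotient centralises the component. -/
theorem centralizes_of_actQ (hE : IsComponent E) {x : M} (hx : x ∈ Subgroup.normalizer (E : Set M))
    (h : actQ E ⟨x, hx⟩ = 1) : x ∈ Subgroup.centralizer (E : Set M) := by
  have hle : ⁅(actQ E).ker.map (Subgroup.normalizer (E : Set M)).subtype, E⁆ ≤
      (Subgroup.center ↥E).map E.subtype := by
    rw [Subgroup.commutator_le]
    rintro _ ⟨y, hy, rfl⟩ e he
    have h1 := DFunLike.congr_fun (MonoidHom.mem_ker.mp hy) (QuotientGroup.mk' _ ⟨e, he⟩)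
    rw [actQ_apply, MulAut.one_apply] at h1
    have h2 := (QuotientGroup.eq (s := Subgroup.center ↥E)).mp h1.symm
    refine ⟨⟨(y : M) * e * (y : M)⁻¹, (Subgroup.mem_normalizer_iff.mp y.2 e).mp he⟩ * ⟨e, he⟩⁻¹, ?_, rfl⟩
    have h3 := (inferInstance : (Subgroup.center ↥E).Normal).conj_mem _ h2 (⟨e, he⟩ : ↥E)
    rwa [mul_inv_cancel_left] at h3
  intro e he
  exact comm_of_commutator_eq_bot (centralizes_of_commutator_le_center hE hle) he ⟨⟨x, hx⟩, h, rfl⟩

/-- The automorphisms induced on the simple quotient form an `S₃`-free group containing the inner ones. -/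
theorem Ctx.actQ_range (hM : Ctx M) (E : Subgroup M) :
    (MulAut.conj (G := ↥E ⧸ Subgroup.center ↥E)).range ≤ (actQ E).range ∧
      ¬ Involves (Equiv.Perm (Fin 3)) (actQ E).range := by
  refine ⟨?_, fun hi => hM.free ?_⟩
  · rintro _ ⟨q, rfl⟩
    obtain ⟨e, rfl⟩ := QuotientGroup.mk'_surjective _ q
    refine ⟨⟨e, Subgroup.le_normalizer e.2⟩, MulEquiv.ext fun r => ?_⟩
    obtain ⟨d, rfl⟩ := QuotientGroup.mk'_surjective _ r
    rw [actQ_apply, MulAut.conj_apply, ← map_inv, ← map_mul, ← map_mul]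
    rfl
  · obtain ⟨K, R, hn, ⟨f⟩⟩ := hi
    let N := Subgroup.normalizer (E : Set M)
    let K0 : Subgroup N := K.comap (actQ E).rangeRestrict
    let ψ : (K0.map N.subtype) →* Equiv.Perm (Fin 3) := (f.toMonoidHom.comp (QuotientGroup.mk' _)).comp
      (((actQ E).rangeRestrict.subgroupComap K).comp
        (K0.equivMapOfInjective N.subtype N.subtype_injective).symm.toMonoidHom)
    exact CfsgLib.QdSection.involves_of_surjective _ ψ ((f.surjective.comp (QuotientGroup.mk'_surjective _)).comp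
      (((actQ E).rangeRestrict.subgroupComap_surjective_of_surjective K
        (actQ E).rangeRestrict_surjective).comp
          (K0.equivMapOfInjective N.subtype N.subtype_injective).symm.surjective))

/-- The data of a component not centralised by `A`: `A = C_A(E) × V` with `V ≤ E`, and an element of `E`
normalising `A`, transitive on the non-identity elements of `V`. -/
structure CompBlock (A E V : Subgroup M) (k : M) : Prop where
  k_mem : k ∈ E
  k_norm : k ∈ Subgroup.normalizer (A : Set M)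
  V_le : V ≤ A ⊓ E
  disjoint : A ⊓ Subgroup.centralizer (E : Set M) ⊓ V = ⊥
  sup : A ⊓ Subgroup.centralizer (E : Set M) ⊔ V = A
  inv : ∀ v ∈ V, k * v * k⁻¹ ∈ V
  trans : ∀ v ∈ V, v ≠ 1 → ∀ w ∈ V, w ≠ 1 → ∃ i : ℕ, k ^ i * v * (k ^ i)⁻¹ = w
  comm_V : ∀ a ∈ A, k * a * k⁻¹ * a⁻¹ ∈ V
  four_le : 4 ≤ Nat.card V
  size : (Nat.card V = 4 ∧ 3 ∣ Nat.card (↥E ⧸ Subgroup.center ↥E)) ∨
    (8 ≤ Nat.card V ∧ Lie.IsoSuzuki (↥E ⧸ Subgroup.center ↥E))

theorem CompBlock.split {V : Subgroup M} {k : M} (hb : CompBlock A E V k) (hcomm : ∀ a ∈ A, ∀ b ∈ A, a * b = b * a)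
    {a : M} (ha : a ∈ A) : ∃ d ∈ A ⊓ Subgroup.centralizer (E : Set M), ∃ v ∈ V, d * v = a := by
  have h : a ∈ A ⊓ Subgroup.centralizer (E : Set M) ⊔ V := by rwa [hb.sup]
  have hN : V ≤ Subgroup.normalizer ((A ⊓ Subgroup.centralizer (E : Set M) : Subgroup M) : Set M) := fun v hv =>
    mem_normalizer_of_maps fun d hd => by
      rw [hcomm v (hb.V_le hv).1 d hd.1, mul_inv_cancel_right]
      exact hd
  have h' : a ∈ ((A ⊓ Subgroup.centralizer (E : Set M) ⊔ V : Subgroup M) : Set M) := h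
  rw [Subgroup.coe_mul_of_right_le_normalizer_left _ _ hN] at h'
  exact h'

/-- B1, B2: the block of a component not centralised by `A`. -/
theorem Ctx.exists_compBlock (hM : Ctx M) (hA : Closed T A) (hE : IsComponent E)
    (hne : ¬ A ≤ Subgroup.centralizer (E : Set M)) : ∃ V k, CompBlock A E V k := by
  classical
  haveI := component_isSimple hE
  haveI : Fact (Nat.Prime 2) := ⟨Nat.prime_two⟩
  have hl := hM.comp_listed hE
  have hTA : (T : Subgroup M) ≤ Subgroup.normalizer (A : Set M) := fun s hs =>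
    CfsgLib.Bender.TwoClosed.mem_normalizer_of_conj fun a ha =>
      hA.closed.2 a ha s (mul_mem (mul_mem hs (hA.le ha)) (inv_mem hs))
  have hAE := hM.closed_normalizes hA hE
  have hcomm : ∀ a ∈ A, ∀ b ∈ A, a * b = b * a := fun a ha b hb =>
    congrArg Subtype.val (hA.elem.1.is_comm.comm ⟨a, ha⟩ ⟨b, hb⟩)
  have hsq : ∀ a ∈ A, a * a = 1 := fun a ha => by rw [← pow_two]; exact hA.elem.2 a ha
  obtain ⟨P, hP⟩ := CfsgLib.CharPLocal.exists_sylow_subnormal T hE.1
  let π := QuotientGroup.mk' (Subgroup.center ↥E)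
  let TQ : Sylow 2 (↥E ⧸ Subgroup.center ↥E) := P.mapSurjective (QuotientGroup.mk'_surjective _)
  obtain ⟨k0, hk⟩ := exists_twoLocal hl TQ
  have hTQ : ∀ {q}, q ∈ (TQ : Subgroup (↥E ⧸ Subgroup.center ↥E)) ↔ q ∈ (P : Subgroup ↥E).map π :=
    fun {q} => Iff.rfl
  -- elements over the Sylow subgroup of the quotient lie in `T`
  have hZT : (Subgroup.center ↥E).map E.subtype ≤ (T : Subgroup M) := by
    haveI : Group.IsNilpotent ((Subgroup.center ↥E).map E.subtype : Subgroup M) := nilpotent_of_comm (by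
      rintro _ ⟨a, ha, rfl⟩ _ ⟨b, -, rfl⟩
      exact congrArg Subtype.val ((Subgroup.mem_center_iff.mp ha b).symm))
    have hsn : ((Subgroup.center ↥E).map E.subtype : Subgroup M).IsSubnormal :=
      (inferInstance : (Subgroup.center ↥E).Normal).isSubnormal.trans' hE.1
    have h := isSubnormal_nilpotent_le_fitting hsn inferInstance
    rw [fitting_eq_pCore Nat.prime_two hM.core] at h
    exact h.trans (CfsgLib.AfterFT.CoreSep.pCore_two_le_sylow T)
  have hmemT : ∀ e : ↥E, π e ∈ (TQ : Subgroup (↥E ⧸ Subgroup.center ↥E)) → (e : M) ∈ (T : Subgroup M) := by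
    intro e he
    obtain ⟨t, ht, hte⟩ := hTQ.mp he
    have h1 : t⁻¹ * e ∈ Subgroup.center ↥E := QuotientGroup.eq.mp hte
    have h2 : (t : M) ∈ (T : Subgroup M) :=
      (hP ▸ Subgroup.mem_map_of_mem E.subtype ht : (t : M) ∈ (T : Subgroup M) ⊓ E).1
    have := mul_mem h2 (hZT (Subgroup.mem_map_of_mem E.subtype h1))
    simpa using this
  -- every element of `A` induces an inner automorphism by an element of order at most two of the Sylow subgroup
  have hq : ∀ a ∈ A, ∃ q : ↥E ⧸ Subgroup.center ↥E,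
      q ∈ (TQ : Subgroup (↥E ⧸ Subgroup.center ↥E)) ∧ q * q = 1 ∧
      ∀ e : ↥E, ∀ h : a * e * a⁻¹ ∈ E, π ⟨a * e * a⁻¹, h⟩ = q * π e * q⁻¹ := by
    intro a ha
    set φ := actQ E ⟨a, hAE ha⟩ with hφ
    have ho : orderOf φ ∣ 2 ^ 1 := by
      refine orderOf_dvd_of_pow_eq_one ?_
      rw [pow_one, hφ, ← map_pow, show (⟨a, hAE ha⟩ : Subgroup.normalizer (E : Set M)) ^ 2 = 1 from
        Subtype.ext (hA.elem.2 a ha), map_one]
    obtain ⟨j, -, hj⟩ := (Nat.dvd_prime_pow Nat.prime_two).mp ho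
    obtain ⟨h1, h2⟩ := hM.actQ_range E
    obtain ⟨q, hqφ⟩ := inner_of_two hl _ h1 h2 (φ := φ) ⟨_, rfl⟩ hj
    have hinj : Function.Injective (MulAut.conj : (↥E ⧸ Subgroup.center ↥E) →* _) := by
      rw [← MonoidHom.ker_eq_bot_iff]
      refine ((inferInstance : (MulAut.conj (G := ↥E ⧸ Subgroup.center ↥E)).ker.Normal).eq_bot_or_eq_top).resolve_right
        fun h => component_not_comm hE ⟨⟨fun c d => ?_⟩⟩
      have := DFunLike.congr_fun (MonoidHom.mem_ker.mp (h ▸ Subgroup.mem_top c)) d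
      rwa [MulAut.conj_apply, MulAut.one_apply, mul_inv_eq_iff_eq_mul] at this
    have hq2 : q * q = 1 := hinj (by
      rw [map_mul, hqφ, map_one, ← pow_two]
      exact pow_one 2 ▸ orderOf_dvd_iff_pow_eq_one.mp ho)
    refine ⟨q, ?_, hq2, fun e h => ?_⟩
    swap
    · have := DFunLike.congr_fun hqφ (π e)
      rw [MulAut.conj_apply] at this
      rw [this]
      rfl
    have hnorm : q ∈ Subgroup.normalizer ((TQ : Subgroup (↥E ⧸ Subgroup.center ↥E)) : Set _) := by
      refine mem_normalizer_of_maps fun r hr => ?_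
      obtain ⟨t, ht, rfl⟩ := hTQ.mp hr
      have htT : (t : M) ∈ (T : Subgroup M) :=
        (hP ▸ Subgroup.mem_map_of_mem E.subtype ht : (t : M) ∈ (T : Subgroup M) ⊓ E).1
      have h := (Subgroup.mem_normalizer_iff.mp (hAE ha) t).mp t.2
      obtain ⟨s, hs, hse⟩ : a * t * a⁻¹ ∈ (P : Subgroup ↥E).map E.subtype :=
        hP.symm ▸ ⟨(T : Subgroup M).mul_mem ((T : Subgroup M).mul_mem (hA.le ha) htT) ((T : Subgroup M).inv_mem (hA.le ha)), h⟩
      refine hTQ.mpr ⟨s, hs, ?_⟩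
      rw [show s = ⟨a * t * a⁻¹, h⟩ from Subtype.ext hse]
      have := DFunLike.congr_fun hqφ (π t)
      rw [MulAut.conj_apply] at this
      rw [this]
      rfl
    have hWp : IsPGroup 2 (Subgroup.zpowers q) := by
      obtain ⟨i, -, hi⟩ := (Nat.dvd_prime_pow Nat.prime_two).mp
        (orderOf_dvd_of_pow_eq_one (show q ^ 2 ^ 1 = 1 by rw [pow_one, pow_two]; exact hq2))
      exact IsPGroup.of_card (n := i) (by rw [Nat.card_zpowers, hi])
    exact (TQ.3 (hWp.to_sup_of_normal_right' TQ.2 (Subgroup.zpowers_le.mpr hnorm)) le_sup_right).le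
      (Subgroup.mem_sup_left (Subgroup.mem_zpowers q))
  choose! qa hqT hq2 hqconj using hq
  have hq_inj : ∀ a ∈ A, qa a = 1 → a ∈ Subgroup.centralizer (E : Set M) := by
    intro a ha h1
    refine centralizes_of_actQ hE (hAE ha) (MulEquiv.ext fun r => ?_)
    obtain ⟨e, rfl⟩ := QuotientGroup.mk'_surjective _ r
    rw [actQ_apply, MulAut.one_apply, hqconj a ha e, h1, one_mul, inv_one, mul_one]
  have hq_cent : ∀ d ∈ A, d ∈ Subgroup.centralizer (E : Set M) → qa d = 1 := by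
    intro d hd hdc
    refine by_contra fun h1 => component_not_comm hE ?_
    have hz : qa d ∈ Subgroup.center (↥E ⧸ Subgroup.center ↥E) := Subgroup.mem_center_iff.mpr fun r => by
      obtain ⟨e, rfl⟩ := QuotientGroup.mk'_surjective _ r
      have hde : d * e * d⁻¹ = (e : M) := by rw [← hdc e e.2, mul_inv_cancel_right]
      have hmem : d * e * d⁻¹ ∈ E := by rw [hde]; exact e.2
      have := hqconj d hd e hmem
      rw [show (⟨d * e * d⁻¹, hmem⟩ : ↥E) = e from Subtype.ext hde, eq_mul_inv_iff_mul_eq] at this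
      exact this
    rcases (inferInstance : (Subgroup.center (↥E ⧸ Subgroup.center ↥E)).Normal).eq_bot_or_eq_top with h | h
    · exact absurd (Subgroup.mem_bot.mp (h ▸ hz)) h1
    · exact ⟨⟨fun c d => (Subgroup.mem_center_iff.mp (h ▸ Subgroup.mem_top c) d).symm⟩⟩
  -- the element normalising `A`
  obtain ⟨g, hg⟩ := QuotientGroup.mk'_surjective (Subgroup.center ↥E) k0
  have hgA' : ∀ a ∈ A, ∃ h : a * (g : M)⁻¹ * a⁻¹ ∈ E, π (g * ⟨a * (g : M)⁻¹ * a⁻¹, h⟩) = k0 * qa a * k0⁻¹ * (qa a)⁻¹ := by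
    intro a ha
    have h := (Subgroup.mem_normalizer_iff.mp (hAE ha) _).mp (inv_mem g.2)
    refine ⟨h, ?_⟩
    rw [map_mul, show (⟨a * (g : M)⁻¹ * a⁻¹, h⟩ : ↥E) = ⟨a * ((g⁻¹ : ↥E) : M) * a⁻¹, h⟩ from rfl,
      hqconj a ha g⁻¹ h, map_inv, hg]
    group
  have hconjA : ∀ a ∈ A, (g : M) * a * (g : M)⁻¹ ∈ A ∧ (g : M) * a * (g : M)⁻¹ * a⁻¹ ∈ E := by
    intro a ha
    obtain ⟨h, hπ⟩ := hgA' a ha
    have hcE : (g : M) * a * (g : M)⁻¹ * a⁻¹ ∈ E := by
      rw [mul_assoc (g : M), mul_assoc (g : M)]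
      exact mul_mem g.2 h
    have hcT : (g : M) * a * (g : M)⁻¹ * a⁻¹ ∈ (T : Subgroup M) := by
      have := hmemT (g * ⟨a * (g : M)⁻¹ * a⁻¹, h⟩) (by
        rw [hπ]; exact mul_mem ((hk.norm _).mpr (hqT a ha)) (inv_mem (hqT a ha)))
      rw [mul_assoc (g : M), mul_assoc (g : M)]
      exact this
    have hgaT : (g : M) * a * (g : M)⁻¹ ∈ (T : Subgroup M) := by
      have := mul_mem hcT (hA.le ha)
      rwa [inv_mul_cancel_right] at this
    exact ⟨hA.closed.2 a ha g hgaT, hcE⟩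
  have hgN : (g : M) ∈ Subgroup.normalizer (A : Set M) :=
    mem_normalizer_of_maps fun a ha => (hconjA a ha).1
  -- the commutator map
  let f : A →* M :=
    { toFun := fun a => (g : M) * a * (g : M)⁻¹ * (a : M)⁻¹
      map_one' := by simp
      map_mul' := fun a b => by
        show (g : M) * (a * b) * (g : M)⁻¹ * ((a : M) * b)⁻¹ =
          (g : M) * a * (g : M)⁻¹ * (a : M)⁻¹ * ((g : M) * b * (g : M)⁻¹ * (b : M)⁻¹)
        have h := hcomm _ (inv_mem a.2) _ (mul_mem ((hconjA b b.2).1) (inv_mem b.2))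
        calc (g : M) * (a * b) * (g : M)⁻¹ * ((a : M) * b)⁻¹
            = (g : M) * a * (g : M)⁻¹ * (((g : M) * b * (g : M)⁻¹ * (b : M)⁻¹) * (a : M)⁻¹) := by group
          _ = _ := by rw [← h]; group }
  have hfA : ∀ a : A, f a ∈ A ⊓ E := fun a =>
    ⟨A.mul_mem (hconjA a a.2).1 (A.inv_mem a.2), (hconjA a a.2).2⟩
  have hfπ : ∀ a : A, π ⟨f a, (hfA a).2⟩ = k0 * qa a * k0⁻¹ * qa a := by
    intro a
    obtain ⟨h, hπ⟩ := hgA' a a.2
    rw [inv_eq_of_mul_eq_one_left (hq2 a a.2)] at hπ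
    rw [← hπ]
    congr 1
    exact Subtype.ext (by show (g : M) * a * (g : M)⁻¹ * (a : M)⁻¹ = (g : M) * ((a : M) * (g : M)⁻¹ * (a : M)⁻¹); simp only [mul_assoc])
  -- image of a product
  have hfix : ∀ x ∈ (TQ : Subgroup (↥E ⧸ Subgroup.center ↥E)), x * x = 1 → k0 * x * k0⁻¹ * x = 1 → x = 1 := by
    intro x hx hx2 h
    have hkx : k0 * x * k0⁻¹ = x := by
      rw [mul_eq_one_iff_eq_inv] at h
      rw [h, inv_eq_of_mul_eq_one_left hx2]
    by_contra hx1
    obtain ⟨y, hy, hy1, hyx⟩ : ∃ y, (y ∈ (TQ : Subgroup (↥E ⧸ Subgroup.center ↥E)) ∧ y * y = 1) ∧ y ≠ 1 ∧ y ≠ x := by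
      by_contra hcon
      push Not at hcon
      have h4 := hk.four
      have : Nat.card {z // z ∈ (TQ : Subgroup (↥E ⧸ Subgroup.center ↥E)) ∧ z * z = 1} ≤ Nat.card Bool := by
        refine Nat.card_le_card_of_injective (fun z => decide (z.1 = 1)) fun z w hzw => Subtype.ext ?_
        have h' := decide_eq_decide.mp hzw
        by_cases hz : z.1 = 1
        · rw [hz, h'.mp hz]
        · rw [hcon z.1 z.2 hz, hcon w.1 w.2 fun hw => hz (h'.mpr hw)]
      rw [Nat.card_eq_fintype_card (α := Bool), Fintype.card_bool] at this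
      omega
    obtain ⟨i, hi⟩ := hk.trans x hx hx2 hx1 y hy.1 hy.2 hy1
    have hcx : Commute (k0 ^ i) x := Commute.pow_left (mul_inv_eq_iff_eq_mul.mp hkx) i
    rw [hcx.eq, mul_inv_cancel_right] at hi
    exact hyx hi.symm
  set D := A ⊓ Subgroup.centralizer (E : Set M) with hD
  set V := f.range with hV
  have hker : ∀ a : A, f a ∈ Subgroup.centralizer (E : Set M) → (a : M) ∈ D := by
    intro a hfa
    refine ⟨a.2, hq_inj a a.2 (hfix _ (hqT a a.2) (hq2 a a.2) ?_)⟩
    rw [← hfπ a]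
    exact (QuotientGroup.eq_one_iff _).mpr (Subgroup.mem_center_iff.mpr fun e => Subtype.ext (hfa e e.2))
  have hfD : ∀ a : A, (a : M) ∈ Subgroup.centralizer (E : Set M) → f a = 1 := by
    intro a ha
    show (g : M) * a * (g : M)⁻¹ * (a : M)⁻¹ = 1
    rw [ha g g.2, mul_inv_cancel_right, mul_inv_cancel]
  have hVle : V ≤ A ⊓ E := by
    rintro _ ⟨a, rfl⟩
    exact hfA a
  have hinf : D ⊓ V = ⊥ := by
    rw [eq_bot_iff]
    rintro _ ⟨hy, a, rfl⟩
    exact Subgroup.mem_bot.mpr (hfD a (hker a hy.2).2)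
  have hsupp : D ⊔ V = A := by
    refine Subgroup.eq_of_le_of_card_ge (sup_le inf_le_left (hVle.trans inf_le_left)) ?_
    have hDV : Function.Injective (fun p : D × V => (p.1 : M) * p.2) := by
      intro p r h
      simp only at h
      have hm : (r.1 : M)⁻¹ * p.1 ∈ D ⊓ V := by
        refine ⟨D.mul_mem (D.inv_mem r.1.2) p.1.2, ?_⟩
        rw [show (r.1 : M)⁻¹ * p.1 = r.2 * (p.2 : M)⁻¹ by
          rw [eq_mul_inv_iff_mul_eq, mul_assoc, h, inv_mul_cancel_left]]
        exact V.mul_mem r.2.2 (V.inv_mem p.2.2)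
      rw [hinf, Subgroup.mem_bot] at hm
      have e1 : (r.1 : M) = p.1 := inv_mul_eq_one.mp hm
      rw [e1] at h
      exact Prod.ext (Subtype.ext e1.symm) (Subtype.ext (mul_left_cancel h))
    let ι : D × V → ↥(D ⊔ V) := fun p => ⟨(p.1 : M) * p.2, Subgroup.mul_mem_sup p.1.2 p.2.2⟩
    have hιinj : Function.Injective ι := fun p r h => hDV (congrArg Subtype.val h)
    have h1 := Nat.card_le_card_of_injective ι hιinj
    rw [Nat.card_prod] at h1
    refine le_trans (le_of_eq ?_) h1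
    have h2 := f.ker.card_mul_index
    rw [Subgroup.index_ker] at h2
    rw [← h2]
    congr 1
    rw [← Subgroup.card_map_of_injective (f := A.subtype) A.subtype_injective]
    congr 1
    refine congrArg _ (le_antisymm ?_ ?_)
    · rintro _ ⟨a, ha, rfl⟩
      exact hker a (by rw [MonoidHom.mem_ker.mp ha]; exact one_mem _)
    · intro d hd
      exact ⟨⟨d, hd.1⟩, hfD ⟨d, hd.1⟩ hd.2, rfl⟩
  -- `V` covers the elements of order two of the Sylow subgroup of the quotient
  let ψ : V → {z // z ∈ (TQ : Subgroup (↥E ⧸ Subgroup.center ↥E)) ∧ z * z = 1} := fun v =>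
    ⟨π ⟨v, (hVle v.2).2⟩, by
      obtain ⟨a, ha⟩ := v.2
      have e : (⟨(v : M), (hVle v.2).2⟩ : ↥E) = ⟨f a, (hfA a).2⟩ := Subtype.ext ha.symm
      rw [e]
      refine ⟨?_, ?_⟩
      · rw [hfπ]; exact mul_mem ((hk.norm _).mpr (hqT a a.2)) (hqT a a.2)
      · rw [← map_mul]
        exact (congrArg π (Subtype.ext (hsq _ (hfA a).1) : (⟨f a, (hfA a).2⟩ : ↥E) * ⟨f a, (hfA a).2⟩ = 1)).trans
          (map_one π)⟩
  have hψinj : Function.Injective ψ := by
    intro v w h
    have h1 : π ⟨v, (hVle v.2).2⟩ = π ⟨w, (hVle w.2).2⟩ := congrArg Subtype.val h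
    have h2 : (v : M)⁻¹ * w ∈ D := by
      have hmA : (v : M)⁻¹ * w ∈ A := mul_mem (inv_mem (hVle v.2).1) (hVle w.2).1
      have hc := QuotientGroup.eq.mp h1
      exact ⟨hmA, fun e he => congrArg Subtype.val (Subgroup.mem_center_iff.mp hc ⟨e, he⟩)⟩
    have h3 : (v : M)⁻¹ * w ∈ D ⊓ V := ⟨h2, V.mul_mem (V.inv_mem v.2) w.2⟩
    rw [hinf, Subgroup.mem_bot] at h3
    exact Subtype.ext (inv_mul_eq_one.mp h3)
  obtain ⟨a1, ha1, ha1c⟩ := SetLike.not_le_iff_exists.mp hne
  have hψsurj : Function.Surjective ψ := by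
    -- the image of `V` is a non-trivial `k0`-invariant subgroup
    rintro ⟨z, hz, hz2⟩
    rcases eq_or_ne z 1 with rfl | hz1
    · exact ⟨1, Subtype.ext (map_one π)⟩
    set z0 := k0 * qa a1 * k0⁻¹ * qa a1 with hz0
    have hz0T : z0 ∈ (TQ : Subgroup (↥E ⧸ Subgroup.center ↥E)) := mul_mem ((hk.norm _).mpr (hqT a1 ha1)) (hqT a1 ha1)
    have hz02 : z0 * z0 = 1 := by
      have e := (ψ ⟨f ⟨a1, ha1⟩, ⟨_, rfl⟩⟩).2.2
      show z0 * z0 = 1
      rw [hz0, ← hfπ ⟨a1, ha1⟩]
      exact e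
    have hz01 : z0 ≠ 1 := fun h => ha1c (hq_inj a1 ha1 (hfix _ (hqT a1 ha1) (hq2 a1 ha1) h))
    obtain ⟨i, hi⟩ := hk.trans z0 hz0T hz02 hz01 z hz hz2 hz1
    have hvi : ∀ (i : ℕ) (v : M), v ∈ V → (g : M) ^ i * v * ((g : M) ^ i)⁻¹ ∈ V := by
      intro i
      induction i with
      | zero => intro v hv; simpa using hv
      | succ i ih =>
        intro v hv
        have h1 : (g : M) * v * (g : M)⁻¹ ∈ V := by
          obtain ⟨a, rfl⟩ := hv
          refine ⟨⟨(g : M) * a * (g : M)⁻¹, (hconjA a a.2).1⟩, ?_⟩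
          show (g : M) * ((g : M) * a * (g : M)⁻¹) * (g : M)⁻¹ * ((g : M) * a * (g : M)⁻¹)⁻¹ =
            (g : M) * ((g : M) * a * (g : M)⁻¹ * (a : M)⁻¹) * (g : M)⁻¹
          group
        have := ih _ h1
        rw [pow_succ, _root_.mul_inv_rev]
        simpa [mul_assoc] using this
    refine ⟨⟨_, hvi i _ ⟨⟨a1, ha1⟩, rfl⟩⟩, Subtype.ext (Eq.trans ?_ hi)⟩
    rw [hz0, ← hfπ ⟨a1, ha1⟩, ← hg, ← map_pow, ← map_inv, ← map_mul, ← map_mul]
    rfl
  have hcard : Nat.card V = Nat.card {z // z ∈ (TQ : Subgroup (↥E ⧸ Subgroup.center ↥E)) ∧ z * z = 1} :=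
    Nat.card_eq_of_bijective ψ ⟨hψinj, hψsurj⟩
  refine ⟨V, g, ⟨g.2, hgN, hVle, hinf, hsupp, ?_, ?_, fun a ha => ⟨⟨a, ha⟩, rfl⟩, hcard ▸ hk.four, ?_⟩⟩
  · rintro _ ⟨a, rfl⟩
    refine ⟨⟨(g : M) * a * (g : M)⁻¹, (hconjA a a.2).1⟩, ?_⟩
    show (g : M) * ((g : M) * a * (g : M)⁻¹) * (g : M)⁻¹ * ((g : M) * a * (g : M)⁻¹)⁻¹ =
      (g : M) * ((g : M) * a * (g : M)⁻¹ * (a : M)⁻¹) * (g : M)⁻¹
    group
  · intro v hv hv1 w hw hw1
    have hne1 : ∀ (u : M) (hu : u ∈ V), u ≠ 1 → (ψ ⟨u, hu⟩ : ↥E ⧸ Subgroup.center ↥E) ≠ 1 := fun u hu hu1 h =>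
      hu1 (congrArg Subtype.val (hψinj (a₁ := ⟨u, hu⟩) (a₂ := 1) (Subtype.ext (h.trans (map_one π).symm))))
    obtain ⟨i, hi⟩ := hk.trans _ (ψ ⟨v, hv⟩).2.1 (ψ ⟨v, hv⟩).2.2 (hne1 v hv hv1) _ (ψ ⟨w, hw⟩).2.1
      (ψ ⟨w, hw⟩).2.2 (hne1 w hw hw1)
    have hvi : ∀ i : ℕ, (g : M) ^ i * v * ((g : M) ^ i)⁻¹ ∈ V := by
      intro i
      induction i with
      | zero => simpa using hv
      | succ i ih =>
        obtain ⟨a, ha⟩ := ih
        refine ⟨⟨(g : M) * a * (g : M)⁻¹, (hconjA a a.2).1⟩, ?_⟩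
        rw [pow_succ', show (g : M) * (g : M) ^ i * v * ((g : M) * (g : M) ^ i)⁻¹ =
          (g : M) * ((g : M) ^ i * v * ((g : M) ^ i)⁻¹) * (g : M)⁻¹ by group, ← ha]
        show (g : M) * ((g : M) * a * (g : M)⁻¹) * (g : M)⁻¹ * ((g : M) * a * (g : M)⁻¹)⁻¹ =
          (g : M) * ((g : M) * a * (g : M)⁻¹ * (a : M)⁻¹) * (g : M)⁻¹
        group
    refine ⟨i, congrArg Subtype.val (hψinj (a₁ := ⟨_, hvi i⟩) (a₂ := ⟨w, hw⟩) (Subtype.ext ?_))⟩
    refine Eq.trans ?_ hi
    rw [← hg, ← map_pow, ← map_inv]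
    show _ = π (g ^ i) * π ⟨v, (hVle hv).2⟩ * π (g ^ i)⁻¹
    rw [← map_mul, ← map_mul]
    rfl
  · rcases suzuki_or_three hl with hs | ⟨h3, h4⟩
    · exact Or.inr ⟨hcard ▸ suzuki_eight hs TQ, hs⟩
    · refine Or.inl ⟨le_antisymm ?_ (hcard ▸ hk.four), h3⟩
      rw [hcard]
      exact (Nat.card_le_card_of_injective (fun z : {z // z ∈ (TQ : Subgroup (↥E ⧸ Subgroup.center ↥E)) ∧ z * z = 1} => (⟨z.1, z.2.1⟩ : (TQ : Subgroup (↥E ⧸ Subgroup.center ↥E))))
        fun z w h => Subtype.ext (congrArg Subtype.val h :)).trans (le_of_eq (h4 TQ))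

/-- A component not centralised by `A` is determined by its centraliser in `A`. -/
theorem Ctx.component_unique (hM : Ctx M) (hA : Closed T A) {E' : Subgroup M} (hE : IsComponent E)
    (hE' : IsComponent E') (hne : ¬ A ≤ Subgroup.centralizer (E : Set M))
    (h : A ⊓ Subgroup.centralizer (E : Set M) = A ⊓ Subgroup.centralizer (E' : Set M)) : E = E' := by
  refine (components_eq_or_commute hE hE').resolve_right fun hbot => ?_
  obtain ⟨V, k, hb⟩ := hM.exists_compBlock hA hE hne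
  have hle : V ≤ A ⊓ Subgroup.centralizer (E : Set M) := by
    rw [h]
    exact fun v hv => ⟨(hb.V_le hv).1, fun e he => (comm_of_commutator_eq_bot hbot (hb.V_le hv).2 he).symm⟩
  have h4 := hb.four_le
  rw [le_bot_iff.mp (hb.disjoint ▸ le_inf hle le_rfl : V ≤ ⊥), Subgroup.card_bot] at h4
  omega

/-- An element normalising `A` and fixing the centraliser of a component in `A` normalises the component and
moves the elements of `A` by elements of the component. -/
theorem Ctx.fix_moves (hM : Ctx M) (hA : Closed T A) (hE : IsComponent E)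
    (hne : ¬ A ≤ Subgroup.centralizer (E : Set M)) {x : M} (hx : x ∈ Subgroup.normalizer (A : Set M))
    (hfix : ∀ d ∈ A ⊓ Subgroup.centralizer (E : Set M), x * d = d * x) :
    x ∈ Subgroup.normalizer (E : Set M) ∧ ∀ a ∈ A, x * a * x⁻¹ * a⁻¹ ∈ A ⊓ E := by
  obtain ⟨V, k, hb⟩ := hM.exists_compBlock hA hE hne
  have hcomm : ∀ a ∈ A, ∀ b ∈ A, a * b = b * a := fun a ha b hb =>
    congrArg Subtype.val (hA.elem.1.is_comm.comm ⟨a, ha⟩ ⟨b, hb⟩)
  have hE' : IsComponent (E.map (MulAut.conj x).toMonoidHom) := isComponent_map_equiv (MulAut.conj x) hE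
  have hN : x ∈ Subgroup.normalizer (E : Set M) := by
    refine mem_normalizer_of_map_eq (hM.component_unique hA hE hE' hne ?_).symm
    ext a
    constructor
    · intro ha
      refine ⟨ha.1, ?_⟩
      rintro _ ⟨e, he, rfl⟩
      show x * e * x⁻¹ * a = a * (x * e * x⁻¹)
      have h1 : x⁻¹ * a * x = a := by rw [mul_assoc, ← hfix a ha, inv_mul_cancel_left]
      calc x * e * x⁻¹ * a = x * (e * (x⁻¹ * a * x)) * x⁻¹ := by group
        _ = x * ((x⁻¹ * a * x) * e) * x⁻¹ := by rw [h1, ha.2 e he]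
        _ = a * (x * e * x⁻¹) := by group
    · rintro ⟨ha, hac⟩
      have hb' : x⁻¹ * a * x ∈ A ⊓ Subgroup.centralizer (E : Set M) := by
        refine ⟨(Subgroup.mem_normalizer_iff''.mp hx a).mp ha, fun e he => ?_⟩
        have h1 := hac (x * e * x⁻¹) ⟨e, he, rfl⟩
        calc e * (x⁻¹ * a * x) = x⁻¹ * (x * e * x⁻¹ * a) * x := by group
          _ = x⁻¹ * (a * (x * e * x⁻¹)) * x := by rw [h1]
          _ = x⁻¹ * a * x * e := by group
      have h2 := hfix _ hb'
      rw [← mul_assoc, ← mul_assoc, mul_inv_cancel, one_mul] at h2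
      have h3 : a = x⁻¹ * a * x := mul_right_cancel h2
      rw [h3]
      exact hb'
  refine ⟨hN, fun a ha => ⟨A.mul_mem ((Subgroup.mem_normalizer_iff.mp hx a).mp ha) (A.inv_mem ha), ?_⟩⟩
  obtain ⟨d, hd, v, hv, rfl⟩ := hb.split hcomm ha
  have e1 : x * (d * v) * x⁻¹ * (d * v)⁻¹ = x * v * x⁻¹ * v⁻¹ := by
    have h1 : x * (d * v) * x⁻¹ = d * (x * v * x⁻¹) := by
      rw [← mul_assoc x, hfix d hd]; group
    have h2 := hcomm d hd.1 _ (mul_mem ((Subgroup.mem_normalizer_iff.mp hx v).mp (hb.V_le hv).1)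
      (inv_mem (hb.V_le hv).1))
    calc x * (d * v) * x⁻¹ * (d * v)⁻¹ = d * (x * v * x⁻¹ * v⁻¹) * d⁻¹ := by rw [h1]; group
      _ = x * v * x⁻¹ * v⁻¹ := by rw [h2, mul_inv_cancel_right]
  rw [e1]
  exact E.mul_mem ((Subgroup.mem_normalizer_iff.mp hN v).mp (hb.V_le hv).2) (E.inv_mem (hb.V_le hv).2)

end CfsgLib.S3Simple
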