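import Cfsg.Agent.Lib.S3Simple.Eight.Main
import Cfsg.Agent.Lib.S3Simple.Four.Main

/-!
The classification of the simple groups that do not involve `S₃`, unconditionally.

Blueprint: `blueprint/S3Free.md`.
-/

set_option autoImplicit false

namespace CfsgLib.S3Simple

open Cfsg

universe u

theorem fourKilled : FourKilled.{u} := fun _ _ _ _ _ H => H.false

/-- A simple group without a section `S₃` is a Suzuki group or `PSL₂(3^(2n+1))`. -/
theorem classify (G : Type u) [Group G] [Finite G] (hs : IsSimpleGroup G) (hna : ¬ IsMulCommutative G)
    (hfree : ¬ Involves (Equiv.Perm (Fin 3)) G) : IsSuzukiOrPSL2OddPowerThree G :=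
  classify_of_killed eightKilled fourKilled G hs hna hfree

end CfsgLib.S3Simple
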