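import Cfsg.Agent.Lib.S3Simple.Main
import Cfsg.Agent.Lib.GoldschmidtS3.Basic
import Cfsg.Agent.Lib.Fusion.ZJCriterion
import Cfsg.Agent.S2793
import Cfsg.Agent.S1163
import Cfsg.Prelude.Def_Exceptional

/-!
Consequences of the classification for S0336 and S2757.

Blueprint: `blueprint/S3Free.md`, section 7.
-/

set_option autoImplicit false
set_option linter.unusedSectionVars false
set_option linter.style.haveILetI false

namespace CfsgLib.S3Simple

open Cfsg

universe u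

variable {G : Type u} [Group G] [Finite G]

theorem free_of_not_three (h3 : ¬ 3 ∣ Nat.card G) : ¬ Involves (Equiv.Perm (Fin 3)) G := by
  rintro ⟨K, R, hn, ⟨f⟩⟩
  refine h3 (dvd_trans ?_ (Subgroup.card_subgroup_dvd_card K))
  refine dvd_trans ?_ (Subgroup.card_quotient_dvd_card (R.subgroupOf K))
  rw [Nat.card_congr f.toEquiv, Nat.card_perm, Nat.card_eq_fintype_card, Fintype.card_fin]
  norm_num [Nat.factorial]

/-- A simple `3'`-group has the order of a Suzuki group. -/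
theorem suzuki_of_killed (h8 : EightKilled.{u}) (h4 : FourKilled.{u}) (hs : IsSimpleGroup G)
    (hG : ∃ a b : G, a * b ≠ b * a) (h3 : ¬ 3 ∣ Nat.card G) : IsSuzuki G := by
  obtain ⟨a, b, hab⟩ := hG
  have hl := classify_of_killed h8 h4 G hs (fun hc => hab (hc.is_comm.comm a b)) (free_of_not_three h3)
  rcases (suzuki_or_three (K := G) hl) with hz | ⟨hd, -⟩
  · obtain ⟨F, i1, i2, m, hm, hc, ⟨e⟩⟩ := hz
    exact ⟨hs, m, hm, by rw [Nat.card_congr e.toEquiv, (Cfsg.Agent.S1163.result hm hc).1]; ring⟩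
  · exact absurd hd h3

/-- No section `S₃` when no element of a Sylow 3-subgroup is inverted in the normaliser of `ZJ`. -/
theorem free_of_not_inverted (T : Sylow 3 G)
    (h : ∀ x ∈ (T : Subgroup G), x ≠ 1 → ∀ g ∈ Subgroup.normalizer (centerThompsonAOf (T : Subgroup G) : Set G),
      g * x * g⁻¹ ≠ x⁻¹) : ¬ Involves (Equiv.Perm (Fin 3)) G := by
  haveI : Fact (Nat.Prime 3) := ⟨Nat.prime_three⟩
  set U := centerThompsonAOf (T : Subgroup G) with hU
  have hUT : U ≤ (T : Subgroup G) := CfsgLib.ZJ.centerThompsonAOf_le (T : Subgroup G)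
  have hTN : (T : Subgroup G) ≤ Subgroup.normalizer (U : Set G) :=
    Subgroup.le_normalizer.trans (CfsgLib.ZJ.normalizer_le_normalizer_centerThompsonAOf (T : Subgroup G))
  by_cases hctl : ControlsStrongFusion 3 U
  swap
  · exfalso
    obtain ⟨-, C, hCU, hC3, hrel⟩ := Cfsg.Agent.S2793.result (p := 3) (by norm_num) T hctl _ rfl
    obtain ⟨g, hg, hgc⟩ : ∃ g ∈ Subgroup.normalizer (U : Set G) ⊓ Subgroup.normalizer (C : Set G),
        g ∉ Subgroup.centralizer (C : Set G) := by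
      by_contra hcon
      push Not at hcon
      rw [Subgroup.relIndex_eq_one.mpr (fun g hg => Subgroup.mem_inf.mpr ⟨(Subgroup.mem_inf.mp hg).1, hcon g hg⟩)] at hrel
      omega
    obtain ⟨c, hc, hcne⟩ : ∃ c ∈ C, g * c * g⁻¹ ≠ c := by
      by_contra hcon
      push Not at hcon
      exact hgc fun c hc => (mul_inv_eq_iff_eq_mul.mp (hcon c hc)).symm
    have hc1 : c ≠ 1 := fun e => hcne (by rw [e, mul_one, mul_inv_cancel])
    have hgC : g * c * g⁻¹ ∈ C := (Subgroup.mem_normalizer_iff.mp hg.2 c).mp hc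
    have hord : orderOf c = 3 := by
      refine ((Nat.dvd_prime Nat.prime_three).mp ?_).resolve_left fun e => hc1 (orderOf_eq_one_iff.mp e)
      exact hC3 ▸ Subgroup.orderOf_dvd_natCard C hc
    have hz : Subgroup.zpowers c = C := Subgroup.eq_of_le_of_card_ge (Subgroup.zpowers_le.mpr hc)
      (by rw [Nat.card_zpowers, hord, hC3])
    obtain ⟨i, hi⟩ := Subgroup.mem_zpowers_iff.mp (hz.symm ▸ hgC)
    rw [← zpow_mod_orderOf, hord] at hi
    have hcase : i % (3 : ℕ) = 0 ∨ i % (3 : ℕ) = 1 ∨ i % (3 : ℕ) = 2 := by omega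
    rcases hcase with e | e | e <;> rw [e] at hi
    · rw [zpow_zero] at hi
      exact hc1 (conj_eq_one_iff.mp hi.symm)
    · rw [zpow_one] at hi
      exact hcne hi.symm
    · refine h c (hUT (hCU hc)) hc1 g hg.1 ?_
      rw [← hi, eq_inv_iff_mul_eq_one, ← zpow_add_one]
      norm_num
      rw [← hord]
      exact pow_orderOf_eq_one c
  obtain ⟨T', hUT', hf⟩ := hctl
  intro hinv
  obtain ⟨x, y, hx, ⟨k, hk⟩, hy1, hxy⟩ := GoldschmidtS3.involves_perm3_iff.mp hinv
  -- the Sylow subgroup of the control is conjugate to `T` in the normaliser of `U`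
  have hT'N : (T' : Subgroup G) ≤ Subgroup.normalizer (U : Set G) := by
    intro g hg
    obtain ⟨-, hex⟩ := hf (U : Set G) hUT'
    obtain ⟨m, hm, he⟩ := hex g (by
      rintro _ ⟨u, hu, rfl⟩
      exact mul_mem (mul_mem hg (hUT' hu)) (inv_mem hg))
    refine CfsgLib.Comp.mem_normalizer_of_maps fun u hu => ?_
    rw [he u hu]
    exact (Subgroup.mem_normalizer_iff.mp hm u).mp hu
  let P : Sylow 3 (Subgroup.normalizer (U : Set G)) := T.subtype hTN
  let P' : Sylow 3 (Subgroup.normalizer (U : Set G)) := T'.subtype hT'N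
  obtain ⟨n, hn⟩ := MulAction.exists_smul_eq (Subgroup.normalizer (U : Set G)) P' P
  obtain ⟨P₀, hP₀⟩ := (CfsgLib.Comp.zpowers_isPGroup (p := 3) (n := k)
    (show y ^ 3 ^ k = 1 by rw [← hk, pow_orderOf_eq_one])).exists_le_sylow
  obtain ⟨g, hg⟩ := MulAction.exists_smul_eq G P₀ T'
  set y' := g * y * g⁻¹ with hy'
  have hy'T : y' ∈ (T' : Subgroup G) := by
    rw [← hg, Sylow.coe_subgroup_smul]
    exact Subgroup.smul_mem_pointwise_smul _ (MulAut.conj g) _ (hP₀ (Subgroup.mem_zpowers y))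
  have hconj : (g * x * g⁻¹) * y' * (g * x * g⁻¹)⁻¹ = y'⁻¹ := by
    rw [hy', show g * x * g⁻¹ * (g * y * g⁻¹) * (g * x * g⁻¹)⁻¹ = g * (x * y * x⁻¹) * g⁻¹ by group, hxy]
    group
  obtain ⟨-, hex⟩ := hf ({y'} : Set G) (Set.singleton_subset_iff.mpr hy'T)
  obtain ⟨m, hm, he⟩ := hex (g * x * g⁻¹) (by
    rw [Set.image_singleton, Set.singleton_subset_iff, hconj]
    exact inv_mem hy'T)
  have hmy : m * y' * m⁻¹ = y'⁻¹ := (he y' rfl).symm.trans hconj
  -- move into `T`
  set y'' := (n : G) * y' * (n : G)⁻¹ with hy''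
  have hy''T : y'' ∈ (T : Subgroup G) := by
    have h1 : (⟨y', hT'N hy'T⟩ : Subgroup.normalizer (U : Set G)) ∈
        (P' : Subgroup (Subgroup.normalizer (U : Set G))) := hy'T
    have h2 := Subgroup.smul_mem_pointwise_smul _ (MulAut.conj n) _ h1
    rw [← Sylow.coe_subgroup_smul, hn] at h2
    exact h2
  refine h y'' hy''T (fun e => hy1 ?_) ((n : G) * m * (n : G)⁻¹)
    (mul_mem (mul_mem n.2 hm) (inv_mem n.2)) ?_
  · exact conj_eq_one_iff.mp (conj_eq_one_iff.mp e)
  · rw [hy'', show (n : G) * m * (n : G)⁻¹ * ((n : G) * y' * (n : G)⁻¹) * ((n : G) * m * (n : G)⁻¹)⁻¹ =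
      n * (m * y' * m⁻¹) * (n : G)⁻¹ by group, hmy]
    group

/-- S2757. -/
theorem zj_of_killed (h8 : EightKilled.{u}) (h4 : FourKilled.{u}) (T : Sylow 3 G)
    (h : ∀ x ∈ (T : Subgroup G), x ≠ 1 → ∀ g ∈ Subgroup.normalizer (centerThompsonAOf (T : Subgroup G) : Set G),
      g * x * g⁻¹ ≠ x⁻¹) :
    ¬ Involves (Equiv.Perm (Fin 3)) G ∧ IsCompositionKGroupWith IsSuzukiOrPSL2OddPowerThree G :=
  ⟨free_of_not_inverted T h, compK_of_killed h8 h4 G (free_of_not_inverted T h)⟩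

end CfsgLib.S3Simple
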