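import Cfsg.Agent.Lib.Suzuki.Aut
import Cfsg.Agent.Lib.Suzuki.SylowAut
import Cfsg.Agent.Lib.Suzuki.Torus
import Cfsg.Agent.Lib.Suzuki.Lie
import Cfsg.Agent.Lib.PSL2.Out
import Cfsg.Agent.Lib.ReeTori.PSLFacts
import Cfsg.Agent.Lib.Chev.Aut.FieldCyclic
import Cfsg.Agent.Lib.GoldschmidtS3.Families
import Cfsg.Prelude.Def_LocalEven

/-!
Two-local and automorphism facts for `Sz(q)` and `PSL₂(3^f)`, `f` odd, on the concrete models.

Blueprint: `blueprint/S3Free.md`, section 1.
-/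

set_option autoImplicit false
set_option linter.unusedSectionVars false
set_option linter.style.haveILetI false

namespace CfsgLib.S3Simple

open Cfsg

universe u

/-- The shape of a Sylow 2-subgroup `T` of a listed simple group: its elements of order two are central in it, they are
permuted transitively by an element `k` of odd order normalising `T`, and they are centralised only by
elements of `T`, and their normaliser induces on them no more than the powers of `k`. -/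
structure TwoLocal {K : Type u} [Group K] (T : Subgroup K) (k : K) : Prop where
  central : ∀ x ∈ T, x * x = 1 → ∀ y ∈ T, x * y = y * x
  four : 4 ≤ Nat.card {x : K // x ∈ T ∧ x * x = 1}
  odd : Odd (orderOf k)
  norm : ∀ x, k * x * k⁻¹ ∈ T ↔ x ∈ T
  trans : ∀ x ∈ T, x * x = 1 → x ≠ 1 → ∀ y ∈ T, y * y = 1 → y ≠ 1 → ∃ i : ℕ, k ^ i * x * (k ^ i)⁻¹ = y
  cent : ∀ x, (∀ y ∈ T, y * y = 1 → x * y = y * x) → x ∈ T
  borel : ∀ x, (∀ y ∈ T, y * y = 1 → x * y * x⁻¹ ∈ T) →
    ∃ i : ℕ, ∀ y ∈ T, y * y = 1 → x * y * x⁻¹ = k ^ i * y * (k ^ i)⁻¹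

theorem orderOf_conj_dvd {K : Type u} [Group K] (g : K) :
    orderOf (MulAut.conj g) ∣ orderOf g :=
  orderOf_map_dvd (MulAut.conj (G := K)) g

namespace SzModel

open CfsgLib.Suzuki

variable {F : Type} [Field F] [Fintype F] {m : ℕ} (hF : Fintype.card F = 2 ^ (2 * m + 1)) (hm : 1 ≤ m)
include hF hm

theorem exists_twoLocal : ∃ k, TwoLocal (U hF) k := by
  haveI : CharP F 2 := charTwo hF
  obtain ⟨gen, hgen⟩ := IsCyclic.exists_generator (α := Fˣ)
  have hz : ∀ x ∈ U hF, x * x = 1 → ∃ b, x = uS hF 0 b := fun x hx h2 => mem_Z_of_sq hF hx h2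
  have hzc : ∀ b c d, uS hF 0 b * uS hF c d = uS hF c d * uS hF 0 b := fun b c d => by
    rw [uS_mul, uS_mul, th_zero]
    ring_nf
  refine ⟨dS hF gen, ?_⟩
  constructor
  · rintro x hx h2 y ⟨c, d, rfl⟩
    obtain ⟨b, rfl⟩ := hz x hx h2
    exact hzc b c d
  · let f : F → {x : ↥(Cfsg.Sz F m) // x ∈ U hF ∧ x * x = 1} := fun b =>
      ⟨uS hF 0 b, ⟨0, b, rfl⟩, by rw [uS_sq, mul_zero, uS_zero]⟩
    have hf : Function.Injective f := fun b c h => (uS_inj hF (congrArg Subtype.val h)).2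
    refine le_trans ?_ (Nat.card_le_card_of_injective f hf)
    rw [Nat.card_eq_fintype_card, hF]
    calc 4 = 2 ^ 2 := by norm_num
      _ ≤ _ := Nat.pow_le_pow_right (by norm_num) (by omega)
  · have h1 : orderOf (dS hF gen) = orderOf gen :=
      orderOf_injective (dHomS hF) (fun t s h => dS_inj hF h) gen
    rw [h1, orderOf_eq_card_of_forall_mem_zpowers hgen, Nat.card_units, Nat.card_eq_fintype_card, hF]
    exact Nat.Even.sub_odd (Nat.one_le_two_pow) ((Nat.even_pow).mpr ⟨even_two, by omega⟩) odd_one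

  · intro x
    have key : ∀ (t : Fˣ) (y : ↥(Cfsg.Sz F m)), y ∈ U hF → dS hF t * y * (dS hF t)⁻¹ ∈ U hF := by
      rintro t y ⟨a, b, rfl⟩
      have := conj_uS hF 0 0 t a b
      rw [uS_zero, one_mul] at this
      rw [this]
      exact ⟨_, _, rfl⟩
    refine ⟨fun h => ?_, key gen x⟩
    have := key gen⁻¹ _ h
    rw [← dS_inv, inv_inv] at this
    simpa [mul_assoc] using this
  · intro x hx hx2 hx1 y hy hy2 hy1
    obtain ⟨b, rfl⟩ := hz x hx hx2
    obtain ⟨c, rfl⟩ := hz y hy hy2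
    have hb : b ≠ 0 := fun h => hx1 (by rw [h, uS_zero])
    have hc : c ≠ 0 := fun h => hy1 (by rw [h, uS_zero])
    obtain ⟨t, ht⟩ := th_sq_surj hF (div_ne_zero hc hb)
    obtain ⟨i, hi⟩ := (mem_powers_iff_mem_zpowers (x := gen)).mpr (hgen t)
    refine ⟨i, ?_⟩
    have he : dS hF gen ^ i = dS hF t := by
      rw [← hi]
      exact (map_pow (dHomS hF) gen i).symm
    have := conj_uS_zero hF 0 0 t b
    rw [uS_zero, one_mul] at this
    rw [he, this, ht, div_mul_cancel₀ _ hb]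
  · intro x hc
    refine centralizer_unipotent hF hm (u := uS hF 0 1) ⟨0, 1, rfl⟩
      (fun h => one_ne_zero ((eq_one_iff_uS hF).mp h).2) ?_
    rw [Subgroup.mem_centralizer_singleton_iff]
    exact hc _ ⟨0, 1, rfl⟩ (by rw [uS_sq, mul_zero, uS_zero])
  · intro x hx
    obtain ⟨r, s, t, rfl⟩ := (mem_stabInf_iff hF hm).mp (conj_fix_inf hF (g := uS hF 0 1) ⟨0, 1, rfl⟩
      (fun h => one_ne_zero ((eq_one_iff_uS hF).mp h).2) (hx _ ⟨0, 1, rfl⟩ (by rw [uS_sq, mul_zero, uS_zero])))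
    obtain ⟨i, hi⟩ := (mem_powers_iff_mem_zpowers (x := gen)).mpr (hgen t)
    refine ⟨i, fun y hy hy2 => ?_⟩
    obtain ⟨b, rfl⟩ := hz y hy hy2
    have he : dS hF gen ^ i = dS hF t := by
      rw [← hi]
      exact (map_pow (dHomS hF) gen i).symm
    have h0 := conj_uS_zero hF 0 0 t b
    rw [uS_zero, one_mul] at h0
    rw [he, conj_uS_zero, h0]

theorem solvable_out : Group.IsSolvable (MulAut ↥(Cfsg.Sz F m) ⧸ (MulAut.conj (G := ↥(Cfsg.Sz F m))).range) := by
  set π := QuotientGroup.mk' (MulAut.conj (G := ↥(Cfsg.Sz F m))).range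
  refine Group.isSolvable_of_comm fun x y => ?_
  obtain ⟨φ, rfl⟩ := QuotientGroup.mk'_surjective _ x
  obtain ⟨ψ, rfl⟩ := QuotientGroup.mk'_surjective _ y
  have hpi : ∀ g, π (MulAut.conj g) = 1 := fun g => (QuotientGroup.eq_one_iff _).mpr ⟨g, rfl⟩
  obtain ⟨g, i, rfl⟩ := aut_eq hF hm φ
  obtain ⟨g', j, rfl⟩ := aut_eq hF hm ψ
  rw [map_mul, map_mul, hpi, hpi, one_mul, one_mul, ← map_mul, ← map_mul]
  refine congrArg π (MulEquiv.ext fun x => Subtype.ext (Subtype.ext ?_))
  ext r s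
  show (((x.1.1 r s) ^ 2 ^ (j : ℕ)) ^ 2 ^ (i : ℕ) : F) = ((x.1.1 r s) ^ 2 ^ (i : ℕ)) ^ 2 ^ (j : ℕ)
  rw [← pow_mul, ← pow_mul, mul_comm]

theorem inner_of_two (φ : MulAut ↥(Cfsg.Sz F m)) {j : ℕ} (ho : orderOf φ = 2 ^ j) :
    φ ∈ (MulAut.conj (G := ↥(Cfsg.Sz F m))).range := by
  set x : Cfsg.Out ↥(Cfsg.Sz F m) := QuotientGroup.mk φ
  have h1 : x = 1 := by
    have hd : orderOf x ∣ 2 ^ j := ho ▸ orderOf_map_dvd (QuotientGroup.mk' _) φ
    have hc : orderOf x ∣ 2 * m + 1 := card_out hF hm ▸ orderOf_dvd_natCard x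
    exact orderOf_eq_one_iff.mp (Nat.dvd_one.mp
      ((Nat.Coprime.pow_left j (Nat.prime_two.coprime_iff_not_dvd.mpr
        (show ¬ 2 ∣ 2 * m + 1 by omega))).gcd_eq_one ▸ Nat.dvd_gcd hd hc))
  exact (QuotientGroup.eq_one_iff φ).mp h1

/-- An automorphism of odd order fixing the involutions of the Sylow subgroup is trivial. -/
theorem odd_fix {φ : MulAut ↥(Cfsg.Sz F m)} (ho : Odd (orderOf φ))
    (hfix : ∀ x ∈ U hF, x * x = 1 → φ x = x) : φ = 1 := by
  have hfix' : ∀ b, φ (uS hF 0 b) = uS hF 0 b := fun b =>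
    hfix _ ⟨0, b, rfl⟩ (by rw [uS_sq, mul_zero, uS_zero])
  obtain ⟨g, i, rfl⟩ := aut_eq hF hm φ
  have hi : ∀ b, g * uS hF 0 (b ^ 2 ^ (i : ℕ)) * g⁻¹ = uS hF 0 b := fun b => by
    have := hfix' b
    rwa [MulAut.mul_apply, fAut_uS, zero_pow (by positivity), MulAut.conj_apply] at this
  have hg : g • suzukiPointInfinity F = suzukiPointInfinity F := by
    refine conj_fix_inf hF (g := uS hF 0 (1 ^ 2 ^ (i : ℕ))) ⟨_, _, rfl⟩ (fun h => ?_) (by rw [hi]; exact ⟨_, _, rfl⟩)
    exact one_ne_zero ((one_pow (2 ^ (i : ℕ))).symm.trans ((eq_one_iff_uS hF).mp h).2)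
  obtain ⟨r, s, t, rfl⟩ := (mem_stabInf_iff hF hm).mp hg
  have hb : ∀ b : F, th m (t : F) * (t : F) ^ 2 * b ^ 2 ^ (i : ℕ) = b := fun b => by
    have := hi b
    rw [conj_uS_zero] at this
    exact (uS_inj hF this).2
  have ht : t = 1 := by
    refine Units.ext (eq_one_of_th_sq hF ?_)
    simpa using hb 1
  subst ht
  have hi0 : (i : ℕ) = 0 := by
    refine pow_two_pow_injective hF i.2 (by omega) hm fun b => ?_
    have := hb b
    rw [Units.val_one, th_one, one_pow, one_mul, one_mul] at this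
    rw [this, pow_zero, pow_one]
  have hf : fAut hF hm (i : ℕ) = 1 := MulEquiv.ext fun x => Subtype.ext (Subtype.ext (by
    ext a b
    show (x.1.1 a b) ^ 2 ^ (i : ℕ) = x.1.1 a b
    rw [hi0, pow_zero, pow_one]))
  rw [hf, mul_one, dS_one, mul_one] at ho ⊢
  have hd : orderOf (MulAut.conj (uS hF r s)) ∣ 4 := by
    refine (orderOf_conj_dvd _).trans ?_
    have h4 := Monoid.order_dvd_exponent (⟨uS hF r s, (mem_U hF).mpr ⟨r, s, rfl⟩⟩ : U hF)
    rwa [(U_structure hF hm).1, Subgroup.orderOf_mk] at h4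
  refine orderOf_eq_one_iff.mp ?_
  have : orderOf (MulAut.conj (uS hF r s)) ∣ 1 :=
    (Nat.Coprime.gcd_eq_one (Nat.Coprime.pow_right 2 (Nat.Coprime.symm
      (Nat.prime_two.coprime_iff_not_dvd.mpr ho.not_two_dvd_nat))) :
        Nat.gcd (orderOf (MulAut.conj (uS hF r s))) (2 ^ 2) = 1) ▸ Nat.dvd_gcd dvd_rfl hd
  exact Nat.dvd_one.mp this

end SzModel

namespace L2Model

open Matrix
open CfsgLib.PSL2 (mk diagAut dil fieldPart exists_dil_mul dil_inner_iff diagAut_toGL uu)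
open CfsgLib.ReeTori (QData)

variable {F : Type} [Field F] [Fintype F] {m : ℕ} (D : QData F m)

local notation "PSL" => Matrix.ProjectiveSpecialLinearGroup (Fin 2) F

variable [Fact (Nat.Prime 3)] [CharP F 3]

theorem exists_twoLocal (D : QData F m) :
    ∃ (T : Subgroup PSL) (k : PSL), TwoLocal T k ∧ IsPGroup 2 T ∧ ¬ 2 ∣ T.index ∧ Nat.card T = 4 := by
  obtain ⟨g, b, c, hg3, hg1, hb, hb1, hc, hc1, hbc, hcm, e1, e2⟩ := ReeTori.exists_cycle D
  refine ⟨PSL2Klein.four b c hb hc hcm, g, ?_⟩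
  set T := PSL2Klein.four b c hb hc hcm
  have hb0 : b⁻¹ = b := inv_eq_of_mul_eq_one_left hb
  have hmem : ∀ x, x ∈ T ↔ x = 1 ∨ x = b ∨ x = c ∨ x = b * c := fun x => Iff.rfl
  have hbcne : b * c ≠ 1 := fun h => hbc (by rw [← hb0]; exact inv_eq_of_mul_eq_one_right h)
  have hcard : Nat.card T = 4 := by
    have := (PSL2Klein.four_klein hb hc hcm hb1 hc1 hbc).card_four
    exact this
  have hg : orderOf g = 3 := orderOf_eq_prime hg3 hg1
  have e3 : g * (b * c) * g⁻¹ = b := by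
    rw [← conj_mul, e1, e2, hcm, ← mul_assoc, hc, one_mul]
  have hconj : ∀ x ∈ T, g * x * g⁻¹ ∈ T := by
    intro x hx
    rcases (hmem x).mp hx with rfl | rfl | rfl | rfl
    · simp
    · exact (hmem _).mpr (Or.inr (Or.inr (Or.inl e1)))
    · exact (hmem _).mpr (Or.inr (Or.inr (Or.inr e2)))
    · exact (hmem _).mpr (Or.inr (Or.inl e3))
  have hbT : b ∈ T := (hmem b).mpr (Or.inr (Or.inl rfl))
  have hcT : c ∈ T := (hmem c).mpr (Or.inr (Or.inr (Or.inl rfl)))
  have hsq : ∀ z ∈ T, z * z = 1 := by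
    intro z hz
    rcases (hmem z).mp hz with rfl | rfl | rfl | rfl
    · exact one_mul 1
    · exact hb
    · exact hc
    · rw [mul_assoc, ← mul_assoc c, ← hcm, mul_assoc b c c, hc, mul_one, hb]
  have hcomT : ∀ x ∈ T, ∀ y ∈ T, x * y = y * x := by
    intro x hx y hy
    have hi : ∀ z ∈ T, z⁻¹ = z := fun z hz => inv_eq_of_mul_eq_one_left (hsq z hz)
    calc x * y = (x * y)⁻¹ := (hi _ (mul_mem hx hy)).symm
      _ = y * x := by rw [_root_.mul_inv_rev, hi x hx, hi y hy]
  have hcentT : ∀ x, (∀ y ∈ T, y * y = 1 → x * y = y * x) → x ∈ T := fun x hcomm =>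
    (hmem x).mpr (ReeTori.four_cent hb1 hb hc1 hc hbc hcm (hcomm b hbT hb) (hcomm c hcT hc))
  have hindex : ¬ 2 ∣ T.index := by
    intro hd
    have hi := T.card_mul_index
    have hP := ReeTori.card_PSL D
    obtain ⟨h8, h27⟩ := D.mod
    rw [← hi, hcard] at hP
    obtain ⟨k, hk⟩ := hd
    rw [hk] at hP
    obtain ⟨a, ha⟩ : ∃ a, Fintype.card F = 8 * a + 3 := ⟨Fintype.card F / 8, by omega⟩
    rw [ha] at hP
    have hsq : (8 * a + 3) ^ 2 - 1 = 8 * ((2 * a + 1) * (4 * a + 1)) := by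
      apply Nat.sub_eq_of_eq_add
      ring
    rw [hsq] at hP
    have hodd : Odd ((8 * a + 3) * ((2 * a + 1) * (4 * a + 1))) :=
      (Nat.odd_iff.mpr (by omega)).mul ((Nat.odd_iff.mpr (by omega)).mul (Nat.odd_iff.mpr (by omega)))
    have h2 : 16 * k = 8 * ((8 * a + 3) * ((2 * a + 1) * (4 * a + 1))) := by
      rw [mul_left_comm 8]
      linarith
    exact absurd (Nat.even_iff.mp ⟨k, by omega⟩ : (8 * a + 3) * ((2 * a + 1) * (4 * a + 1)) % 2 = 0)
      (by rw [Nat.odd_iff.mp hodd]; norm_num)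
  refine ⟨?_, IsPGroup.of_card (n := 2) hcard, ?_, hcard⟩
  · constructor
    · exact fun x hx _ => hcomT x hx
    · refine le_trans hcard.ge ?_
      refine Nat.card_le_card_of_injective (fun x : T => ⟨(x : PSL), x.2, ?_⟩) fun x y h =>
        Subtype.ext (congrArg Subtype.val h :)
      rcases (hmem x).mp x.2 with h | h | h | h <;> rw [h]
      · exact one_mul 1
      · exact hb
      · exact hc
      · rw [mul_assoc, ← mul_assoc c, ← hcm, mul_assoc b c c, hc, mul_one, hb]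
    · rw [hg]
      decide
    · intro x
      refine ⟨fun h => ?_, hconj x⟩
      have h1 := hconj _ (hconj _ h)
      have e : g * (g * (g * x * g⁻¹) * g⁻¹) * g⁻¹ = x := by
        have h3 : g ^ 3 * x * (g ^ 3)⁻¹ = x := by rw [hg3, one_mul, inv_one, mul_one]
        simpa [pow_succ, mul_assoc] using h3
      rwa [e] at h1
    · intro x hx _ hx1 y hy _ hy1
      have hb' : ∀ z ∈ T, z ≠ 1 → ∃ i : ℕ, i < 3 ∧ g ^ i * b * (g ^ i)⁻¹ = z := by
        intro z hz hz1
        rcases (hmem z).mp hz with rfl | rfl | rfl | rfl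
        · exact absurd rfl hz1
        · exact ⟨0, by norm_num, by simp⟩
        · exact ⟨1, by norm_num, by simpa using e1⟩
        · refine ⟨2, by norm_num, ?_⟩
          rw [pow_two, _root_.mul_inv_rev, ← e2, ← e1]
          group
      obtain ⟨i, hi, rfl⟩ := hb' x hx hx1
      obtain ⟨j, -, rfl⟩ := hb' y hy hy1
      refine ⟨j + (3 - i), ?_⟩
      have : g ^ (j + (3 - i)) * g ^ i = g ^ j := by
        rw [← pow_add, show j + (3 - i) + i = j + 3 by omega, pow_add, hg3, mul_one]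
      rw [← this]
      group
    · exact hcentT
    · intro x hx
      obtain ⟨i, hi⟩ : ∃ i : ℕ, x * b * x⁻¹ = g ^ i * b * (g ^ i)⁻¹ := by
        have h2 : x * b * x⁻¹ * (x * b * x⁻¹) = 1 := by rw [conj_mul, hb, mul_one, mul_inv_cancel]
        rcases (hmem _).mp (hx b hbT hb) with h | h | h | h
        · exact absurd (by rw [mul_inv_eq_one, mul_eq_left] at h; exact h) hb1
        · exact ⟨0, by simp [h]⟩
        · exact ⟨1, by rw [pow_one, e1, h]⟩
        · refine ⟨2, ?_⟩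
          rw [h, ← e2, ← e1, pow_two, _root_.mul_inv_rev]
          group
      refine ⟨i, fun y hy hy2 => ?_⟩
      set w := (g ^ i)⁻¹ * x with hw
      have hwb : w * b = b * w := by
        have : w * b * w⁻¹ = b := by
          rw [hw, show (g ^ i)⁻¹ * x * b * ((g ^ i)⁻¹ * x)⁻¹ = (g ^ i)⁻¹ * (x * b * x⁻¹) * g ^ i by group, hi]
          group
        rwa [mul_inv_eq_iff_eq_mul] at this
      have hgi : ∀ i : ℕ, ∀ z, (g ^ i)⁻¹ * z * g ^ i ∈ T ↔ z ∈ T := by
        intro i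
        induction i with
        | zero => simp
        | succ i ih =>
          intro z
          rw [show (g ^ (i + 1))⁻¹ * z * g ^ (i + 1) = (g ^ i)⁻¹ * (g⁻¹ * z * g) * g ^ i by
            rw [pow_succ']; group, ih]
          refine ⟨fun h => ?_, fun h => ?_⟩
          · have := hconj _ h
            simpa [mul_assoc] using this
          · have h3 : g⁻¹ * z * g = g * (g * z * g⁻¹) * g⁻¹ := by
              have e : g⁻¹ = g * g := inv_eq_of_mul_eq_one_left (by rw [← pow_two, ← pow_succ]; exact hg3)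
              nth_rw 1 [e]
              rw [show g⁻¹ = g * g from e]
              simp only [mul_assoc]
              rw [show g * (g * g) = 1 by rw [← pow_two, ← pow_succ']; exact hg3, mul_one,
                show z * g = z * g from rfl]
            rw [h3]
            exact hconj _ (hconj _ h)
      have hwT : w ∈ T := by
        have hwc : ∀ z ∈ T, w * z * w⁻¹ ∈ T := fun z hz => by
          rw [hw, show (g ^ i)⁻¹ * x * z * ((g ^ i)⁻¹ * x)⁻¹ = (g ^ i)⁻¹ * (x * z * x⁻¹) * g ^ i by group, hgi]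
          exact hx z hz (hsq z hz)
        have hNT : w ∈ Subgroup.normalizer (T : Set PSL) := by
          haveI : Finite PSL := inferInstance
          refine Subgroup.mem_normalizer_fintype fun z hz => hwc z hz
        have hw2 : ∀ z ∈ T, w * (w * z * w⁻¹) * w⁻¹ = z := by
          intro z hz
          have hwb' : w * b * w⁻¹ = b := by rw [hwb, mul_inv_cancel_right]
          have hwc' : w * c * w⁻¹ = c ∨ w * c * w⁻¹ = b * c := by
            rcases (hmem _).mp (hwc c hcT) with h | h | h | h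
            · exact absurd (by rw [mul_inv_eq_one, mul_eq_left] at h; exact h) hc1
            · exfalso
              exact hbc (mul_left_cancel (mul_right_cancel (hwb'.trans h.symm)))
            · exact Or.inl h
            · exact Or.inr h
          have hwcc : w * (w * c * w⁻¹) * w⁻¹ = c := by
            rcases hwc' with h | h
            · rw [h, h]
            · rw [h, ← conj_mul, hwb', h, ← mul_assoc, hb, one_mul]
          rcases (hmem z).mp hz with rfl | rfl | rfl | rfl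
          · simp
          · rw [hwb', hwb']
          · exact hwcc
          · calc w * (w * (b * c) * w⁻¹) * w⁻¹ = w * (w * b * w⁻¹) * w⁻¹ * (w * (w * c * w⁻¹) * w⁻¹) := by group
              _ = b * c := by rw [hwb', hwb', hwcc]
        have hsqT : w * w ∈ T := hcentT (w * w) fun z hz _ => by
          have := hw2 z hz
          calc w * w * z = w * (w * z * w⁻¹) * w⁻¹ * (w * w) := by group
            _ = z * (w * w) := by rw [this]
        have h4 : w ^ 2 ^ 2 = 1 := by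
          rw [show (2 : ℕ) ^ 2 = 2 * 2 by norm_num, pow_mul, pow_two w, pow_two]
          exact hsq _ hsqT
        haveI : Fact (Nat.Prime 2) := ⟨Nat.prime_two⟩
        have hWp : IsPGroup 2 (Subgroup.zpowers w) := by
          obtain ⟨j, -, hj⟩ := (Nat.dvd_prime_pow Nat.prime_two).mp (orderOf_dvd_of_pow_eq_one h4)
          exact IsPGroup.of_card (n := j) (by rw [Nat.card_zpowers, hj])
        have hp2 : IsPGroup 2 T := IsPGroup.of_card (n := 2) hcard
        have hle : (Subgroup.zpowers w ⊔ T : Subgroup PSL) ≤ T := by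
          let S : Sylow 2 PSL := hp2.toSylow hindex
          exact (S.3 (hWp.to_sup_of_normal_right' hp2 (Subgroup.zpowers_le.mpr hNT)) le_sup_right).le
        exact hle (Subgroup.mem_sup_left (Subgroup.mem_zpowers w))
      have hwy : w * y = y * w := hcomT w hwT y hy
      calc x * y * x⁻¹ = g ^ i * (w * y * w⁻¹) * (g ^ i)⁻¹ := by rw [hw]; group
        _ = g ^ i * y * (g ^ i)⁻¹ := by rw [hwy, mul_inv_cancel_right]
  · exact hindex

theorem odd_ringAut (D : QData F m) : Odd (Nat.card (RingAut F)) := by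
  rw [(Chev.ringAut_cyclic_card (F := F) 3 (by rw [Nat.card_eq_fintype_card, D.hq])).2]
  exact odd_two_mul_add_one m

theorem not_sq_neg_one (D : QData F m) : (-1 : Fˣ) ∉ (powMonoidHom 2 : Fˣ →* Fˣ).range := by
  rintro ⟨u, hu⟩
  have h : IsSquare (-1 : F) := ⟨(u : F), by
    have := congrArg Units.val hu
    simpa [pow_two] using this.symm⟩
  obtain ⟨h8, -⟩ := D.mod
  exact FiniteField.isSquare_neg_one_iff.mp h (by omega)

theorem mul_sq (c d : Fˣ) (hd : d ∉ (powMonoidHom 2 : Fˣ →* Fˣ).range)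
    (hc : c ∉ (powMonoidHom 2 : Fˣ →* Fˣ).range) (D : QData F m) :
    c * d ∈ (powMonoidHom 2 : Fˣ →* Fˣ).range := by
  refine (Subgroup.mul_mem_iff_of_index_two ?_).mpr (iff_of_false hc hd)
  rw [IsCyclic.index_powMonoidHom_range, Nat.card_units, Nat.card_eq_fintype_card]
  obtain ⟨h8, -⟩ := D.mod
  exact Nat.gcd_eq_right (by omega)

theorem inner_of_two (D : QData F m) (H : Subgroup (MulAut PSL))
    (hinn : (MulAut.conj (G := PSL)).range ≤ H) (hS : ¬ Involves (Equiv.Perm (Fin 3)) H)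
    {φ : MulAut PSL} (hφ : φ ∈ H) {j : ℕ} (ho : orderOf φ = 2 ^ j) :
    φ ∈ (MulAut.conj (G := PSL)).range := by
  have h1 : fieldPart 3 φ = 1 := by
    have hd : orderOf (fieldPart 3 φ) ∣ 2 ^ j := ho ▸ orderOf_map_dvd (fieldPart 3) φ
    have hc : orderOf (fieldPart 3 φ) ∣ Nat.card (RingAut F) := orderOf_dvd_natCard _
    exact orderOf_eq_one_iff.mp (Nat.dvd_one.mp
      ((Nat.Coprime.pow_left j (Nat.prime_two.coprime_iff_not_dvd.mpr (odd_ringAut D).not_two_dvd_nat)).gcd_eq_one ▸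
        Nat.dvd_gcd hd hc))
  obtain ⟨g, rfl⟩ := CfsgLib.PSL2.exists_of_fieldPart_eq_one 3 h1
  obtain ⟨c, A, rfl⟩ := exists_dil_mul g
  rw [map_mul, diagAut_toGL] at hφ ⊢
  by_cases hc : c ∈ (powMonoidHom 2 : Fˣ →* Fˣ).range
  · obtain ⟨x, hx⟩ := (dil_inner_iff c).mpr hc
    exact ⟨x * mk A, by rw [map_mul, hx]⟩
  exfalso
  have hdc : diagAut (dil c) ∈ H := (mul_mem_cancel_right (hinn ⟨mk A, rfl⟩)).mp hφ
  have hneg : diagAut (dil (-1 : Fˣ)) ∈ H := by
    obtain ⟨x, hx⟩ := (dil_inner_iff (c * -1)).mpr (mul_sq c (-1) (not_sq_neg_one D) hc D)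
    rw [map_mul, map_mul] at hx
    exact (mul_mem_cancel_left hdc).mp (hx ▸ hinn ⟨x, rfl⟩)
  have hw : orderOf (⟨diagAut (dil (-1 : Fˣ)), hneg⟩ : H) ∣ 2 := by
    refine orderOf_dvd_of_pow_eq_one (Subtype.ext ?_)
    rw [SubmonoidClass.coe_pow, ← map_pow, ← map_pow, neg_one_sq, map_one, map_one]
    rfl
  have huu : ∀ s t : F, uu (s + t) = uu s * uu t := fun s t => by
    show CfsgLib.PSL2.uHom (Multiplicative.ofAdd (s + t)) = _
    rw [ofAdd_add, map_mul]
  have hu0 : uu (0 : F) = 1 := map_one CfsgLib.PSL2.uHom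
  have h3 : (uu (1 : F) : PSL) ^ 3 = 1 := by
    rw [pow_succ, pow_two, ← huu, ← huu, show (1 : F) + 1 + 1 = 0 by
      have := CharP.cast_eq_zero F 3
      push_cast at this
      linear_combination this, hu0]
  have hu1 : (uu (1 : F) : PSL) ≠ 1 := fun h =>
    one_ne_zero (CfsgLib.PSL2.uu_injective (h.trans hu0.symm))
  have hy1 : (⟨MulAut.conj (uu (1 : F)), hinn ⟨_, rfl⟩⟩ : H) ≠ 1 := by
    intro h
    have := DFunLike.congr_fun (congrArg Subtype.val h) (CfsgLib.PSL2.vv (1 : F))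
    rw [MulAut.conj_apply, OneMemClass.coe_one, MulAut.one_apply] at this
    have hv : (CfsgLib.PSL2.vv (1 : F) : PSL) * uu 1 * (CfsgLib.PSL2.vv 1)⁻¹ = uu 1 := by
      have := mul_inv_eq_iff_eq_mul.mp this
      rw [← this, mul_inv_cancel_right]
    have := CfsgLib.PSL2.upper_of_normalizes (CfsgLib.PSL2.vSL (1 : F))
      (by rw [← CfsgLib.PSL2.vv_eq, hv]; exact ⟨_, rfl⟩)
    simp [CfsgLib.PSL2.vSL] at this
  refine hS (GoldschmidtS3.involves_perm3_iff.mpr ⟨⟨diagAut (dil (-1 : Fˣ)), hneg⟩,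
    ⟨MulAut.conj (uu (1 : F)), hinn ⟨_, rfl⟩⟩, ?_, ⟨1, ?_⟩, hy1, ?_⟩)
  · obtain ⟨k, -, hk⟩ := (Nat.dvd_prime_pow Nat.prime_two).mp (by simpa using hw :
      orderOf (⟨diagAut (dil (-1 : Fˣ)), hneg⟩ : H) ∣ 2 ^ 1)
    exact ⟨k, hk⟩
  · rw [pow_one]
    refine orderOf_eq_prime (Subtype.ext ?_) hy1
    rw [SubmonoidClass.coe_pow, ← map_pow, h3, map_one]
    rfl
  · refine Subtype.ext (MulEquiv.ext fun x => ?_)
    set w : MulAut PSL := diagAut (dil (-1 : Fˣ))
    show (w * MulAut.conj (uu (1 : F)) * w⁻¹) x = (MulAut.conj (uu (1 : F)))⁻¹ x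
    rw [MulAut.mul_apply, MulAut.mul_apply, MulAut.conj_apply, map_mul, map_mul, map_inv, MulAut.apply_inv_self,
      CfsgLib.PSL2.diagAut_dil_uu, MulAut.conj_inv_apply]
    have hneg1 : (uu (-1 : F) : PSL) = (uu 1)⁻¹ := by
      rw [eq_inv_iff_mul_eq_one, ← huu, neg_add_cancel, hu0]
    rw [Units.val_neg, Units.val_one, mul_one, hneg1, inv_inv]

theorem solvable_out (D : QData F m) : Group.IsSolvable (MulAut PSL ⧸ (MulAut.conj (G := PSL)).range) := by
  set π := QuotientGroup.mk' (MulAut.conj (G := PSL)).range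
  have hpi : ∀ g, π (MulAut.conj g) = 1 := fun g => (QuotientGroup.eq_one_iff _).mpr ⟨g, rfl⟩
  have hker : (MulAut.conj (G := PSL)).range ≤ (fieldPart 3 : MulAut PSL →* RingAut F).ker := by
    rintro _ ⟨x, rfl⟩
    obtain ⟨A, rfl⟩ := QuotientGroup.mk'_surjective _ x
    rw [MonoidHom.mem_ker]
    exact CfsgLib.PSL2.fieldPart_eq 3 (g := SpecialLinearGroup.toGL A) (e := RingEquiv.refl F)
      (by rw [diagAut_toGL, CfsgLib.PSL2.fieldAut_refl, mul_one])
  let f : Fˣ →* MulAut PSL ⧸ (MulAut.conj (G := PSL)).range := π.comp (diagAut.comp dil)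
  let g : MulAut PSL ⧸ (MulAut.conj (G := PSL)).range →* RingAut F := QuotientGroup.lift _ (fieldPart 3) hker
  haveI : Group.IsSolvable Fˣ := Group.isSolvable_of_comm mul_comm
  haveI : IsCyclic (RingAut F) := Chev.ringAut_cyclic_finite F
  haveI : Group.IsSolvable (RingAut F) := Group.isSolvable_of_comm fun a b => by
    letI := IsCyclic.commGroup (α := RingAut F)
    exact mul_comm a b
  refine Group.isSolvable_of_ker_le_range f g fun x hx => ?_
  obtain ⟨φ, rfl⟩ := QuotientGroup.mk'_surjective _ x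
  obtain ⟨h, rfl⟩ := CfsgLib.PSL2.exists_of_fieldPart_eq_one 3 (φ := φ) hx
  obtain ⟨c, A, rfl⟩ := exists_dil_mul h
  refine ⟨c, ?_⟩
  show π (diagAut (dil c)) = π (diagAut (dil c * SpecialLinearGroup.toGL A))
  rw [map_mul, map_mul, diagAut_toGL, hpi, mul_one]

theorem solvable_cent (D : QData F m) {z : PSL} (h1 : z ≠ 1) (h2 : z * z = 1) :
    Group.IsSolvable (Subgroup.centralizer ({z} : Set PSL)) := by
  have hT := ReeTori.card_T_invol D h1 h2
  have hC := ReeTori.card_cent_invol D h1 h2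
  have hs := ReeTori.invol_SS (F := F) h1 h2
  rw [ReeTori.cent_invol h1 h2] at hC ⊢
  set T := (CfsgLib.DicksonFull.psl (F := F) 3).T z
  set N := Subgroup.normalizer (T : Set PSL)
  have hidx : (T.subgroupOf N).index = 2 := by
    have := (T.subgroupOf N).card_mul_index
    rw [Nat.card_congr (Subgroup.subgroupOfEquivOfLe Subgroup.le_normalizer).toEquiv, hC, ← hT, mul_comm 2] at this
    exact Nat.eq_of_mul_eq_mul_left Nat.card_pos this
  haveI := Subgroup.normal_of_index_eq_two hidx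
  haveI : Group.IsSolvable (T.subgroupOf N) := Group.isSolvable_of_comm fun x y =>
    Subtype.ext (Subtype.ext (CfsgLib.DicksonFull.tor_comm hs (Subgroup.mem_subgroupOf.mp x.2) (Subgroup.mem_subgroupOf.mp y.2)).eq)
  haveI : Group.IsSolvable (↥N ⧸ T.subgroupOf N) := Group.isSolvable_of_comm fun x y => by
    haveI : Fact (Nat.Prime 2) := ⟨Nat.prime_two⟩
    haveI := isCyclic_of_prime_card (α := ↥N ⧸ T.subgroupOf N) (p := 2) (by rw [← Subgroup.index_eq_card]; exact hidx)
    letI := IsCyclic.commGroup (α := ↥N ⧸ T.subgroupOf N)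
    exact mul_comm x y
  exact Group.isSolvable_of_ker_le_range (T.subgroupOf N).subtype (QuotientGroup.mk' (T.subgroupOf N))
    (by rw [QuotientGroup.ker_mk', Subgroup.range_subtype])

/-- Automorphisms of odd order fixing a four-group act through the field. -/
theorem oddFix_injective (D : QData F m) {T : Subgroup PSL} {k : PSL} (hT : TwoLocal T k)
    (hT2 : IsPGroup 2 T) (Y : Subgroup (MulAut PSL)) (ho : Odd (Nat.card Y))
    (hfix : ∀ φ ∈ Y, ∀ x ∈ T, x * x = 1 → φ x = x) {φ : MulAut PSL} (hφ : φ ∈ Y)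
    (h1 : fieldPart 3 φ = 1) : φ = 1 := by
  obtain ⟨g, rfl⟩ := CfsgLib.PSL2.exists_of_fieldPart_eq_one 3 h1
  have hoddφ : Odd (orderOf (diagAut g : MulAut PSL)) :=
    ho.of_dvd_nat (Subgroup.orderOf_dvd_natCard _ hφ)
  set π := QuotientGroup.mk' (MulAut.conj (G := PSL)).range
  have hpi : ∀ g, π (MulAut.conj g) = 1 := fun g => (QuotientGroup.eq_one_iff _).mpr ⟨g, rfl⟩
  have h2 : π (diagAut g) ^ 2 = 1 := by
    obtain ⟨c, A, rfl⟩ := exists_dil_mul g
    obtain ⟨x, hx⟩ := (dil_inner_iff (c * c)).mpr ⟨c, pow_two c⟩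
    rw [map_mul, diagAut_toGL, map_mul, hpi, mul_one, pow_two, ← map_mul, ← map_mul, ← map_mul, hx, hpi]
  have h3 : π (diagAut g) = 1 := orderOf_eq_one_iff.mp (Nat.dvd_one.mp
    ((Nat.prime_two.coprime_iff_not_dvd.mpr hoddφ.not_two_dvd_nat).gcd_eq_one ▸
      Nat.dvd_gcd (orderOf_dvd_of_pow_eq_one h2) (orderOf_map_dvd π _)))
  obtain ⟨y, hy'⟩ := (QuotientGroup.eq_one_iff _).mp h3
  have hin : (diagAut g : MulAut PSL) = MulAut.conj y := hy'.symm
  rw [hin] at hφ ⊢
  have hd : orderOf (MulAut.conj y) ∣ Nat.card Y := Subgroup.orderOf_dvd_natCard _ hφ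
  have hy : ∀ z ∈ T, z * z = 1 → y * z = z * y := fun z hz h2 => by
    have := hfix _ hφ z hz h2
    rwa [MulAut.conj_apply, mul_inv_eq_iff_eq_mul] at this
  -- the element itself is in the four-group
  have h2 : ∃ j, orderOf (MulAut.conj y) ∣ 2 ^ j := by
    haveI : Fact (Nat.Prime 2) := ⟨Nat.prime_two⟩
    obtain ⟨b, hb, hb1, c, hc, hc1, hbc⟩ : ∃ b, (b ∈ T ∧ b * b = 1) ∧ b ≠ 1 ∧ ∃ c, (c ∈ T ∧ c * c = 1) ∧ c ≠ 1 ∧
        b ≠ c := by
      by_contra hcon
      push Not at hcon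
      have h4 := hT.four
      obtain ⟨a, ha⟩ : ∃ a : PSL, ∀ z : {z : PSL // z ∈ T ∧ z * z = 1}, (z : PSL) = 1 ∨ (z : PSL) = a := by
        by_cases hex : ∃ b : {z : PSL // z ∈ T ∧ z * z = 1}, (b : PSL) ≠ 1
        · obtain ⟨b, hb⟩ := hex
          refine ⟨b, fun z => or_iff_not_imp_left.mpr fun hz => ?_⟩
          exact (hcon b b.2 hb z z.2 hz).symm
        · push Not at hex
          exact ⟨1, fun z => Or.inl (hex z)⟩
      have : Nat.card {z : PSL // z ∈ T ∧ z * z = 1} ≤ Nat.card Bool := by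
        classical
        refine Nat.card_le_card_of_injective (fun z => decide ((z : PSL) = 1)) fun z w h => Subtype.ext ?_
        have h' := decide_eq_decide.mp h
        rcases ha z with hz | hz <;> rcases ha w with hw | hw
        · rw [hz, hw]
        · rw [hz, h'.mp hz]
        · rw [hw, h'.mpr hw]
        · rw [hz, hw]
      rw [Nat.card_eq_fintype_card (α := Bool), Fintype.card_bool] at this
      omega
    have hy4 := ReeTori.four_cent hb1 hb.2 hc1 hc.2 hbc (hT.central b hb.1 hb.2 c hc.1) (hy b hb.1 hb.2)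
      (hy c hc.1 hc.2)
    have hyT : y ∈ T := by
      rcases hy4 with e | e | e | e <;> rw [e]
      · exact one_mem T
      · exact hb.1
      · exact hc.1
      · exact mul_mem hb.1 hc.1
    obtain ⟨j, hj⟩ := hT2 ⟨y, hyT⟩
    exact ⟨j, (orderOf_conj_dvd y).trans (orderOf_dvd_of_pow_eq_one (congrArg Subtype.val hj :))⟩
  obtain ⟨j, hj⟩ := h2
  exact orderOf_eq_one_iff.mp (Nat.dvd_one.mp
    ((Nat.Coprime.pow_left j (Nat.prime_two.coprime_iff_not_dvd.mpr
      (ho.of_dvd_nat hd).not_two_dvd_nat)).gcd_eq_one ▸ Nat.dvd_gcd hj dvd_rfl))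

end L2Model

end CfsgLib.S3Simple
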