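import Cfsg.Agent.Lib.S3Simple.Defs
import Cfsg.Agent.Lib.Bender.Q.Main
import Cfsg.Agent.Lib.Bender.GoodAll
import Cfsg.Agent.Lib.GoldschmidtS3.Main
import Cfsg.Agent.Lib.Local
import Cfsg.Agent.S2791
import Cfsg.Agent.Lib.TransferApps

/-!
First consequences: the criterion and the focal property.

Blueprint: `blueprint/S3Free.md`, section 0.
-/

set_option autoImplicit false
set_option linter.unusedSectionVars false
set_option linter.style.haveILetI false

namespace CfsgLib.S3Simple

open Cfsg

universe u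

variable {L : Type u} [Group L] [Finite L] {S : Sylow 2 L} {A : Subgroup L}

theorem Closed.comm (hA : Closed S A) {a b : L} (ha : a ∈ A) (hb : b ∈ A) : a * b = b * a :=
  congrArg Subtype.val (hA.elem.1.is_comm.comm ⟨a, ha⟩ ⟨b, hb⟩)

theorem Closed.sq (hA : Closed S A) {a : L} (ha : a ∈ A) : a * a = 1 := by
  rw [← pow_two]; exact hA.elem.2 a ha

theorem Closed.orderOf_eq_two (hA : Closed S A) {a : L} (ha : a ∈ A) (h1 : a ≠ 1) : orderOf a = 2 :=
  orderOf_eq_prime (hA.elem.2 a ha) h1

/-- The Sylow subgroup normalises `A`. -/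
theorem Closed.le_normalizer (hA : Closed S A) :
    (S : Subgroup L) ≤ Subgroup.normalizer (A : Set L) := fun s hs =>
  CfsgLib.Bender.TwoClosed.mem_normalizer_of_conj fun a ha =>
    hA.closed.2 a ha s (mul_mem (mul_mem hs (hA.le ha)) (inv_mem hs))

/-- A listed conclusion from a strongly embedded subgroup. -/
theorem Hyp.false_of_stronglyEmbedded (h : Hyp L) {H : Subgroup L} (hH : IsStronglyEmbedded H) : False := by
  haveI := h.simple
  rcases CfsgLib.Bender.isBenderGroup_of_stronglyEmbedded
      (CfsgLib.Bender.Assembly.benderHyp CfsgLib.Bender.Assembly.goodAll) CfsgLib.Bender.Assembly.suzukiHyp hH with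
    ⟨F, i1, i2, ⟨n, hn, hc⟩, ⟨e⟩⟩ | hs | ⟨F, i1, i2, n, hn, hc, ⟨e⟩⟩
  · exact h.free (GoldschmidtS3.involves_congr e.symm (GoldschmidtS3.psl_even (by omega : n ≠ 0) hc).2)
  · exact h.not_listed (Or.inl hs)
  · refine h.free (GoldschmidtS3.involves_congr e.symm (GoldschmidtS3.psu_facts (F := F) ?_).2)
    rw [hc, ← pow_mul, mul_comm, pow_mul]
    rfl

/-- The criterion: the centralisers of the elements of `A` generate the whole group. -/
theorem Hyp.centClosure_eq_top (h : Hyp L) (hA : Closed S A) : centClosure A = ⊤ := by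
  haveI := h.simple
  by_contra hne
  refine (CfsgLib.Bender.Q.strongly_closed_simple CfsgLib.Bender.Q.theoremQ S A hA.ne_bot hA.closed
    ?_).elim fun H hH => h.false_of_stronglyEmbedded hH
  intro e
  refine hne (top_le_iff.mp (e ▸ iSup_le fun t => ?_))
  exact le_iSup (fun a : {a : L // a ∈ A ∧ a ≠ 1} => Subgroup.centralizer ({(a : L)} : Set L))
    ⟨t, t.2.1, fun e1 => by simpa [e1] using t.2.2⟩

/-- A proper subgroup containing all the centralisers gives a contradiction. -/
theorem Hyp.false_of_le (h : Hyp L) (hA : Closed S A) {M : Subgroup L} (hM : M ≠ ⊤)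
    (hle : ∀ a ∈ A, a ≠ 1 → Subgroup.centralizer ({a} : Set L) ≤ M) : False :=
  hM (top_le_iff.mp (h.centClosure_eq_top hA ▸ iSup_le fun a => hle a a.2.1 a.2.2))

/-- The normaliser of a subgroup that is neither trivial nor everything is proper. -/
theorem Hyp.normalizer_ne_top (h : Hyp L) {W : Subgroup L} (h1 : W ≠ ⊥) (h2 : W ≠ ⊤) :
    Subgroup.normalizer (W : Set L) ≠ ⊤ := fun e => by
  haveI := h.simple
  exact (Subgroup.normalizer_eq_top_iff.mp e).eq_bot_or_eq_top.elim h1 h2

theorem Hyp.commutator_eq_top (h : Hyp L) : commutator L = ⊤ := by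
  haveI := h.simple
  refine ((inferInstance : (commutator L).Normal).eq_bot_or_eq_top).resolve_left fun e => h.nonabelian ?_
  exact ⟨⟨fun a b => by
    have := Subgroup.commutator_mem_commutator (Subgroup.mem_top a) (Subgroup.mem_top b)
    rw [← commutator_def, e, Subgroup.mem_bot] at this
    exact commutatorElement_eq_one_iff_mul_comm.mp this⟩⟩

/-- Fusion of elements of the Sylow subgroup happens in the normaliser of `A`. -/
theorem Closed.exists_normalizer_conj (hA : Closed S A) {x g : L} (hx : x ∈ (S : Subgroup L))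
    (hg : g * x * g⁻¹ ∈ (S : Subgroup L)) :
    ∃ n ∈ Subgroup.normalizer (A : Set L), n * x * n⁻¹ = g * x * g⁻¹ := by
  haveI : Fact (Nat.Prime 2) := ⟨Nat.prime_two⟩
  obtain ⟨-, hc⟩ := CfsgLib.StrongFusion.controlsOf_of_chain (N := Subgroup.normalizer (A : Set L)) S
    (fun _ h => h) (fun B u hB hu => CfsgLib.StrongFusion.chain_of_abelian_closed S hA.elem.1 hA.closed hB hu)
    (A := ({x} : Set L)) (Set.singleton_subset_iff.mpr hx)
  obtain ⟨n, hn, he⟩ := hc g (by rw [Set.image_singleton]; exact Set.singleton_subset_iff.mpr hg)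
  exact ⟨n, hn, (he x rfl).symm⟩

theorem sq_eq_one_zmod_two : ∀ z : Multiplicative (ZMod 2), z ^ 2 = 1 := by decide

/-- The normaliser of `A` has no epimorphism to a group of order two. -/
theorem Hyp.focal (h : Hyp L) (hA : Closed S A) : Focal A := by
  haveI : Fact (Nat.Prime 2) := ⟨Nat.prime_two⟩
  unfold Focal
  set N := Subgroup.normalizer (A : Set L) with hN
  intro ψ
  have hSN := hA.le_normalizer
  have hS : (S : Subgroup L) ≤ ⁅N, N⁆ := fun s hs => by
    have := CfsgLib.TransferApps.commutator_inf_sylow_eq_of_control S N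
      (fun x hx g hg => hA.exists_normalizer_conj hx hg) hSN
    rw [h.commutator_eq_top, top_inf_eq] at this
    exact (this.le hs).1
  have hker : (S : Subgroup L).subgroupOf N ≤ ψ.ker := fun s hs => by
    have hc : (⁅N, N⁆).subgroupOf N ≤ commutator N := fun x hx => by
      obtain ⟨y, hy, he⟩ : (x : L) ∈ (commutator N).map N.subtype := by
        rw [commutator_def, Subgroup.map_commutator, ← MonoidHom.range_eq_map, Subgroup.range_subtype]
        exact hx
      rwa [← Subtype.ext he]
    exact Abelianization.commutator_subset_ker ψ (hc (hS hs))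
  refine MonoidHom.ext fun n => ?_
  show ψ n = 1
  by_contra hne
  have h2 : orderOf (ψ n) = 2 := orderOf_eq_prime (sq_eq_one_zmod_two _) hne
  have hidx : ψ.ker.index ∣ ((S : Subgroup L).subgroupOf N).index := Subgroup.index_dvd_of_le hker
  have hodd : ¬ 2 ∣ ((S : Subgroup L).subgroupOf N).index := fun hd =>
    S.not_dvd_index (hd.trans (Subgroup.relIndex_dvd_index_of_le hSN))
  refine hodd (dvd_trans ?_ hidx)
  rw [Subgroup.index_ker]
  exact h2.symm.dvd.trans (Subgroup.orderOf_dvd_natCard _ ⟨n, rfl⟩)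

end CfsgLib.S3Simple
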