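import Cfsg.Agent.Lib.S3Simple.NoBlock

/-!
`|A| = 4`: an unblocked coset gives a contradiction.

Blueprint: `blueprint/S3Free.md`, 6.1.
-/

set_option autoImplicit false
set_option linter.unusedSectionVars false
set_option linter.style.haveILetI false

namespace CfsgLib.S3Simple

open Cfsg CfsgLib CfsgLib.Comp CfsgLib.AfterFT.CoreSep
open scoped commutatorElement

universe u

variable {L : Type u} [Group L] [Finite L] {S : Sylow 2 L} {A : Subgroup L}

/-- A four-group has no block. -/
theorem Hyp.no_blocked_four (h : Hyp L) (hA : Closed S A) (h4 : Nat.card A = 4) (D : Subgroup L) :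
    ¬ Blocked A D := fun hD => by
  obtain ⟨V, k, hb, -, -⟩ := h.exists_block hA hD
  have e := hb.card_eq hA
  rw [h4] at e
  have h1 : 2 ≤ Nat.card D := by
    haveI := (Subgroup.nontrivial_iff_ne_bot D).mpr hb.D_ne
    exact Finite.one_lt_card
  have := hb.four_le
  nlinarith

/-- The fixed points of `A` on the core of the centraliser of one of its elements. -/
theorem core_fixed_le_coreC {a : L} (ha : a ∈ A) :
    centralizerPPrimeCore 2 a ⊓ Subgroup.centralizer (A : Set L) ≤ coreC A := by
  haveI : Fact (Nat.Prime 2) := ⟨Nat.prime_two⟩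
  refine fun t ht => le_coreC (W := centralizerPPrimeCore 2 a ⊓ Subgroup.centralizer (A : Set L))
    inf_le_right ?_ ?_ ht
  · intro g hg
    refine mem_normalizer_of_maps fun x hx => ⟨?_, Subgroup.mul_mem _ (Subgroup.mul_mem _ hg hx.2)
      (Subgroup.inv_mem _ hg)⟩
    exact (Subgroup.mem_normalizer_iff.mp
      (cc_le_normalizer_core a (AfterFT.CoreSep.mem_cc.mpr (hg a ha).symm)) x).mp hx.1
  · exact Nat.coprime_two_right.mpr (odd_of_le inf_le_left (odd_card_core a))

/-- The signalizer of a pair is the whole core on `A` itself. -/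
theorem core_le_YY {A₂ : Subgroup L} (P : Pair A A₂) {a : L} (ha : a ∈ A) :
    centralizerPPrimeCore 2 a ≤ YY A a := by
  haveI : Fact (Nat.Prime 2) := ⟨Nat.prime_two⟩
  intro z hz
  have hN : A ≤ Subgroup.normalizer (centralizerPPrimeCore 2 a : Set L) :=
    le_sup_left.trans (P.le_normalizer_core (Subgroup.mem_sup_left ha))
  have hcop : (Nat.card A).Coprime (Nat.card (centralizerPPrimeCore 2 a)) := by
    rw [P.four, show 4 = 2 ^ 2 from rfl]
    exact ((Nat.coprime_two_right.mpr (odd_card_core a)).pow_right 2).symm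
  haveI := P.isP.isNilpotent
  obtain ⟨x, hx, k, hk, rfl⟩ := coprime_decomp hN hcop (Or.inl inferInstance) (k := z) hz
  exact Subgroup.mul_mem_sup hx ⟨hk.1, core_fixed_le_coreC ha hk⟩

/-- 6.1: every coset of `A` in `C(A)` made of involutions is blocked. -/
theorem Hyp.false_of_unblocked (h : Hyp L) (hA : Closed S A) (h4 : Nat.card A = 4) {d : L} (hdA : d ∉ A)
    (hd2 : d * d = 1) (hdc : ∀ a ∈ A, a * d = d * a)
    (hun : ∀ c ∈ A, ∀ E : Subgroup (qq (d * c)), IsComponent E → ∀ a ∈ A, ∀ hm : a ∈ cc (d * c),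
      ff (d * c) ⟨a, hm⟩ ∈ Subgroup.centralizer (E : Set (qq (d * c)))) : False := by
  haveI : Fact (Nat.Prime 2) := ⟨Nat.prime_two⟩
  have hc : ∀ a ∈ A, a ≠ 1 → ∀ E : Subgroup (qq a), IsComponent E →
      imA A a ≤ Subgroup.centralizer (E : Set (qq a)) := fun a ha ha1 E hE =>
    central_of_no_block (h.no_blocked_four hA h4) ha ha1 hE
  have hd1 : d ≠ 1 := fun e => hdA (e ▸ one_mem A)
  have hz : ∀ y ∈ Subgroup.zpowers d, y = 1 ∨ y = d := by
    intro y hy
    obtain ⟨k, rfl⟩ := Subgroup.mem_zpowers_iff.mp hy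
    rw [← zpow_mod_orderOf, orderOf_eq_prime (p := 2) (by rw [pow_two]; exact hd2) hd1]
    simp only [Nat.cast_ofNat]
    rcases Int.emod_two_eq_zero_or_one k with e | e <;> rw [e] <;> simp
  have hNd : A ≤ Subgroup.normalizer (Subgroup.zpowers d : Set L) := fun g hg =>
    mem_normalizer_of_maps fun x hx => by
      rcases hz x hx with rfl | rfl
      · simp
      · rw [hdc g hg, mul_inv_cancel_right]; exact hx
  have hsep : ∀ b ∈ A ⊔ Subgroup.zpowers d, b ≠ 1 → ∀ E : Subgroup (qq b), IsComponent E →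
      ∀ a ∈ A, ∀ hm : a ∈ cc b, ff b ⟨a, hm⟩ ∈ Subgroup.centralizer (E : Set (qq b)) := by
    intro b hb hb1 E hE a ha hm
    have hb' : b ∈ ((A ⊔ Subgroup.zpowers d : Subgroup L) : Set L) := hb
    rw [Subgroup.coe_mul_of_left_le_normalizer_right A _ hNd] at hb'
    obtain ⟨x, hx, y, hy, rfl⟩ := hb'
    rcases hz y hy with rfl | rfl
    · exact hc _ (by simpa using hx) hb1 E hE (mem_imA ha hm)
    · have hgen : ∀ b : L, b = y * x → ∀ E : Subgroup (qq b), IsComponent E → ∀ hm : a ∈ cc b,
          ff b ⟨a, hm⟩ ∈ Subgroup.centralizer (E : Set (qq b)) := by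
        rintro b rfl E hE hm
        exact hun x hx E hE a ha hm
      exact hgen _ (hdc x hx) E hE hm
  have P : Pair A (Subgroup.zpowers d) :=
    { comm₁ := fun x hx y hy => hA.comm hx hy
      comm₂ := fun x hx y hy => by
        rcases hz x hx with rfl | rfl <;> rcases hz y hy with rfl | rfl <;> simp
      comm := fun x hx y hy => by
        rcases hz y hy with rfl | rfl
        · simp
        · exact hdc x hx
      sq₁ := fun x hx => hA.sq hx
      sq₂ := fun x hx => by
        rcases hz x hx with rfl | rfl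
        · simp
        · exact hd2
      four := h4
      sep := fun b hb hb1 E hE => Or.inl (hsep b hb hb1 E hE) }
  set B := A ⊔ Subgroup.zpowers d with hB
  have hB8 : 2 ^ 3 ≤ Nat.card B := by
    obtain ⟨m, hm⟩ := Subgroup.card_dvd_of_le (show A ≤ B from le_sup_left)
    rw [h4] at hm
    have hpos : 0 < Nat.card B := Nat.card_pos
    rcases Nat.lt_or_ge m 2 with hlt | hge
    · refine absurd ?_ hdA
      have e : A = B := Subgroup.eq_of_le_of_card_ge le_sup_left (by rw [hm, h4]; nlinarith)
      exact e.symm ▸ Subgroup.mem_sup_right (Subgroup.mem_zpowers d)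
    · rw [hm]; norm_num; omega
  have key := (Cfsg.Agent.S0217.result (p := 2) B (fun a ha b hb => P.commA ha hb)
    (fun a ha => by rw [pow_two]; exact P.sqA ha) hB8 (fun a => YY A a)
    (fun a ha _ => (YY_le P ha).trans (Subgroup.map_subtype_le _))
    (fun a ha _ hd => Nat.not_odd_iff_even.mpr (even_iff_two_dvd.mpr hd)
      (odd_of_le (YY_le P ha) (odd_card_core a)))
    (fun a ha _ b hb x hx => (Subgroup.mem_normalizer_iff.mp (YY_invariant P ha hb) x).mp hx)
    (fun a ha _ => oddSolv _ (odd_of_le (YY_le P ha) (odd_card_core a)))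
    (fun a ha _ b hb hb1 z hz' => ?_)).1
  · refine h.false_of_central hA hc (odd_of_le (iSup_le fun a => ?_)
      (Nat.odd_iff.mpr (Nat.two_dvd_ne_zero.mp key)))
    exact (core_le_YY P a.2.1).trans
      (le_iSup (fun a : {a : L // a ∈ B ∧ a ≠ 1} => YY A (a : L)) ⟨a, Subgroup.mem_sup_left a.2.1, a.2.2⟩)
  · refine YY_balance oddSolv P ha hb hz'.1 ?_
    refine mem_core_of_centralizes (P.mem_cc ha hb) (P.sqA ha) (YY_le P ha hz'.1) hz'.2 fun E hE => ?_
    exact YY_centralizes oddSolv P ha hb hE (hsep b hb hb1 E hE) hz'.1 hz'.2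

end CfsgLib.S3Simple
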