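import Cfsg.Agent.Lib.S3Simple.Dispatch
import Cfsg.Agent.Lib.ZStar.Main
import Cfsg.Agent.S2796

/-!
The subgroup `A₀` of S2796, its minimal invariant subgroups, and the first facts on them.

Blueprint: `blueprint/S3Free.md`, setting and the reduction to `A₀ = A` for `|A| = 8`.
-/

set_option autoImplicit false
set_option linter.unusedSectionVars false
set_option linter.style.haveILetI false

namespace CfsgLib.S3Simple

open Cfsg CfsgLib.Comp CfsgLib.AfterFT.CoreSep

universe u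

variable {L : Type u} [Group L] [Finite L] {S : Sylow 2 L} {A A₀ : Subgroup L}

/-- The properties of `A₀`. -/
structure Top (S : Sylow 2 L) (A₀ : Subgroup L) : Prop where
  closed : Closed S A₀
  center : ∀ z ∈ (S : Subgroup L), z * z = 1 → (∀ s ∈ (S : Subgroup L), z * s = s * z) → z ∈ A₀
  least : ∀ B : Subgroup L, Subgroup.normalizer (A₀ : Set L) ≤ Subgroup.normalizer (B : Set L) →
    (∀ z ∈ (S : Subgroup L), z * z = 1 → (∀ s ∈ (S : Subgroup L), z * s = s * z) → z ∈ B) → A₀ ≤ B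

theorem free_four {G : Type u} [Group G] [Finite G] (h : ¬ Involves (Equiv.Perm (Fin 3)) G) :
    ¬ Involves (Equiv.Perm (Fin 4)) G := by
  rintro ⟨K, R, hn, ⟨f⟩⟩
  let i : Equiv.Perm (Fin 3) →* Equiv.Perm (Fin 4) := Equiv.Perm.viaEmbeddingHom Fin.castSuccEmb
  have hi : Function.Injective i := Equiv.Perm.viaEmbeddingHom_injective _
  let g : ↥K →* Equiv.Perm (Fin 4) := f.toMonoidHom.comp (QuotientGroup.mk' _)
  have hg : Function.Surjective g := f.surjective.comp (QuotientGroup.mk'_surjective _)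
  let K' : Subgroup ↥K := i.range.comap g
  let ψ : ↥(K'.map K.subtype) →* Equiv.Perm (Fin 3) := (MonoidHom.ofInjective hi).symm.toMonoidHom.comp
    ((g.subgroupComap i.range).comp (K'.equivMapOfInjective K.subtype K.subtype_injective).symm.toMonoidHom)
  exact h (CfsgLib.QdSection.involves_of_surjective _ ψ ((MonoidHom.ofInjective hi).symm.surjective.comp
    ((MonoidHom.subgroupComap_surjective_of_surjective g i.range hg).comp
      (K'.equivMapOfInjective K.subtype K.subtype_injective).symm.surjective)))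

theorem Hyp.even (h : Hyp L) : 2 ∣ Nat.card L := by
  by_contra hodd
  haveI := h.simple
  haveI : Group.IsSolvable L := oddSolv L (Nat.odd_iff.mpr (Nat.two_dvd_ne_zero.mp hodd))
  exact h.nonabelian ⟨⟨IsSimpleGroup.comm_iff_isSolvable.mpr inferInstance⟩⟩

theorem Hyp.section_compK (h : Hyp L) (K R : Subgroup L) [hR : (R.subgroupOf K).Normal]
    (hcon : Subgroup.centralizer (pCore 2 (K ⧸ R.subgroupOf K) : Set (K ⧸ R.subgroupOf K)) ≤
      pCore 2 (K ⧸ R.subgroupOf K)) :
    IsCompositionKGroupWith IsSuzukiOrPSL2OddPowerThree (K ⧸ R.subgroupOf K) := by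
  haveI : Fact (Nat.Prime 2) := ⟨Nat.prime_two⟩
  by_cases hK : K = ⊤
  swap
  · exact CfsgLib.S3Free.EGrp.quotient_compK listed_congr (h.proper K hK) _
  subst hK
  haveI := h.simple
  haveI : IsSimpleGroup ↥(⊤ : Subgroup L) := Subgroup.topEquiv.isSimpleGroup_congr.mpr h.simple
  rcases hR.eq_bot_or_eq_top with hb | ht
  · -- the section is `L` itself
    exfalso
    let f : ↥(⊤ : Subgroup L) →* ↥(⊤ : Subgroup L) ⧸ R.subgroupOf ⊤ := QuotientGroup.mk' _
    have hinj : Function.Injective f := by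
      rw [← MonoidHom.ker_eq_bot_iff, QuotientGroup.ker_mk', hb]
    let e := (MulEquiv.ofBijective f ⟨hinj, QuotientGroup.mk'_surjective _⟩).symm.trans Subgroup.topEquiv
    haveI hp : (pCore 2 (↥(⊤ : Subgroup L) ⧸ R.subgroupOf ⊤)).Normal := Subgroup.sSup_normal _ fun _ h => h.1
    haveI : IsSimpleGroup (↥(⊤ : Subgroup L) ⧸ R.subgroupOf ⊤) := e.isSimpleGroup_congr.mpr h.simple
    have hna : ∀ hcm : ∀ a b : ↥(⊤ : Subgroup L) ⧸ R.subgroupOf ⊤, a * b = b * a, False := fun hcm =>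
      h.nonabelian ⟨⟨fun a b => e.symm.injective (by rw [map_mul, map_mul, hcm])⟩⟩
    rcases hp.eq_bot_or_eq_top with h1 | h1
    · rw [h1] at hcon
      refine hna fun a b => ?_
      have ha : a = 1 := Subgroup.mem_bot.mp (hcon fun x hx => by
        rw [Subgroup.mem_bot.mp hx, one_mul, mul_one])
      rw [ha, one_mul, mul_one]
    · haveI := (isPGroup_pCore (G := ↥(⊤ : Subgroup L) ⧸ R.subgroupOf ⊤) 2).isNilpotent
      haveI : Group.IsSolvable (↥(⊤ : Subgroup L) ⧸ R.subgroupOf ⊤) := by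
        refine Group.isSolvable_of_surjective
          (f := (pCore 2 (↥(⊤ : Subgroup L) ⧸ R.subgroupOf ⊤)).subtype) fun x => ?_
        exact ⟨⟨x, h1 ▸ Subgroup.mem_top x⟩, rfl⟩
      exact hna (IsSimpleGroup.comm_iff_isSolvable.mpr inferInstance)
  · intro H _ N _ hs hna
    refine absurd ⟨⟨fun a b => ?_⟩⟩ hna
    obtain ⟨a, rfl⟩ := QuotientGroup.mk'_surjective N a
    obtain ⟨b, rfl⟩ := QuotientGroup.mk'_surjective N b
    haveI : Subsingleton (↥(⊤ : Subgroup L) ⧸ R.subgroupOf ⊤) :=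
      QuotientGroup.subsingleton_iff.mpr ht
    rw [Subsingleton.elim a b]

/-- S2796 in a minimal counterexample. -/
theorem Hyp.exists_top (h : Hyp L) (S : Sylow 2 L) : ∃ A₀, Top S A₀ := by
  haveI : Fact (Nat.Prime 2) := ⟨Nat.prime_two⟩
  set N := Subgroup.normalizer (thompsonSubgroupOf 2 (S : Subgroup L) : Set L) with hN
  set Z := omegaOne 2 ((S : Subgroup L) ⊓ Subgroup.centralizer ((S : Subgroup L) : Set L)) with hZ
  set A₀ := (Subgroup.normalClosure ((Z.subgroupOf N : Subgroup ↥N) : Set ↥N)).map N.subtype with hA₀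
  obtain ⟨hle, hel, hcl, -⟩ := Cfsg.Agent.S2796.result (free_four h.free)
    (fun K R _ hc => h.section_compK K R hc) S N hN A₀ hA₀
  have hSN : (S : Subgroup L) ≤ N := by
    intro s hs
    rw [hN]
    refine CfsgLib.Local.mem_normalizer_of_map_conj_eq ?_
    rw [← CfsgLib.JComp.thompsonOf_map _ (MulAut.conj s).injective,
      CfsgLib.Local.map_conj_eq_of_mem_normalizer (Subgroup.le_normalizer hs)]
  have hcen : ∀ z ∈ (S : Subgroup L), z * z = 1 → (∀ s ∈ (S : Subgroup L), z * s = s * z) → z ∈ A₀ := by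
    intro z hz hz2 hzc
    refine ⟨⟨z, hSN hz⟩, Subgroup.subset_normalClosure ?_, rfl⟩
    exact Subgroup.subset_closure ⟨⟨hz, fun s hs => (hzc s hs).symm⟩, by rw [pow_two]; exact hz2⟩
  have hne : A₀ ≠ ⊥ := by
    intro e
    haveI hnt : Nontrivial ↥(S : Subgroup L) := by
      refine (Subgroup.nontrivial_iff_ne_bot _).mpr fun e1 => ?_
      refine S.not_dvd_index ?_
      rw [e1, Subgroup.index_bot]
      exact h.even
    haveI := S.2.center_nontrivial
    obtain ⟨z, hz⟩ := exists_prime_orderOf_dvd_card' (G := Subgroup.center ↥(S : Subgroup L)) 2 (by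
      obtain ⟨n, hn⟩ := IsPGroup.iff_card.mp (S.2.to_subgroup (Subgroup.center ↥(S : Subgroup L)))
      rcases n with - | n
      · rw [pow_zero] at hn
        exact absurd hn (Finite.one_lt_card (α := Subgroup.center ↥(S : Subgroup L))).ne'
      · exact hn ▸ dvd_pow_self 2 n.succ_ne_zero)
    have h2 : ((z : ↥(S : Subgroup L)) : L) * z = 1 := by
      have := congrArg (fun w : Subgroup.center ↥(S : Subgroup L) => ((w : ↥(S : Subgroup L)) : L))
        (hz ▸ pow_orderOf_eq_one z)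
      simpa [pow_two] using this
    have := hcen _ (z : ↥(S : Subgroup L)).2 h2 fun s hs =>
      (congrArg Subtype.val (Subgroup.mem_center_iff.mp z.2 ⟨s, hs⟩)).symm
    rw [e, Subgroup.mem_bot] at this
    rw [show z = 1 from Subtype.ext (Subtype.ext this), orderOf_one] at hz
    omega
  refine ⟨A₀, ⟨hle, hel, hne, hcl⟩, hcen, fun B hB hBc => ?_⟩
  have hNA : N ≤ Subgroup.normalizer (A₀ : Set L) := fun n hn => by
    refine Subgroup.le_normalizer_map N.subtype ⟨⟨n, hn⟩, ?_, rfl⟩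
    rw [SetLike.mem_coe, Subgroup.normalizer_eq_top]
    exact Subgroup.mem_top _
  haveI : (B.subgroupOf N).Normal := ⟨fun x hx g =>
    (Subgroup.mem_normalizer_iff.mp (hB (hNA g.2)) (x : L)).mp hx⟩
  rw [hA₀]
  refine (Subgroup.map_mono (Subgroup.normalClosure_le_normal (N := B.subgroupOf N) ?_)).trans
    (Subgroup.map_comap_le _ _)
  intro x hx
  have hle' : Z ≤ B := (Subgroup.closure_le B).mpr fun y hy =>
    hBc y hy.1.1 (by rw [← pow_two]; exact hy.2) fun s hs => (hy.1.2 s hs).symm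
  exact hle' hx

/-- A minimal invariant subgroup of a strongly closed one is strongly closed and irreducible. -/
theorem Closed.exists_irred (hA₀ : Closed S A₀) {B : Subgroup L} (hB : B ≤ A₀) (hB1 : B ≠ ⊥)
    (hBN : Subgroup.normalizer (A₀ : Set L) ≤ Subgroup.normalizer (B : Set L)) :
    ∃ A ≤ B, Closed S A ∧ Irred A ∧ Subgroup.normalizer (A₀ : Set L) ≤ Subgroup.normalizer (A : Set L) := by
  classical
  have hex : ∃ n, ∃ A : Subgroup L, A ≤ B ∧ A ≠ ⊥ ∧
      Subgroup.normalizer (A₀ : Set L) ≤ Subgroup.normalizer (A : Set L) ∧ Nat.card A = n :=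
    ⟨_, B, le_rfl, hB1, hBN, rfl⟩
  obtain ⟨A, hAB, hA1, hAN, hn⟩ := Nat.find_spec hex
  have hmin : ∀ C : Subgroup L, C ≤ B → C ≠ ⊥ → Subgroup.normalizer (A₀ : Set L) ≤ Subgroup.normalizer (C : Set L) →
      Nat.card A ≤ Nat.card C := fun C h1 h2 h3 => hn ▸ Nat.find_min' hex ⟨C, h1, h2, h3, rfl⟩
  refine ⟨A, hAB, ⟨(hAB.trans hB).trans hA₀.le, ?_, hA1, (hAB.trans hB).trans hA₀.le, ?_⟩, ?_, hAN⟩
  · haveI : Fact (Nat.Prime 2) := ⟨Nat.prime_two⟩
    exact CfsgLib.Signalizer.ea_le hA₀.elem (hAB.trans hB)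
  · intro x hx g hg
    obtain ⟨n, hn', he⟩ := hA₀.exists_normalizer_conj (hA₀.le (hB (hAB hx))) hg
    rw [← he]
    exact (Subgroup.mem_normalizer_iff.mp (hAN hn') x).mp hx
  · intro C hC hCN
    refine or_iff_not_imp_left.mpr fun hC1 => Subgroup.eq_of_le_of_card_ge hC ?_
    exact hmin C (hC.trans hAB) hC1 fun g hg =>
      mem_normalizer_of_maps fun x hx => hCN g (hAN hg) x hx

/-- `|A| ≠ 2`, by the Z*-theorem. -/
theorem Hyp.four_le_card (h : Hyp L) (hA : Closed S A) : 4 ≤ Nat.card A := by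
  haveI : Fact (Nat.Prime 2) := ⟨Nat.prime_two⟩
  haveI := h.simple
  obtain ⟨n, hn⟩ := IsPGroup.iff_card.mp hA.isPGroup
  rcases n with - | - | n
  · rw [pow_zero] at hn
    exact absurd (Subgroup.card_eq_one.mp hn) hA.ne_bot
  · exfalso
    rw [zero_add, pow_one] at hn
    obtain ⟨z, hz, hz1⟩ := A.bot_or_exists_ne_one.resolve_left hA.ne_bot
    have hz2 := hA.orderOf_eq_two hz hz1
    have huniq : ∀ x ∈ A, x ≠ 1 → x = z := fun x hx hx1 => by
      obtain ⟨u, hu, hu'⟩ := Nat.card_eq_two_iff' (1 : A) |>.mp hn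
      have e1 := hu' ⟨x, hx⟩ fun e => hx1 (congrArg Subtype.val e)
      have e2 := hu' ⟨z, hz⟩ fun e => hz1 (congrArg Subtype.val e)
      exact congrArg Subtype.val (e1.trans e2.symm)
    have hiso := CfsgLib.ZStar.isolated_of_sylow S hz2 (hA.le hz) fun g hg =>
      huniq _ (hA.closed.2 z hz g hg) fun e => hz1 (by simpa using e)
    have hcore : pPrimeCore 2 L = ⊥ := by
      refine ((inferInstance : (pPrimeCore 2 L).Normal).eq_bot_or_eq_top).resolve_right fun e => ?_
      have hcop := card_pPrimeCore_coprime (G := L) 2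
      rw [e, Subgroup.card_top] at hcop
      exact absurd (Nat.coprime_two_right.mp hcop) (Nat.not_odd_iff_even.mpr (even_iff_two_dvd.mpr h.even))
    refine h.cc_ne_top hz1 (eq_top_iff.mpr fun g _ => AfterFT.CoreSep.mem_cc.mpr ?_)
    have h1 := CfsgLib.ZStar.commutator_mem hz2 hiso g
    rw [hcore, Subgroup.mem_bot, mul_inv_eq_iff_eq_mul, one_mul, mul_inv_eq_iff_eq_mul] at h1
    exact h1.symm
  · rw [hn]
    calc 4 = 2 ^ 2 := rfl
      _ ≤ _ := Nat.pow_le_pow_right (by norm_num) (by omega)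

/-- A non-trivial homomorphism from the units of `ℤ`. -/
theorem exists_units_hom : ∃ u : ℤˣ →* Multiplicative (ZMod 2), u (-1) ≠ 1 := by
  refine ⟨MonoidHom.mk' (fun x => if x = 1 then 1 else Multiplicative.ofAdd 1) (fun x y => ?_), ?_⟩
  swap
  · simp
  rcases Int.units_eq_one_or x with rfl | rfl <;> rcases Int.units_eq_one_or y with rfl | rfl <;> decide

/-- An irreducible four-group is central in the Sylow subgroup. -/
theorem Hyp.four_central (h : Hyp L) (hA : Closed S A) (h4 : Nat.card A = 4) {s a : L}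
    (hs : s ∈ (S : Subgroup L)) (ha : a ∈ A) : s * a = a * s := by
  classical
  haveI : Fact (Nat.Prime 2) := ⟨Nat.prime_two⟩
  set N := Subgroup.normalizer (A : Set L) with hN
  by_contra hne
  let act : N →* MulAut A := A.normalizerMonoidHom
  haveI : Fintype A := Fintype.ofFinite _
  let ψ : N →* ℤˣ := Equiv.Perm.sign.comp ((MulAut.toPerm A).comp act)
  have hsN : s ∈ N := hA.le_normalizer hs
  set b : L := s * a * s⁻¹ with hb
  have hbA : b ∈ A := (Subgroup.mem_normalizer_iff.mp hsN a).mp ha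
  have hba : b ≠ a := fun e => hne (mul_inv_eq_iff_eq_mul.mp e)
  have ha1 : a ≠ 1 := fun e => hne (by rw [e, mul_one, one_mul])
  have hb1 : b ≠ 1 := fun e => ha1 (by simpa [hb] using e)
  have hab1 : a * b ≠ 1 := fun e => hba ((mul_eq_one_iff_eq_inv.mp e).trans
    (inv_eq_of_mul_eq_one_right (hA.sq hbA))).symm
  -- the square of `s` fixes `a`
  have hsA : ∀ x ∈ A, x = 1 ∨ x = a ∨ x = b ∨ x = a * b := by
    intro x hx
    by_contra hcon
    push Not at hcon
    have h5 : ({1, ⟨a, ha⟩, ⟨b, hbA⟩, ⟨a * b, mul_mem ha hbA⟩, ⟨x, hx⟩} : Finset A).card = 5 := by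
      rw [Finset.card_insert_of_notMem, Finset.card_insert_of_notMem, Finset.card_insert_of_notMem,
        Finset.card_insert_of_notMem, Finset.card_singleton]
      all_goals simp only [Finset.mem_insert, Finset.mem_singleton, Subtype.ext_iff, Subgroup.coe_one, not_or]
      · exact Ne.symm hcon.2.2.2
      · refine ⟨fun e => ha1 ?_, Ne.symm hcon.2.2.1⟩
        exact mul_eq_right.mp e.symm
      · refine ⟨Ne.symm hba, fun e => hb1 ?_, Ne.symm hcon.2.1⟩
        exact mul_eq_left.mp e.symm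
      · exact ⟨Ne.symm ha1, Ne.symm hb1, Ne.symm hab1, Ne.symm hcon.1⟩
    have := Finset.card_le_univ ({1, ⟨a, ha⟩, ⟨b, hbA⟩, ⟨a * b, mul_mem ha hbA⟩, ⟨x, hx⟩} : Finset A)
    rw [h5, ← Nat.card_eq_fintype_card, h4] at this
    omega
  have hsb : s * b * s⁻¹ = a := by
    rcases hsA _ ((Subgroup.mem_normalizer_iff.mp hsN b).mp hbA) with e | e | e | e
    · exact absurd (conj_eq_one_iff.mp e) hb1
    · exact e
    · exact absurd ((MulAut.conj s).injective (show MulAut.conj s b = MulAut.conj s a from e)) hba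
    · -- an orbit of length three under a 2-element
      exfalso
      set c := a * b with hc
      have hsc : s * c * s⁻¹ = a :=
        calc s * c * s⁻¹ = s * a * s⁻¹ * (s * b * s⁻¹) := by rw [hc]; group
          _ = b * (a * b) := by rw [e]
          _ = a := by rw [← mul_assoc, hA.comm hbA ha, mul_assoc, hA.sq hbA, mul_one]
      obtain ⟨n, hn⟩ := S.2 ⟨s, hs⟩
      have hn' : s ^ 2 ^ n = 1 := congrArg Subtype.val hn
      have h3 : ∀ m : ℕ, s ^ (3 * m) * a * (s ^ (3 * m))⁻¹ = a := by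
        intro m
        induction m with
        | zero => simp
        | succ m ih =>
          calc s ^ (3 * (m + 1)) * a * (s ^ (3 * (m + 1)))⁻¹
              = s * (s * (s * (s ^ (3 * m) * a * (s ^ (3 * m))⁻¹) * s⁻¹) * s⁻¹) * s⁻¹ := by
                rw [show 3 * (m + 1) = 1 + (1 + (1 + 3 * m)) by omega, pow_add, pow_add, pow_add, pow_one]
                group
            _ = a := by rw [ih, ← hb, e, hsc]
      have hco : Nat.Coprime 3 (2 ^ n) := Nat.Coprime.pow_right n (by norm_num)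
      obtain ⟨m, hm⟩ := exists_pow_eq_self_of_coprime (hco.coprime_dvd_right (orderOf_dvd_of_pow_eq_one hn'))
      have := h3 m
      rw [pow_mul, hm, ← hb] at this
      exact hba this
  have hperm : (MulAut.toPerm A) (act ⟨s, hsN⟩) = Equiv.swap (⟨a, ha⟩ : A) ⟨b, hbA⟩ := by
    refine Equiv.ext fun x => Subtype.ext ?_
    show s * (x : L) * s⁻¹ = ((Equiv.swap (⟨a, ha⟩ : A) ⟨b, hbA⟩) x : L)
    rcases hsA x x.2 with e | e | e | e
    · rw [Equiv.swap_apply_of_ne_of_ne (fun e' => ha1 (by rw [← e, e'])) (fun e' => hb1 (by rw [← e, e'])), e]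
      group
    · rw [show x = ⟨a, ha⟩ from Subtype.ext e, Equiv.swap_apply_left]
    · rw [show x = ⟨b, hbA⟩ from Subtype.ext e, Equiv.swap_apply_right]
      exact hsb
    · rw [Equiv.swap_apply_of_ne_of_ne
        (fun e' => hb1 (mul_eq_left.mp (e.symm.trans (congrArg Subtype.val e'))))
        (fun e' => ha1 (mul_eq_right.mp (e.symm.trans (congrArg Subtype.val e')))), e,
        show s * (a * b) * s⁻¹ = s * a * s⁻¹ * (s * b * s⁻¹) by group, ← hb, hsb, hA.comm hbA ha]
  -- a sign homomorphism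
  obtain ⟨u, hu⟩ := exists_units_hom
  have h1 := DFunLike.congr_fun (h.focal hA (u.comp ψ)) ⟨s, hsN⟩
  have h2 : ψ ⟨s, hsN⟩ = -1 := by
    show Equiv.Perm.sign ((MulAut.toPerm A) (act ⟨s, hsN⟩)) = -1
    rw [hperm, Equiv.Perm.sign_swap fun e => hba (congrArg Subtype.val e).symm]
  simp only [MonoidHom.comp_apply, MonoidHom.one_apply, h2] at h1
  exact hu h1

/-- The `V`-part of a block of a larger strongly closed subgroup lies in every strongly closed subgroup that is not
inside its `D`-part. -/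
theorem block_le_sub (hA₀ : Closed S A₀) (hA : Closed S A) (hle : A ≤ A₀) {D V : Subgroup L} {k : L}
    (hk : IsBlock A₀ D V k) (hcomm : ∀ x ∈ A₀, k * x * k⁻¹ * x⁻¹ ∈ V) (hnle : ¬ A ≤ D) : V ≤ A := by
  have hkA : ∀ x ∈ A, k * x * k⁻¹ ∈ A := fun x hx =>
    hA.closed.2 x hx k (hA₀.le ((Subgroup.mem_normalizer_iff.mp hk.norm x).mp (hle hx)))
  obtain ⟨a, ha, haD⟩ := SetLike.not_le_iff_exists.mp hnle
  set v := k * a * k⁻¹ * a⁻¹ with hv
  have hvA : v ∈ A := A.mul_mem (hkA a ha) (A.inv_mem ha)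
  have hvV : v ∈ V := hcomm a (hle ha)
  have hv1 : v ≠ 1 := by
    intro e
    -- `a = d u` with `k` fixing `u`, so `u = 1`
    have hsup : a ∈ D ⊔ V := hk.sup.symm ▸ hle ha
    haveI : Fact (Nat.Prime 2) := ⟨Nat.prime_two⟩
    obtain ⟨d, hd, u, hu, rfl⟩ := CfsgLib.Signalizer.mem_sup_of_ea hA₀.elem hk.D_le hk.V_le hsup
    obtain ⟨y, hy, hyu⟩ := hk.exists_moved hA₀ hu
    have hfix : k * u * k⁻¹ = u := by
      have e1 : k * (d * u) * k⁻¹ = d * (k * u * k⁻¹) := by rw [← mul_assoc k, hk.cent d hd]; group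
      rw [hv, mul_inv_eq_one, e1] at e
      exact mul_left_cancel e
    by_contra
    refine haD ?_
    have hu1 : u = 1 := by
      by_contra hu1
      obtain ⟨i, hi⟩ := hk.trans u hu hu1 (k * y * k⁻¹) (hk.inv y hy) fun e2 => hu1 (by
        have hy1 : y = 1 := by simpa using e2
        rw [← hyu, hy1]; simp)
      have hci : Commute (k ^ i) u := Commute.pow_left (mul_inv_eq_iff_eq_mul.mp hfix) i
      rw [hci.eq, mul_inv_cancel_right] at hi
      exact hu1 (by rw [← hyu, ← hi, show y = u from (MulAut.conj k).injective (by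
        show k * y * k⁻¹ = k * u * k⁻¹
        rw [← hi, hfix]), mul_inv_cancel u])
    rw [hu1, mul_one]
    exact hd
  intro w hw
  by_cases hw1 : w = 1
  · rw [hw1]; exact one_mem A
  obtain ⟨i, rfl⟩ := hk.trans v hvV hv1 w hw hw1
  clear hw hw1
  induction i with
  | zero => simpa using hvA
  | succ i ih =>
    have := hkA _ ih
    rw [pow_succ']
    simpa [mul_assoc] using this

/-- An `A` of order eight with seven blocks is the whole of `A₀`. -/
theorem Hyp.eight_top (h : Hyp L) (hA₀ : Closed S A₀) (hA : Closed S A) (hle : A ≤ A₀) (h8 : Nat.card A = 8)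
    (hblk : ∀ a ∈ A, a ≠ 1 → Blocked A (Subgroup.zpowers a)) : A₀ = A := by
  classical
  haveI : Fact (Nat.Prime 2) := ⟨Nat.prime_two⟩
  by_contra hne
  have hz2 : ∀ t ∈ A, t ≠ 1 → Nat.card (Subgroup.zpowers t) = 2 := fun t ht ht1 => by
    rw [Nat.card_zpowers, hA.orderOf_eq_two ht ht1]
  have hex : ∀ t ∈ A, t ≠ 1 → ∃ D V k, Blocked A₀ D ∧ D ⊓ A = Subgroup.zpowers t ∧
      IsBlock A₀ D V k ∧ V ≤ A ∧ Nat.card V = 4 := by
    intro t ht ht1
    obtain ⟨E, hE, hb⟩ := h.blocked_at hA (hblk t ht ht1) (Subgroup.mem_zpowers t) ht1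
    have hnle : ¬ A ≤ blockD A₀ t E := by
      intro hAD
      refine (hblk t ht ht1).1 (le_antisymm (Subgroup.zpowers_le.mpr ht) fun x hx => ?_)
      rw [← hb]
      exact (mem_blockD (hA.mem_cc ht hx)).mpr ⟨hx, ((mem_blockD (hA.mem_cc ht hx)).mp (hAD hx)).2⟩
    have hD : Blocked A₀ (blockD A₀ t E) :=
      ⟨fun e => hnle (e.symm ▸ hle), t, hle ht, ht1, E, hE, rfl⟩
    obtain ⟨V, k, hk, hcm, -⟩ := h.exists_block hA₀ hD
    have hVA := block_le_sub hA₀ hA hle hk hcm hnle
    have hDA : blockD A₀ t E ⊓ A = Subgroup.zpowers t := by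
      ext x
      constructor
      · rintro ⟨hxD, hxA⟩
        rw [← hb]
        exact (mem_blockD (hA.mem_cc ht hxA)).mpr ⟨hxA, ((mem_blockD (hA.mem_cc ht hxA)).mp hxD).2⟩
      · intro hx
        have hxA : x ∈ A := Subgroup.zpowers_le.mpr ht hx
        refine ⟨(mem_blockD (hA.mem_cc ht hxA)).mpr ⟨hle hxA, ?_⟩, hxA⟩
        rw [← hb] at hx
        exact ((mem_blockD (hA.mem_cc ht hxA)).mp hx).2
    have hdisj : V ⊓ Subgroup.zpowers t = ⊥ := by
      rw [eq_bot_iff, ← hDA]
      exact fun x hx => hk.disjoint.le ⟨hx.2.1, hx.1⟩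
    have h4 : Nat.card V * 2 ≤ 8 :=
      h8 ▸ hz2 t ht ht1 ▸ card_mul_le_of_disjoint hVA (Subgroup.zpowers_le.mpr ht) hdisj
    exact ⟨_, V, k, hD, hDA, hk, hVA, le_antisymm (by omega) hk.four_le⟩
  choose! D V k hD hDA hk hVA hV using hex
  have hdis : ∀ t ∈ A, t ≠ 1 → ∀ u ∈ A, u ≠ 1 → t ≠ u → D t ⊓ D u = ⊥ := by
    intro t ht ht1 u hu hu1 htu
    by_contra hm
    have hDne : D t ≠ D u := fun e => htu (by
      have h1 : u ∈ Subgroup.zpowers t := by
        rw [← hDA t ht ht1, e, hDA u hu hu1]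
        exact Subgroup.mem_zpowers u
      obtain ⟨i, rfl⟩ := Subgroup.mem_zpowers_iff.mp h1
      rw [← zpow_mod_orderOf, hA.orderOf_eq_two ht ht1]
      rcases Int.emod_two_eq_zero_or_one i with e2 | e2 <;> rw [Nat.cast_ofNat, e2]
      · exact absurd (by rw [← zpow_mod_orderOf, hA.orderOf_eq_two ht ht1, Nat.cast_ofNat, e2, zpow_zero]) hu1
      · rw [zpow_one])
    have h1 : V u ≤ D t ⊓ A := le_inf (h.le_of_meet hA₀ (hD t ht ht1) (hD u hu hu1) hDne hm (hk u hu hu1))
      (hVA u hu hu1)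
    have h2 := Subgroup.card_le_of_le h1
    rw [hV u hu hu1, hDA t ht ht1, hz2 t ht ht1] at h2
    omega
  obtain ⟨n, hn⟩ := IsPGroup.iff_card.mp hA₀.isPGroup
  have hgt : 8 < Nat.card A₀ := lt_of_le_of_ne (h8 ▸ Subgroup.card_le_of_le hle) fun e =>
    hne (Subgroup.eq_of_le_of_card_ge hle (by omega)).symm
  have hn4 : 4 ≤ n := by
    by_contra hlt
    rw [hn] at hgt
    exact absurd hgt (not_lt.mpr (Nat.pow_le_pow_right (by norm_num) (by omega : n ≤ 3)))
  have h16 : 16 ≤ Nat.card A₀ := hn ▸ (Nat.pow_le_pow_right (show 0 < 2 by norm_num) hn4 : 2 ^ 4 ≤ 2 ^ n)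
  have hcard : ∀ t ∈ A, t ≠ 1 → Nat.card A₀ = Nat.card (D t) * 4 := fun t ht ht1 => by
    rw [← hV t ht ht1]; exact (hk t ht ht1).card_eq hA₀
  have hout : ∀ t ∈ A, t ≠ 1 → ∃ d ∈ D t, d ∉ A := by
    intro t ht ht1
    by_contra hcon
    push Not at hcon
    have h1 := Subgroup.card_le_of_le (le_inf le_rfl hcon : D t ≤ D t ⊓ A)
    rw [hDA t ht ht1, hz2 t ht ht1] at h1
    have := hcard t ht ht1
    omega
  choose! d hd hdA using hout
  obtain ⟨t, ht, ht1⟩ := A.bot_or_exists_ne_one.resolve_left hA.ne_bot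
  obtain ⟨u, hu, hu1, hut⟩ : ∃ u ∈ A, u ≠ 1 ∧ u ≠ t := by
    by_contra hcon
    push Not at hcon
    have : A ≤ Subgroup.zpowers t := fun x hx => by
      by_cases hx1 : x = 1
      · rw [hx1]; exact one_mem _
      · rw [hcon x hx hx1]; exact Subgroup.mem_zpowers t
    have h1 := Subgroup.card_le_of_le this
    rw [h8, hz2 t ht ht1] at h1
    omega
  have hle16 : Nat.card A₀ ≤ 16 := by
    have h1 := card_mul_le_of_disjoint (hD t ht ht1).le (hD u hu hu1).le (hdis t ht ht1 u hu hu1 hut.symm)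
    have h2 := hcard t ht ht1
    have h3 := hcard u hu hu1
    have hpos : 0 < Nat.card (D t) := Nat.card_pos
    nlinarith
  let f : A ⊕ ({t : A // t ≠ 1} × Bool) → A₀ := Sum.elim (fun x => ⟨x, hle x.2⟩) fun p =>
    ⟨if p.2 then d (p.1.1 : L) * p.1.1 else d (p.1.1 : L), by
      have h1 := (hD (p.1.1 : L) p.1.1.2 fun e => p.1.2 (Subtype.ext e)).le (hd _ p.1.1.2 fun e => p.1.2 (Subtype.ext e))
      split
      · exact mul_mem h1 (hle p.1.1.2)
      · exact h1⟩
  have hne' : ∀ p : {t : A // t ≠ 1} × Bool, ((f (Sum.inr p) : A₀) : L) ∉ A ∧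
      ((f (Sum.inr p) : A₀) : L) ∈ D (p.1.1 : L) := by
    intro p
    have ht' : ((p.1.1 : A) : L) ≠ 1 := fun e => p.1.2 (Subtype.ext e)
    have h1 := hd _ p.1.1.2 ht'
    have h2 := hdA _ p.1.1.2 ht'
    have h3 : (p.1.1 : L) ∈ D (p.1.1 : L) ⊓ A := (hDA _ p.1.1.2 ht').symm ▸ Subgroup.mem_zpowers _
    simp only [f, Sum.elim_inr]
    split
    · exact ⟨fun hm => h2 ((Subgroup.mul_mem_cancel_right A p.1.1.2).mp hm), mul_mem h1 h3.1⟩
    · exact ⟨h2, h1⟩
  have hf : Function.Injective f := by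
    rintro (x | p) (y | r) he
    · exact congrArg Sum.inl (Subtype.ext (congrArg Subtype.val he :))
    · exact absurd ((congrArg Subtype.val he :) ▸ x.2) (hne' r).1
    · exact absurd ((congrArg Subtype.val he.symm :) ▸ y.2) (hne' p).1
    · have htp : ((p.1.1 : A) : L) ≠ 1 := fun e => p.1.2 (Subtype.ext e)
      have htr : ((r.1.1 : A) : L) ≠ 1 := fun e => r.1.2 (Subtype.ext e)
      have hpr : p.1 = r.1 := by
        by_contra hne2
        have hm : ((f (Sum.inr p) : A₀) : L) ∈ D (p.1.1 : L) ⊓ D (r.1.1 : L) :=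
          ⟨(hne' p).2, by rw [he]; exact (hne' r).2⟩
        rw [hdis _ p.1.1.2 htp _ r.1.1.2 htr fun e => hne2 (Subtype.ext (Subtype.ext e)), Subgroup.mem_bot] at hm
        exact (hne' p).1 (hm ▸ one_mem A)
      obtain ⟨⟨p1, hp1⟩, pb⟩ := p
      obtain ⟨⟨r1, hr1⟩, rb⟩ := r
      obtain rfl : p1 = r1 := congrArg Subtype.val hpr
      rcases pb <;> rcases rb <;> simp_all [f]
  have := Nat.card_le_card_of_injective f hf
  rw [Nat.card_sum, Nat.card_prod, h8, Nat.card_eq_fintype_card (α := Bool), Fintype.card_bool] at this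
  have h7 : Nat.card {t : A // t ≠ 1} = 7 := by
    haveI : Fintype A := Fintype.ofFinite _
    rw [Nat.card_eq_fintype_card, Fintype.card_subtype_compl, Fintype.card_subtype_eq,
      ← Nat.card_eq_fintype_card, h8]
  omega

end CfsgLib.S3Simple
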