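import Cfsg.Agent.Lib.S3Simple.Component

/-!
A group with trivial core is its layer times the normaliser of a strongly closed elementary abelian subgroup.

Blueprint: `blueprint/S3Free.md`, B5.
-/

set_option autoImplicit false
set_option linter.unusedSectionVars false
set_option linter.style.haveILetI false

namespace CfsgLib.S3Simple

open Cfsg CfsgLib.Comp

universe u

variable {M : Type u} [Group M] [Finite M] {T : Sylow 2 M} {A : Subgroup M}

/-- An element of `A` is a product of an element of the layer lying in `A` and one centralising the components. -/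
theorem Ctx.exists_adjust (hM : Ctx M) (hA : Closed T A) {a : M} (ha : a ∈ A) :
    ∃ u, u ∈ A ∧ u ∈ layer M ∧ ∀ E : Subgroup M, IsComponent E → a * u ∈ Subgroup.centralizer (E : Set M) := by
  classical
  haveI := Fintype.ofFinite (Subgroup M)
  have hcomm : ∀ x ∈ A, ∀ y ∈ A, x * y = y * x := fun x hx y hy =>
    congrArg Subtype.val (hA.elem.1.is_comm.comm ⟨x, hx⟩ ⟨y, hy⟩)
  suffices h : ∀ s : Finset (Subgroup M), (∀ E ∈ s, IsComponent E) →
      ∃ u, u ∈ A ∧ u ∈ layer M ∧ ∀ E ∈ s, a * u ∈ Subgroup.centralizer (E : Set M) by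
    obtain ⟨u, hu, hl, hc⟩ := h (Finset.univ.filter IsComponent) fun E hE => (Finset.mem_filter.mp hE).2
    exact ⟨u, hu, hl, fun E hE => hc E (Finset.mem_filter.mpr ⟨Finset.mem_univ _, hE⟩)⟩
  intro s
  induction s using Finset.induction_on with
  | empty => exact fun _ => ⟨1, one_mem _, one_mem _, fun E hE => absurd hE (Finset.notMem_empty E)⟩
  | @insert E s hEs ih =>
    intro hs
    obtain ⟨u, hu, hl, hc⟩ := ih fun F hF => hs F (Finset.mem_insert_of_mem hF)
    have hE := hs E (Finset.mem_insert_self _ _)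
    by_cases hcent : a * u ∈ Subgroup.centralizer (E : Set M)
    · exact ⟨u, hu, hl, fun F hF => (Finset.mem_insert.mp hF).elim (fun e => e ▸ hcent) (hc F)⟩
    obtain ⟨V, k, hb⟩ := hM.exists_compBlock hA hE fun hle => hcent (hle (mul_mem ha hu))
    obtain ⟨d, hd, v, hv, he⟩ := hb.split hcomm (mul_mem ha hu)
    refine ⟨u * v⁻¹, mul_mem hu (inv_mem (hb.V_le hv).1), mul_mem hl (inv_mem (le_layer hE (hb.V_le hv).2)), ?_⟩
    intro F hF
    rcases Finset.mem_insert.mp hF with rfl | hFs
    · rw [← mul_assoc, ← he, mul_inv_cancel_right]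
      exact hd.2
    · have hEF : ⁅E, F⁆ = ⊥ := (components_eq_or_commute hE (hs F hF)).resolve_left fun e => hEs (e ▸ hFs)
      rw [← mul_assoc]
      refine mul_mem (hc F hFs) (inv_mem fun f hf => ?_)
      exact (comm_of_commutator_eq_bot hEF (hb.V_le hv).2 hf).symm

/-- The centraliser of the components inside `A` lies in `O₂`. -/
theorem Ctx.centralizer_layer_le (hM : Ctx M) (hA : Closed T A) {a : M} (ha : a ∈ A)
    (hc : ∀ E : Subgroup M, IsComponent E → a ∈ Subgroup.centralizer (E : Set M)) : a ∈ pCore 2 M := by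
  haveI : Fact (Nat.Prime 2) := ⟨Nat.prime_two⟩
  set Q := pCore 2 M with hQ
  haveI hQn : Q.Normal := Subgroup.sSup_normal _ (fun _ h => h.1)
  have hQT : Q ≤ (T : Subgroup M) := CfsgLib.AfterFT.CoreSep.pCore_two_le_sylow T
  have hRn : ∀ r ∈ A ⊓ Q, ∀ g : M, g * r * g⁻¹ ∈ A ⊓ Q := fun r hr g =>
    ⟨hA.closed.2 r hr.1 g (hQT (hQn.conj_mem r hr.2 g)), hQn.conj_mem r hr.2 g⟩
  set R := A ⊓ Q with hR
  haveI : R.Normal := ⟨hRn⟩
  -- the elements centralising the layer, `R` and `Q / R`
  let C1 := Subgroup.centralizer (layer M : Set M) ⊓ Subgroup.centralizer (R : Set M)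
  let K : Subgroup M := C1 ⊓
    (Subgroup.centralizer ((Q.map (QuotientGroup.mk' R) : Subgroup (M ⧸ R)) : Set (M ⧸ R))).comap (QuotientGroup.mk' R)
  haveI : (Subgroup.centralizer (layer M : Set M)).Normal := Subgroup.normal_centralizer
  haveI : (Subgroup.centralizer (R : Set M)).Normal := Subgroup.normal_centralizer
  haveI : (Q.map (QuotientGroup.mk' R)).Normal := hQn.map _ (QuotientGroup.mk'_surjective R)
  haveI : (Subgroup.centralizer ((Q.map (QuotientGroup.mk' R) : Subgroup (M ⧸ R)) : Set (M ⧸ R))).Normal :=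
    Subgroup.normal_centralizer
  haveI : K.Normal := inferInstance
  have haK : a ∈ K := by
    refine ⟨⟨?_, fun r hr => congrArg Subtype.val (hA.elem.1.is_comm.comm ⟨r, hr.1⟩ ⟨a, ha⟩)⟩, ?_⟩
    · have hle : layer M ≤ Subgroup.centralizer ({a} : Set M) := sSup_le fun E hE e he =>
        Subgroup.mem_centralizer_singleton_iff.mpr (hc E hE e he)
      exact fun y hy => Subgroup.mem_centralizer_singleton_iff.mp (hle hy)
    · rintro _ ⟨q, hq, rfl⟩
      rw [← map_mul, ← map_mul]
      refine QuotientGroup.eq.mpr ?_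
      have hTA : q⁻¹ * a * q ∈ A := by
        have h := hA.closed.2 a ha q⁻¹ (mul_mem (mul_mem (inv_mem (hQT hq)) (hA.le ha)) (inv_mem (inv_mem (hQT hq))))
        rwa [inv_inv] at h
      refine ⟨?_, ?_⟩
      · rw [_root_.mul_inv_rev]
        have := mul_mem (inv_mem ha) hTA
        have e : a⁻¹ * q⁻¹ * (a * q) = a⁻¹ * (q⁻¹ * a * q) := by group
        rwa [e]
      · rw [_root_.mul_inv_rev]
        have e : a⁻¹ * q⁻¹ * (a * q) = (a⁻¹ * q⁻¹ * (a⁻¹)⁻¹) * q := by group
        rw [e]
        exact mul_mem (hQn.conj_mem _ (inv_mem hq) a⁻¹) hq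
  have hK2 : IsPGroup 2 K := by
    intro x
    -- the square centralises `Q`
    have hsq : ((x : M) ^ 2) ∈ Subgroup.centralizer (Q : Set M) := by
      intro q hq
      have h1 := x.2.2 (QuotientGroup.mk' R q) ⟨q, hq, rfl⟩
      rw [← map_mul, ← map_mul] at h1
      have hr : (q * x)⁻¹ * ((x : M) * q) ∈ R := QuotientGroup.eq.mp h1
      set r := (q * x)⁻¹ * ((x : M) * q) with hrdef
      have e1 : (x : M) * q = q * x * r := by rw [hrdef, mul_inv_cancel_left]
      have hxr : (x : M) * r = r * x := (x.2.1.2 r hr).symm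
      have hr2 : r * r = 1 := by rw [← pow_two]; exact hA.elem.2 r hr.1
      symm
      calc (x : M) ^ 2 * q = (x : M) * ((x : M) * q) := by rw [pow_two, mul_assoc]
        _ = (x : M) * (q * x * r) := by rw [e1]
        _ = (x : M) * q * x * r := by group
        _ = q * x * r * x * r := by rw [e1]
        _ = q * x * (r * x * r) := by group
        _ = q * x * (x * (r * r)) := by rw [← hxr]; group
        _ = q * (x : M) ^ 2 := by rw [hr2, mul_one, pow_two, mul_assoc]
    have hgf : generalizedFittingSubgroup M ≤ Subgroup.centralizer ({(x : M) ^ 2} : Set M) := by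
      refine sup_le (fun e he => ?_) (fun q hq => ?_)
      · exact Subgroup.mem_centralizer_singleton_iff.mpr
          ((Commute.pow_right (show Commute e (x : M) from x.2.1.1 e he) 2).eq)
      · rw [fitting_eq_pCore Nat.prime_two hM.core] at hq
        exact Subgroup.mem_centralizer_singleton_iff.mpr (hsq q hq)
    have hmem : (x : M) ^ 2 ∈ Subgroup.centralizer (generalizedFittingSubgroup M : Set M) := fun y hy =>
      Subgroup.mem_centralizer_singleton_iff.mp (hgf hy)
    haveI : (Subgroup.centralizer (generalizedFittingSubgroup M : Set M)).Normal := Subgroup.normal_centralizer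
    have hZ : Subgroup.centralizer (generalizedFittingSubgroup M : Set M) ≤ fittingSubgroup M :=
      le_fittingSubgroup (nilpotent_of_comm fun a ha b hb => hb a (centralizer_generalizedFitting_le ha))
    have h2 := hZ hmem
    rw [fitting_eq_pCore Nat.prime_two hM.core] at h2
    obtain ⟨k, hk⟩ := isPGroup_pCore (G := M) 2 ⟨_, h2⟩
    refine ⟨k + 1, Subtype.ext ?_⟩
    have h3 : ((x : M) ^ 2) ^ 2 ^ k = 1 := congrArg Subtype.val hk
    rw [SubmonoidClass.coe_pow, pow_succ', pow_mul, h3]
    rfl
  exact (le_sSup (show K ∈ {H : Subgroup M | H.Normal ∧ IsPGroup 2 H} from ⟨inferInstance, hK2⟩) : K ≤ pCore 2 M) haK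

/-- `A` lies in the generalised Fitting subgroup. -/
theorem Ctx.closed_le_gfit (hM : Ctx M) (hA : Closed T A) : A ≤ generalizedFittingSubgroup M := by
  intro a ha
  obtain ⟨u, hu, hl, hc⟩ := hM.exists_adjust hA ha
  have h1 := hM.centralizer_layer_le hA (mul_mem ha hu) hc
  have h2 : a * u ∈ generalizedFittingSubgroup M :=
    CfsgLib.AfterFT.CoreSep.pCore_two_le_gfit hM.core h1
  have h3 := mul_mem h2 (inv_mem (layer_le_generalized hl))
  rwa [mul_inv_cancel_right] at h3

/-- The whole group is the layer times the normaliser of `A`. -/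
theorem Ctx.layer_sup_normalizer (hM : Ctx M) (hA : Closed T A) :
    layer M ⊔ Subgroup.normalizer (A : Set M) = ⊤ := by
  haveI : Fact (Nat.Prime 2) := ⟨Nat.prime_two⟩
  set F := generalizedFittingSubgroup M with hF
  haveI hFn : F.Normal := inferInstance
  obtain ⟨P, hP⟩ := CfsgLib.CharPLocal.exists_sylow_subnormal T hFn.isSubnormal
  have hAF := hM.closed_le_gfit hA
  have hTA : (T : Subgroup M) ≤ Subgroup.normalizer (A : Set M) := fun s hs =>
    CfsgLib.Bender.TwoClosed.mem_normalizer_of_conj fun a ha =>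
      hA.closed.2 a ha s (mul_mem (mul_mem hs (hA.le ha)) (inv_mem hs))
  have hN : Subgroup.normalizer (((P : Subgroup ↥F).map F.subtype : Subgroup M) : Set M) ≤
      Subgroup.normalizer (A : Set M) := fun n hn => mem_normalizer_of_maps fun a ha => by
    have h1 : a ∈ (P : Subgroup ↥F).map F.subtype := by rw [hP]; exact ⟨hA.le ha, hAF ha⟩
    have h2 := (Subgroup.mem_normalizer_iff.mp hn a).mp h1
    rw [hP] at h2
    exact hA.closed.2 a ha n h2.1
  rw [eq_top_iff]
  refine (Sylow.normalizer_sup_eq_top P).ge.trans (sup_le (le_trans hN le_sup_right) (sup_le le_sup_left ?_))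
  rw [fitting_eq_pCore Nat.prime_two hM.core]
  exact ((CfsgLib.AfterFT.CoreSep.pCore_two_le_sylow T).trans hTA).trans le_sup_right

end CfsgLib.S3Simple
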