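import Cfsg.Agent.Lib.S3Simple.Lift
import Cfsg.Agent.Lib.S3Simple.Generation

/-!
The blocks of a strongly closed elementary abelian subgroup of a minimal counterexample.

A block is determined by `D = C_A(E)` for a component `E` of `C(a)` modulo its core that `A` does not centralise.

Blueprint: `blueprint/S3Free.md`, B2 to B5.
-/

set_option autoImplicit false
set_option linter.unusedSectionVars false
set_option linter.style.haveILetI false

namespace CfsgLib.S3Simple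

open Cfsg CfsgLib.Comp CfsgLib.AfterFT.CoreSep

universe u

variable {L : Type u} [Group L] [Finite L] {S : Sylow 2 L} {A D D' : Subgroup L}

/-- `D` is the centraliser in `A` of a component of some `C(a)` modulo core not centralised by `A`. -/
def Blocked (A D : Subgroup L) : Prop :=
  D ≠ A ∧ ∃ a ∈ A, a ≠ 1 ∧ ∃ E : Subgroup (qq a), IsComponent E ∧ blockD A a E = D

theorem Blocked.le (hD : Blocked A D) : D ≤ A := by
  obtain ⟨-, a, -, -, E, -, rfl⟩ := hD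
  exact blockD_le a E

theorem Blocked.ne_bot (hD : Blocked A D) : D ≠ ⊥ := by
  obtain ⟨-, a, ha, ha1, E, -, rfl⟩ := hD
  exact fun e => ha1 (Subgroup.mem_bot.mp (e ▸ self_mem_blockD ha E))

/-- A block is seen from each of the non-identity elements of `D`. -/
theorem Hyp.blocked_at (h : Hyp L) (hA : Closed S A) (hD : Blocked A D) {d : L} (hd : d ∈ D) (hd1 : d ≠ 1) :
    ∃ E : Subgroup (qq d), IsComponent E ∧ blockD A d E = D := by
  obtain ⟨-, a, ha, -, E, hE, rfl⟩ := hD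
  exact h.lift hA ha hE hd hd1

/-- The image of `A` does not centralise the component of a block. -/
theorem not_le_centralizer (hA : Closed S A) {a : L} (ha : a ∈ A) {E : Subgroup (qq a)}
    (hne : blockD A a E ≠ A) : ¬ imA A a ≤ Subgroup.centralizer (E : Set (qq a)) := fun hle =>
  hne (le_antisymm (blockD_le a E) fun _ hx =>
    (mem_blockD (hA.mem_cc ha hx)).mpr ⟨hx, hle (mem_imA hx _)⟩)

/-- B2: the decomposition of a block, with its element `k`. -/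
theorem Hyp.exists_block (h : Hyp L) (hA : Closed S A) (hD : Blocked A D) :
    ∃ V k, IsBlock A D V k ∧ (∀ a ∈ A, k * a * k⁻¹ * a⁻¹ ∈ V) ∧
      (Nat.card V = 4 ∨ 8 ≤ Nat.card V) := by
  haveI : Fact (Nat.Prime 2) := ⟨Nat.prime_two⟩
  have hDne := hD.1
  obtain ⟨a, ha, ha1, E, hE, rfl⟩ := hD.2
  obtain ⟨T, hT⟩ := hA.imA_closed ha
  obtain ⟨Vb, kb, hb⟩ := (h.ctx ha1).exists_compBlock hT hE (not_le_centralizer hA ha hDne)
  obtain ⟨w, hw⟩ := bar_surjective 2 kb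
  obtain ⟨w', hw', hwe⟩ := exists_centralizing_lift
    (hA.isPGroup.of_equiv (Subgroup.subgroupOfEquivOfLe (hA.le_cc ha)).symm) w (by rw [hw]; exact hb.k_norm)
  rw [hw] at hwe
  set k : L := (w' : L) with hk
  set V : Subgroup L := A ⊓ (Vb.comap (ff a)).map (cc a).subtype with hV
  have hmemV : ∀ {x : L} (hx : x ∈ A), x ∈ V ↔ ff a ⟨x, hA.mem_cc ha hx⟩ ∈ Vb := by
    intro x hx
    constructor
    · rintro ⟨-, y, hy, e⟩
      have : y = ⟨x, hA.mem_cc ha hx⟩ := Subtype.ext e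
      exact this ▸ hy
    · intro h'
      exact ⟨hx, ⟨x, hA.mem_cc ha hx⟩, h', rfl⟩
  have hkA : ∀ x ∈ A, k * x * k⁻¹ ∈ A := fun x hx =>
    (Subgroup.mem_normalizer_iff.mp hw' ⟨x, hA.mem_cc ha hx⟩).mp hx
  have hkbar : ∀ {x : L} (hx : x ∈ A), ff a ⟨k * x * k⁻¹, hA.mem_cc ha (hkA x hx)⟩ =
      kb * ff a ⟨x, hA.mem_cc ha hx⟩ * kb⁻¹ := by
    intro x hx
    rw [← hwe, ← map_inv, ← map_mul, ← map_mul]
    rfl
  have hinj : ∀ {x y : L} (hx : x ∈ A) (hy : y ∈ A),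
      ff a ⟨x, hA.mem_cc ha hx⟩ = ff a ⟨y, hA.mem_cc ha hy⟩ → x = y := by
    intro x y hx hy hxy
    refine inv_mul_eq_one.mp (hA.ff_inj (mul_mem (inv_mem hx) hy) (hA.mem_cc ha (mul_mem (inv_mem hx) hy)) ?_)
    rw [show (⟨x⁻¹ * y, hA.mem_cc ha (mul_mem (inv_mem hx) hy)⟩ : ↥(cc a)) =
      (⟨x, hA.mem_cc ha hx⟩ : ↥(cc a))⁻¹ * ⟨y, hA.mem_cc ha hy⟩ from rfl, map_mul, map_inv, hxy, inv_mul_cancel]
  have hVb : ∀ v ∈ Vb, ∃ x, ∃ hx : x ∈ A, x ∈ V ∧ ff a ⟨x, hA.mem_cc ha hx⟩ = v := by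
    intro v hv
    obtain ⟨y, hy, hye⟩ := (hb.V_le hv).1
    exact ⟨y, hy, (hmemV hy).mpr (hye ▸ hv), hye⟩
  have hDb : imA A a ⊓ Subgroup.centralizer (E : Set (qq a)) = imA (blockD A a E) a := by
    ext y
    constructor
    · rintro ⟨⟨x, hx, rfl⟩, hy⟩
      exact ⟨x, (mem_blockD x.2).mpr ⟨hx, hy⟩, rfl⟩
    · rintro ⟨x, hx, rfl⟩
      exact ⟨⟨x, blockD_le a E hx, rfl⟩, ((mem_blockD x.2).mp hx).2⟩
  refine ⟨V, k, ⟨blockD_le a E, inf_le_left, ?_, ?_, fun e => ha1 (Subgroup.mem_bot.mp (e ▸ self_mem_blockD ha E)),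
    ?_, mem_normalizer_of_maps hkA, ?_, ?_, ?_⟩, ?_, ?_⟩
  · rw [eq_bot_iff]
    rintro x ⟨hxD, hxV⟩
    have hxA := blockD_le a E hxD
    have h1 : ff a ⟨x, hA.mem_cc ha hxA⟩ ∈ imA A a ⊓ Subgroup.centralizer (E : Set (qq a)) ⊓ Vb :=
      ⟨⟨mem_imA hxA _, ((mem_blockD _).mp hxD).2⟩, (hmemV hxA).mp hxV⟩
    rw [hb.disjoint, Subgroup.mem_bot] at h1
    exact Subgroup.mem_bot.mpr (hA.ff_inj hxA _ h1)
  · refine le_antisymm (sup_le (blockD_le a E) inf_le_left) fun x hx => ?_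
    obtain ⟨db, hdb, vb, hvb, he⟩ := hb.split (fun p hp q hq =>
      congrArg Subtype.val (hT.elem.1.is_comm.comm ⟨p, hp⟩ ⟨q, hq⟩)) (mem_imA hx (hA.mem_cc ha hx))
    rw [hDb] at hdb
    obtain ⟨d, hd, rfl⟩ := hdb
    obtain ⟨v, hvA, hv, rfl⟩ := hVb vb hvb
    have hdA : (d : L) ∈ A := blockD_le a E hd
    have hxe : x = (d : L) * v := hinj hx (mul_mem hdA hvA) (by
      rw [← he, ← map_mul]
      rfl)
    rw [hxe]
    exact Subgroup.mul_mem_sup hd hv
  · refine hb.four_le.trans ?_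
    refine Nat.card_le_card_of_injective (fun v : Vb => (⟨(hVb v v.2).choose, (hVb v v.2).choose_spec.choose_spec.1⟩ : V))
      fun p q hpq => Subtype.ext ?_
    have h1 := (hVb p p.2).choose_spec.choose_spec.2
    have h2 := (hVb q q.2).choose_spec.choose_spec.2
    rw [← h1, ← h2]
    congr 2
    exact congrArg Subtype.val hpq
  · intro d hd
    have hdA := blockD_le a E hd
    have h1 : ff a ⟨k * d * k⁻¹, hA.mem_cc ha (hkA d hdA)⟩ = ff a ⟨d, hA.mem_cc ha hdA⟩ := by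
      rw [hkbar hdA, ((mem_blockD (hA.mem_cc ha hdA)).mp hd).2 kb hb.k_mem, mul_inv_cancel_right]
    exact mul_inv_eq_iff_eq_mul.mp (hinj (hkA d hdA) hdA h1)
  · intro v hv
    refine (hmemV (hkA v hv.1)).mpr ?_
    rw [hkbar hv.1]
    exact hb.inv _ ((hmemV hv.1).mp hv)
  · intro v hv hv1 x hx hx1
    obtain ⟨i, hi⟩ := hb.trans _ ((hmemV hv.1).mp hv) (fun e => hv1 (hA.ff_inj hv.1 _ e)) _ ((hmemV hx.1).mp hx)
      fun e => hx1 (hA.ff_inj hx.1 _ e)
    have hkN : k ∈ Subgroup.normalizer (A : Set L) := mem_normalizer_of_maps hkA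
    have hiA : k ^ i * v * (k ^ i)⁻¹ ∈ A := (Subgroup.mem_normalizer_iff.mp (pow_mem hkN i) v).mp hv.1
    refine ⟨i, hinj hiA hx.1 ?_⟩
    rw [← hi, ← hwe, ← map_pow, ← map_inv, ← map_mul, ← map_mul]
    rfl
  · intro x hx
    have hm : k * x * k⁻¹ * x⁻¹ ∈ A := mul_mem (hkA x hx) (inv_mem hx)
    refine (hmemV hm).mpr ?_
    have := hb.comm_V _ (mem_imA hx (hA.mem_cc ha hx))
    rw [← hwe, ← map_inv, ← map_inv, ← map_mul, ← map_mul, ← map_mul] at this
    exact this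
  · have hcard : Nat.card V = Nat.card Vb := by
      refine Nat.card_eq_of_bijective (fun v : V => (⟨ff a ⟨v, hA.mem_cc ha v.2.1⟩, (hmemV v.2.1).mp v.2⟩ : Vb))
        ⟨fun p q hpq => Subtype.ext (hinj p.2.1 q.2.1 (congrArg Subtype.val hpq :)), fun v => ?_⟩
      obtain ⟨x, hxA, hx, hxe⟩ := hVb v v.2
      exact ⟨⟨x, hx⟩, Subtype.ext hxe⟩
    rw [hcard]
    rcases hb.size with h4 | h8
    · exact Or.inl h4.1
    · exact Or.inr h8.1

/-- B4: an element normalising `A` and centralising the `D`-part of a second block moves the elements of `A` by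
elements of the `D`-part of the first, when the two meet. -/
theorem Hyp.block_moves (h : Hyp L) (hA : Closed S A) (hD : Blocked A D) (hD' : Blocked A D') (hne : D ≠ D')
    (hmeet : D ⊓ D' ≠ ⊥) {x : L} (hx : x ∈ Subgroup.normalizer (A : Set L)) (hxD : ∀ d ∈ D', x * d = d * x)
    {b : L} (hb : b ∈ A) : x * b * x⁻¹ * b⁻¹ ∈ D := by
  obtain ⟨d, hd, hd1⟩ := (D ⊓ D').bot_or_exists_ne_one.resolve_left hmeet
  have hdA : d ∈ A := hD.le hd.1
  obtain ⟨E, hE, hEd⟩ := h.blocked_at hA hD hd.1 hd1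
  obtain ⟨E', hE', hE'd⟩ := h.blocked_at hA hD' hd.2 hd1
  obtain ⟨T, hT⟩ := hA.imA_closed hdA
  have hnc : ¬ imA A d ≤ Subgroup.centralizer (E' : Set (qq d)) :=
    not_le_centralizer hA hdA (hE'd ▸ hD'.1)
  have hEE : E ≠ E' := fun e => hne (by rw [← hEd, ← hE'd, e])
  have hxc : x ∈ cc d := AfterFT.CoreSep.mem_cc.mpr (hxD d hd.2)
  have hxN : ff d ⟨x, hxc⟩ ∈ Subgroup.normalizer (imA A d : Set (qq d)) := by
    refine mem_normalizer_of_maps ?_
    rintro _ ⟨y, hy, rfl⟩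
    exact ⟨⟨x, hxc⟩ * y * ⟨x, hxc⟩⁻¹, (Subgroup.mem_normalizer_iff.mp hx (y : L)).mp hy,
      by rw [map_mul, map_mul, map_inv]⟩
  obtain ⟨-, hmv⟩ := (h.ctx hd1).fix_moves hT hE' hnc hxN (by
    rintro _ ⟨⟨y, hy, rfl⟩, hyc⟩
    rw [← map_mul, ← map_mul]
    exact congrArg _ (Subtype.ext (hxD y (hE'd ▸ (mem_blockD y.2).mpr ⟨hy, hyc⟩))))
  have hbc := hA.mem_cc hdA hb
  have hm : x * b * x⁻¹ * b⁻¹ ∈ A := mul_mem ((Subgroup.mem_normalizer_iff.mp hx b).mp hb) (inv_mem hb)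
  rw [← hEd]
  refine (mem_blockD (hA.mem_cc hdA hm)).mpr ⟨hm, fun e he => ?_⟩
  have h1 := (hmv _ (mem_imA hb hbc)).2
  rw [← map_inv, ← map_inv, ← map_mul, ← map_mul, ← map_mul] at h1
  exact comm_of_commutator_eq_bot ((components_eq_or_commute hE hE').resolve_left hEE) he h1

/-- Conjugation by an element of the normaliser of `A` carries components and their centralisers in `A`. -/
theorem conj_component (hA : Closed S A) {g : L} (hg : g ∈ Subgroup.normalizer (A : Set L)) {a : L} (ha : a ∈ A)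
    {E : Subgroup (qq a)} (hE : IsComponent E) :
    ∃ E' : Subgroup (qq (g * a * g⁻¹)), IsComponent E' ∧
      blockD A (g * a * g⁻¹) E' = (blockD A a E).map (MulAut.conj g).toMonoidHom ∧
      ∀ (x : L) (hx : x ∈ cc a), ff a ⟨x, hx⟩ ∈ E →
        ∀ h : g * x * g⁻¹ ∈ cc (g * a * g⁻¹), ff (g * a * g⁻¹) ⟨g * x * g⁻¹, h⟩ ∈ E' := by
  set a' := g * a * g⁻¹ with ha'
  have ha'A : a' ∈ A := (Subgroup.mem_normalizer_iff.mp hg a).mp ha
  have hcc : (cc a).map (MulAut.conj g).toMonoidHom = cc a' := by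
    ext x
    rw [Subgroup.mem_map_equiv, MulAut.conj_symm_apply, AfterFT.CoreSep.mem_cc, AfterFT.CoreSep.mem_cc, ha']
    constructor
    · intro h
      calc x * (g * a * g⁻¹) = g * (g⁻¹ * x * g * a) * g⁻¹ := by group
        _ = g * (a * (g⁻¹ * x * g)) * g⁻¹ := by rw [h]
        _ = g * a * g⁻¹ * x := by group
    · intro h
      calc g⁻¹ * x * g * a = g⁻¹ * (x * (g * a * g⁻¹)) * g := by group
        _ = g⁻¹ * (g * a * g⁻¹ * x) * g := by rw [h]
        _ = a * (g⁻¹ * x * g) := by group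
  let e0 : ↥(cc a) ≃* ↥(cc a') :=
    ((MulAut.conj g).subgroupMap (cc a)).trans (MulEquiv.subgroupCongr hcc)
  let eq' : qq a ≃* qq a' :=
    QuotientGroup.congr _ _ e0 (CfsgLib.pPrimeCore_map_equiv 2 e0)
  have he0 : ∀ y : ↥(cc a), eq' (ff a y) = ff a' (e0 y) := fun y => rfl
  refine ⟨E.map eq'.toMonoidHom, isComponent_map_equiv eq' hE, ?_, fun x hx hxE h => ⟨ff a ⟨x, hx⟩, hxE, ?_⟩⟩
  swap
  · exact he0 ⟨x, hx⟩
  ext x
  rw [Subgroup.mem_map_equiv, MulAut.conj_symm_apply]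
  have key : ∀ y : ↥(cc a), ff a' (e0 y) ∈ Subgroup.centralizer ((E.map eq'.toMonoidHom : Subgroup (qq a')) : Set (qq a')) ↔
      ff a y ∈ Subgroup.centralizer (E : Set (qq a)) := by
    intro y
    constructor
    · intro h e he
      refine eq'.injective ?_
      rw [map_mul, map_mul, he0]
      exact h _ ⟨e, he, rfl⟩
    · rintro h _ ⟨e, he, rfl⟩
      show eq' e * ff a' (e0 y) = ff a' (e0 y) * eq' e
      rw [← he0, ← map_mul, ← map_mul, h e he]
  constructor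
  · intro hx
    have hxA := blockD_le a' _ hx
    have hy : g⁻¹ * x * g ∈ A := (Subgroup.mem_normalizer_iff''.mp hg x).mp hxA
    refine (mem_blockD (hA.mem_cc ha hy)).mpr ⟨hy, (key _).mp ?_⟩
    have : e0 ⟨g⁻¹ * x * g, hA.mem_cc ha hy⟩ = ⟨x, hA.mem_cc ha'A hxA⟩ :=
      Subtype.ext (show g * (g⁻¹ * x * g) * g⁻¹ = x by group)
    rw [this]
    exact ((mem_blockD _).mp hx).2
  · intro hx
    have hy := blockD_le a E hx
    have hxA : x ∈ A := (Subgroup.mem_normalizer_iff''.mp hg x).mpr hy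
    refine (mem_blockD (hA.mem_cc ha'A hxA)).mpr ⟨hxA, ?_⟩
    have : e0 ⟨g⁻¹ * x * g, hA.mem_cc ha hy⟩ = ⟨x, hA.mem_cc ha'A hxA⟩ :=
      Subtype.ext (show g * (g⁻¹ * x * g) * g⁻¹ = x by group)
    rw [← this, key]
    exact ((mem_blockD _).mp hx).2

/-- The blocks are permuted by the normaliser of `A`. -/
theorem Blocked.conj (hA : Closed S A) (hD : Blocked A D) {g : L} (hg : g ∈ Subgroup.normalizer (A : Set L)) :
    Blocked A (D.map (MulAut.conj g).toMonoidHom) := by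
  have hgA : A.map (MulAut.conj g).toMonoidHom = A := by
    ext x
    rw [Subgroup.mem_map_equiv, MulAut.conj_symm_apply]
    exact (Subgroup.mem_normalizer_iff''.mp hg x).symm
  refine ⟨fun e => hD.1 (Subgroup.map_injective (MulAut.conj g).injective (e.trans hgA.symm)), ?_⟩
  obtain ⟨-, a, ha, ha1, E, hE, rfl⟩ := hD
  obtain ⟨E', hE', he, -⟩ := conj_component hA hg ha hE
  exact ⟨g * a * g⁻¹, (Subgroup.mem_normalizer_iff.mp hg a).mp ha, fun h => ha1 (by simpa using h), E', hE', he⟩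

/-- Every element of `V` is a commutator with `k`. -/
theorem IsBlock.exists_moved (hA : Closed S A) {W : Subgroup L} {k : L} (hk : IsBlock A D W k) {v : L}
    (hv : v ∈ W) : ∃ y ∈ W, k * y * k⁻¹ * y⁻¹ = v := by
  classical
  let φ : W → W := fun y => ⟨k * y * k⁻¹ * (y : L)⁻¹, mul_mem (hk.inv y y.2) (inv_mem y.2)⟩
  have hφ : Function.Injective φ := by
    intro y z hyz
    have he : k * (y : L) * k⁻¹ * (y : L)⁻¹ = k * (z : L) * k⁻¹ * (z : L)⁻¹ := congrArg Subtype.val hyz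
    by_contra hne'
    set w : L := (z : L)⁻¹ * y with hw
    have hwV : w ∈ W := mul_mem (inv_mem z.2) y.2
    have hw1 : w ≠ 1 := fun e => hne' (Subtype.ext (inv_mul_eq_one.mp e).symm)
    have hfix : k * w = w * k := by
      have hc := hA.comm (hk.V_le (inv_mem z.2)) (hk.V_le (hk.inv y y.2))
      have e1 : k * w * k⁻¹ = (k * (z : L) * k⁻¹)⁻¹ * (k * y * k⁻¹) := by rw [hw]; group
      have e2 : k * (y : L) * k⁻¹ = k * (z : L) * k⁻¹ * (z : L)⁻¹ * y := by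
        rw [← mul_inv_eq_iff_eq_mul]; exact he
      rw [← mul_inv_eq_iff_eq_mul, e1, e2, hw]
      group
    obtain ⟨v', hv'V, hv'1, hv'w⟩ : ∃ v' ∈ W, v' ≠ 1 ∧ v' ≠ w := by
      by_contra hcon
      push Not at hcon
      have h4 := hk.four_le
      have : Nat.card (W) ≤ Nat.card Bool := by
        refine Nat.card_le_card_of_injective (fun z : W => decide ((z : L) = 1)) fun p r hpr => Subtype.ext ?_
        have h' := decide_eq_decide.mp hpr
        by_cases hp : (p : L) = 1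
        · rw [hp, h'.mp hp]
        · rw [hcon p p.2 hp, hcon r r.2 fun hr => hp (h'.mpr hr)]
      rw [Nat.card_eq_fintype_card (α := Bool), Fintype.card_bool] at this
      omega
    obtain ⟨i, hi⟩ := hk.trans w hwV hw1 v' hv'V hv'1
    rw [(Commute.pow_left (show Commute k w from hfix) i).eq, mul_inv_cancel_right] at hi
    exact hv'w hi.symm
  obtain ⟨y, hy⟩ := Finite.surjective_of_injective hφ ⟨v, hv⟩
  exact ⟨y, y.2, congrArg Subtype.val hy⟩

/-- B4: the `V`-part of one of two blocks that meet lies in the `D`-part of the other. -/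
theorem Hyp.le_of_meet (h : Hyp L) (hA : Closed S A) (hD : Blocked A D) (hD' : Blocked A D') (hne : D ≠ D')
    (hmeet : D ⊓ D' ≠ ⊥) {W : Subgroup L} {k : L} (hk : IsBlock A D' W k) : W ≤ D := by
  intro v hv
  obtain ⟨y, hy, rfl⟩ := hk.exists_moved hA hv
  exact h.block_moves hA hD hD' hne hmeet hk.norm hk.cent (hk.V_le hy)

/-- The order of `A` is the product of the orders of the two parts of a block. -/
theorem IsBlock.card_eq (hA : Closed S A) {V : Subgroup L} {k : L} (hb : IsBlock A D V k) :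
    Nat.card A = Nat.card D * Nat.card V := by
  rw [← Nat.card_prod]
  refine (Nat.card_eq_of_bijective (fun p : D × V => (⟨(p.1 : L) * p.2, mul_mem (hb.D_le p.1.2) (hb.V_le p.2.2)⟩ : A))
    ⟨fun p q h => ?_, fun x => ?_⟩).symm
  · have h' : (p.1 : L) * p.2 = q.1 * q.2 := congrArg Subtype.val h
    have hm : (q.1 : L)⁻¹ * p.1 ∈ D ⊓ V := by
      refine ⟨D.mul_mem (D.inv_mem q.1.2) p.1.2, ?_⟩
      rw [show (q.1 : L)⁻¹ * p.1 = q.2 * (p.2 : L)⁻¹ by
        rw [eq_mul_inv_iff_mul_eq, mul_assoc, h', inv_mul_cancel_left]]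
      exact V.mul_mem q.2.2 (V.inv_mem p.2.2)
    rw [hb.disjoint, Subgroup.mem_bot] at hm
    have e1 : (q.1 : L) = p.1 := inv_mul_eq_one.mp hm
    rw [e1] at h'
    exact Prod.ext (Subtype.ext e1.symm) (Subtype.ext (mul_left_cancel h'))
  · have hx : (x : L) ∈ D ⊔ V := by rw [hb.sup]; exact x.2
    have hN : V ≤ Subgroup.normalizer (D : Set L) := fun v hv => mem_normalizer_of_maps fun d hd => by
      rw [hA.comm (hb.V_le hv) (hb.D_le hd), mul_inv_cancel_right]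
      exact hd
    have hx' : (x : L) ∈ ((D ⊔ V : Subgroup L) : Set L) := hx
    rw [Subgroup.coe_mul_of_right_le_normalizer_left _ _ hN] at hx'
    obtain ⟨d, hd, v, hv, he⟩ := hx'
    exact ⟨(⟨d, hd⟩, ⟨v, hv⟩), Subtype.ext he⟩

/-- The orbit of a block under the normaliser of `A` is a family. -/
theorem Hyp.exists_family (h : Hyp L) (hA : Closed S A) (hD : Blocked A D) :
    ∃ (q : ℕ) (V : Subgroup L → Subgroup L),
      Family A q {D' | ∃ g ∈ Subgroup.normalizer (A : Set L), D.map (MulAut.conj g).toMonoidHom = D'} V ∧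
      Nat.card A = Nat.card D * q ∧ (q = 4 ∨ 8 ≤ q) ∧
      (∀ D', (∃ g ∈ Subgroup.normalizer (A : Set L), D.map (MulAut.conj g).toMonoidHom = D') →
        Blocked A D' ∧ ∃ k, IsBlock A D' (V D') k ∧ ∀ a ∈ A, k * a * k⁻¹ * a⁻¹ ∈ V D') := by
  classical
  have hex : ∀ D', Blocked A D' →
      ∃ V k, IsBlock A D' V k ∧ (∀ a ∈ A, k * a * k⁻¹ * a⁻¹ ∈ V) ∧ (Nat.card V = 4 ∨ 8 ≤ Nat.card V) :=
    fun D' hD' => h.exists_block hA hD'
  let V : Subgroup L → Subgroup L := fun D' => if hb : Blocked A D' then (hex D' hb).choose else ⊥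
  have hV : ∀ D', Blocked A D' → ∃ k, IsBlock A D' (V D') k ∧ (∀ a ∈ A, k * a * k⁻¹ * a⁻¹ ∈ V D') ∧
      (Nat.card (V D') = 4 ∨ 8 ≤ Nat.card (V D')) := by
    intro D' hD'
    simp only [V, dif_pos hD']
    exact (hex D' hD').choose_spec
  have hblk : ∀ D', (∃ g ∈ Subgroup.normalizer (A : Set L), D.map (MulAut.conj g).toMonoidHom = D') →
      Blocked A D' := by
    rintro _ ⟨g, hg, rfl⟩
    exact hD.conj hA hg
  obtain ⟨k, hk, -, hsize⟩ := hV D hD
  have hq : ∀ D', (∃ g ∈ Subgroup.normalizer (A : Set L), D.map (MulAut.conj g).toMonoidHom = D') →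
      Nat.card (V D') = Nat.card (V D) := by
    intro D' hD'
    obtain ⟨k', hk', -, -⟩ := hV D' (hblk D' hD')
    obtain ⟨g, -, rfl⟩ := hD'
    have e := hk'.card_eq hA
    rw [hk.card_eq hA, Subgroup.card_map_of_injective (MulAut.conj g).injective] at e
    exact (Nat.eq_of_mul_eq_mul_left Nat.card_pos e).symm
  refine ⟨Nat.card (V D), V, ⟨⟨D, 1, one_mem _, ?_⟩, fun D' hD' => ?_, ?_, ?_, ?_⟩, hk.card_eq hA, hsize,
    fun D' hD' => ⟨hblk D' hD', (hV D' (hblk D' hD')).imp fun _ h => ⟨h.1, h.2.1⟩⟩⟩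
  · ext x
    simp
  · obtain ⟨k', hk', -, -⟩ := hV D' (hblk D' hD')
    exact ⟨k', hk', hq D' hD'⟩
  · rintro _ ⟨g, hg, rfl⟩ g' hg'
    refine ⟨g' * g, mul_mem hg' hg, ?_⟩
    ext x
    simp [Subgroup.mem_map, mul_assoc]
  · rintro _ ⟨g, hg, rfl⟩ _ ⟨g', hg', rfl⟩
    refine ⟨g' * g⁻¹, mul_mem hg' (inv_mem hg), ?_⟩
    ext x
    simp [Subgroup.mem_map, mul_assoc]
  · intro D1 hD1 D2 hD2 hne hmeet
    obtain ⟨k1, hk1, hk1c, -⟩ := hV D1 (hblk D1 hD1)
    obtain ⟨k2, hk2, hk2c, -⟩ := hV D2 (hblk D2 hD2)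
    have hVle : ∀ {D1 D2 k2}, Blocked A D1 → Blocked A D2 → D1 ≠ D2 → D1 ⊓ D2 ≠ ⊥ →
        IsBlock A D2 (V D2) k2 → V D2 ≤ D1 := fun hb1 hb2 hne hmeet hk2 => h.le_of_meet hA hb1 hb2 hne hmeet hk2
    have h12 := hVle (hblk D1 hD1) (hblk D2 hD2) hne hmeet hk2
    have h21 := hVle (hblk D2 hD2) (hblk D1 hD1) hne.symm (by rwa [inf_comm]) hk1
    refine ⟨h12, h21, ?_⟩
    rw [eq_bot_iff]
    exact fun x hx => hk1.disjoint.le ⟨h12 hx.2, hx.1⟩

/-- B5: `C(a)` lies in every subgroup containing `O(C(a))`, the part of `N(A)` centralising `a` and lifts of the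
components. -/
theorem Hyp.cc_le (h : Hyp L) (hA : Closed S A) {a : L} (ha : a ∈ A) (ha1 : a ≠ 1) {M : Subgroup L}
    (hO : centralizerPPrimeCore 2 a ≤ M) (hN : Subgroup.normalizer (A : Set L) ⊓ cc a ≤ M)
    (hE : ∀ E : Subgroup (qq a), IsComponent E → E ≤ (M.subgroupOf (cc a)).map (ff a)) : cc a ≤ M := by
  haveI : Fact (Nat.Prime 2) := ⟨Nat.prime_two⟩
  obtain ⟨T, hT⟩ := hA.imA_closed ha
  have htop : (M.subgroupOf (cc a)).map (ff a) = ⊤ := by
    rw [eq_top_iff, ← (h.ctx ha1).layer_sup_normalizer hT]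
    refine sup_le (sSup_le fun E hE' => hE E hE') fun y hy => ?_
    obtain ⟨w, rfl⟩ := bar_surjective 2 y
    obtain ⟨w', hw', hwe⟩ := exists_centralizing_lift
      (hA.isPGroup.of_equiv (Subgroup.subgroupOfEquivOfLe (hA.le_cc ha)).symm) w hy
    refine ⟨w', hN ⟨mem_normalizer_of_maps fun x hx => ?_, w'.2⟩, hwe⟩
    exact (Subgroup.mem_normalizer_iff.mp hw' ⟨x, hA.mem_cc ha hx⟩).mp hx
  intro x hx
  obtain ⟨y, hy, hye⟩ : ff a ⟨x, hx⟩ ∈ (M.subgroupOf (cc a)).map (ff a) := htop ▸ Subgroup.mem_top _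
  have h1 : y⁻¹ * ⟨x, hx⟩ ∈ pPrimeCore 2 ↥(cc a) := QuotientGroup.eq.mp hye
  have h2 : ((y⁻¹ * ⟨x, hx⟩ : ↥(cc a)) : L) ∈ M := hO ⟨_, h1, rfl⟩
  have := mul_mem (show (y : L) ∈ M from hy) h2
  simpa using this

/-- When `A` centralises every component of `C(a)` modulo core, `A` lies in `O₂` there and is normal. -/
theorem Hyp.cc_le_of_central (h : Hyp L) (hA : Closed S A) {a : L} (ha : a ∈ A) (ha1 : a ≠ 1)
    (hc : ∀ E : Subgroup (qq a), IsComponent E → imA A a ≤ Subgroup.centralizer (E : Set (qq a)))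
    {x : L} (hx : x ∈ cc a) :
    ∃ o ∈ centralizerPPrimeCore 2 a, ∃ n ∈ Subgroup.normalizer (A : Set L) ⊓ cc a, o * n = x := by
  haveI : Fact (Nat.Prime 2) := ⟨Nat.prime_two⟩
  obtain ⟨T, hT⟩ := hA.imA_closed ha
  have hAQ : imA A a ≤ pCore 2 (qq a) := fun y hy =>
    (h.ctx ha1).centralizer_layer_le hT hy fun E hE => hc E hE hy
  have hnorm : ff a ⟨x, hx⟩ ∈ Subgroup.normalizer (imA A a : Set (qq a)) := mem_normalizer_of_maps fun y hy =>
    hT.closed.2 y hy _ ((CfsgLib.AfterFT.CoreSep.pCore_two_le_sylow T)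
      ((Subgroup.sSup_normal _ (fun _ h => h.1) : (pCore 2 (qq a)).Normal).conj_mem y (hAQ hy) _))
  obtain ⟨w', hw', hwe⟩ := exists_centralizing_lift
    (hA.isPGroup.of_equiv (Subgroup.subgroupOfEquivOfLe (hA.le_cc ha)).symm) ⟨x, hx⟩ hnorm
  have h1 : (⟨x, hx⟩ : ↥(cc a)) * w'⁻¹ ∈ pPrimeCore 2 ↥(cc a) := by
    rw [← QuotientGroup.eq_one_iff, ← QuotientGroup.mk'_apply, map_mul, map_inv]
    exact mul_inv_eq_one.mpr hwe.symm
  refine ⟨_, ⟨_, h1, rfl⟩, (w' : L), ⟨mem_normalizer_of_maps fun y hy =>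
    (Subgroup.mem_normalizer_iff.mp hw' ⟨y, hA.mem_cc ha hy⟩).mp hy, w'.2⟩, ?_⟩
  show x * (w' : L)⁻¹ * w' = x
  group

end CfsgLib.S3Simple
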