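import Cfsg.Agent.Lib.S3Simple.Many.KBlock
import Cfsg.Agent.Lib.S3Simple.Pair

/-!
Many blocks meeting pairwise: contradiction.

Blueprint: `blueprint/S3Free.md`, section 4.
-/

set_option autoImplicit false
set_option linter.unusedSectionVars false
set_option linter.style.haveILetI false

namespace CfsgLib.S3Simple

open Cfsg CfsgLib CfsgLib.Comp CfsgLib.AfterFT.CoreSep CfsgLib.Signalizer
open scoped commutatorElement

universe u

variable {L : Type u} [Group L] [Finite L] {S : Sylow 2 L} {A D D' : Subgroup L}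

/-- A hyperplane and a subgroup outside it generate. -/
theorem sup_eq_of_hyperplane {H K : Subgroup L} (hH : H ≤ A) (hi : H.relIndex A ≤ 2) (hK : K ≤ A)
    (hnot : ¬ K ≤ H) : H ⊔ K = A := by
  refine Subgroup.eq_of_le_of_card_ge (sup_le hH hK) ?_
  have hlt : Nat.card H < Nat.card ↥(H ⊔ K) := by
    refine lt_of_le_of_ne (Subgroup.card_le_of_le le_sup_left) fun e => hnot ?_
    exact le_sup_right.trans (Subgroup.eq_of_le_of_card_ge le_sup_left e.ge).ge
  obtain ⟨c, hc⟩ := Subgroup.card_dvd_of_le (le_sup_left : H ≤ H ⊔ K)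
  have hpos : 0 < Nat.card H := Nat.card_pos
  have h2 : 2 ≤ c := by
    by_contra h
    interval_cases c <;> omega
  exact (card_le_two_mul hH hi).trans (hc ▸ Nat.mul_le_mul_left _ h2)

/-- An element centralising two subgroups that generate `A` centralises `A`. -/
theorem mem_centralizer_of_sup {H K : Subgroup L} {x : L} (hA : H ⊔ K = A)
    (hx : x ∈ Subgroup.centralizer (H : Set L)) (hy : x ∈ Subgroup.centralizer (K : Set L)) :
    x ∈ Subgroup.centralizer (A : Set L) := by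
  have hle : A ≤ Subgroup.centralizer ({x} : Set L) := hA ▸ sup_le
    (fun h hh => Subgroup.mem_centralizer_singleton_iff.mpr (hx h hh))
    (fun h hh => Subgroup.mem_centralizer_singleton_iff.mpr (hy h hh))
  exact fun a ha => Subgroup.mem_centralizer_singleton_iff.mp (hle ha)

/-- An element of `O(C(a))` centralising a subgroup containing `a` lies in the core of the centraliser of it. -/
theorem core_inf_centralizer_le {H : Subgroup L} {a : L} (ha : a ∈ H) :
    centralizerPPrimeCore 2 a ⊓ Subgroup.centralizer (H : Set L) ≤ coreC H :=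
  core_fixed_le_coreC (A := H) ha

/-- A hyperplane together with an element of `A` outside it is centralised only by what centralises `A`. -/
theorem mem_centralizer_of_hyperplane {H : Subgroup L} {x a : L} (hH : H ≤ A) (hi : H.relIndex A ≤ 2)
    (ha : a ∈ A) (haH : a ∉ H) (hx : x ∈ Subgroup.centralizer (H : Set L)) (hxa : a * x = x * a) :
    x ∈ Subgroup.centralizer (A : Set L) := by
  refine mem_centralizer_of_sup (sup_eq_of_hyperplane hH hi (Subgroup.zpowers_le.mpr ha)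
    fun hle => haH (hle (Subgroup.mem_zpowers a))) hx ?_
  rw [CfsgLib.CharPLocal.centralizer_zpowers, Subgroup.mem_centralizer_singleton_iff]
  exact hxa.symm

theorem odd_order_coreC {H : Subgroup L} {w : L} (hw : w ∈ coreC H) : Odd (orderOf w) :=
  (odd_card_coreC H).of_dvd_nat (Subgroup.orderOf_dvd_natCard _ hw)

namespace Many

variable {e : ℕ}

/-- `O(C(H))` centralises `A` when every `D` contains `H` or generates `A` with it. -/
theorem coreC_le_centralizer (hm : Many A e) (h : Hyp L) (hA : Closed S A) (hW : gen e A = ⊥) {H : Subgroup L}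
    (hH : H ≤ A) (hHk : 2 ^ (e + 1) ≤ Nat.card H) (hblk : ∀ D, Blocked A D → H ≤ D ∨ H ⊔ D = A) :
    coreC H ≤ Subgroup.centralizer (A : Set L) := by
  haveI : Fact (Nat.Prime 2) := ⟨Nat.prime_two⟩
  intro w hw a ha
  have hwC : w ∈ Subgroup.centralizer (H : Set L) := coreC_centralizes H hw
  have haC : a ∈ Subgroup.centralizer (H : Set L) := fun x hx => hA.comm (hH hx) ha
  set c : L := ⁅w, a⁆ with hc
  have hcH : c ∈ coreC H := by
    rw [hc, commutatorElement_def, show w * a * w⁻¹ * a⁻¹ = w * (a * w⁻¹ * a⁻¹) by group]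
    exact mul_mem hw ((Subgroup.mem_normalizer_iff.mp (centralizer_le_normalizer_coreC H haC) _).mp (inv_mem hw))
  suffices hcore : ∀ y ∈ H, y ≠ 1 → c ∈ centralizerPPrimeCore 2 y by
    obtain ⟨B, hB, hBk⟩ := KFunctor.exists_sub (k := e + 1) hA.elem hH hHk
    have h1 : c ∈ gen e A := le_iSup
      (fun D : {D : Subgroup L // D ≤ A ∧ Nat.card ↥D = 2 ^ (e + 1)} => signalizerDelta 2 (D : Subgroup L))
      ⟨B, hB.trans hH, hBk⟩ (KFunctor.mem_delta.2 fun y hy hy1 => hcore y (hB hy) hy1)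
    rw [hW, Subgroup.mem_bot] at h1
    exact (commutatorElement_eq_one_iff_mul_comm.mp h1).symm
  intro y hy hy1
  have hHy : H ≤ cc y := fun x hx => hA.mem_cc (hH hy) (hH hx)
  have hwy : w ∈ cc y := AfterFT.CoreSep.mem_cc.mpr (hwC y hy).symm
  have hcy : c ∈ cc y := AfterFT.CoreSep.mem_cc.mpr ((coreC_centralizes H hcH) y hy).symm
  set R : Subgroup (qq y) := (H.subgroupOf (cc y)).map (ff y) with hR
  have hRp : IsPGroup 2 R :=
    ((hA.isPGroup.to_le hH).of_equiv (Subgroup.subgroupOfEquivOfLe hHy).symm).map _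
  have hO : pPrimeCore 2 (qq y) = ⊥ := pPrimeCore_quotient_eq_bot 2
  have hwR : ff y ⟨w, hwy⟩ ∈ coreC R := image_coreC hHy (hA.isPGroup.to_le hH) ⟨w, hwy⟩ hw
  have hcR : ff y ⟨c, hcy⟩ ∈ coreC R := image_coreC hHy (hA.isPGroup.to_le hH) ⟨c, hcy⟩ hcH
  refine mem_core_of_bar (w := ⟨c, hcy⟩) (eq_one_of_centralizes hO
    (odd_orderOf_map _ (by rw [Subgroup.orderOf_mk]; exact odd_order_coreC hcH)) (fun F hF => ?_)
    (coreC_centralizes_pCore hO hRp hcR))
  by_cases hcen : R ≤ Subgroup.centralizer (F : Set (qq y))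
  · exact CfsgLib.AfterFT.CoreSep.coreC_centralizes_component oddSolv hO hRp hF
      (Subgroup.le_centralizer_iff.mp hcen) hcR
  have hne : blockD A y F ≠ A := fun e0 => hcen fun z ⟨x, hx, hxz⟩ =>
    hxz ▸ ((mem_blockD x.2).mp (e0.symm ▸ hH hx)).2
  have hD : Blocked A (blockD A y F) := ⟨hne, y, hH hy, hy1, F, hF, rfl⟩
  rcases hblk _ hD with hle | hsup
  · exact absurd (fun z ⟨x, hx, hxz⟩ => hxz ▸ ((mem_blockD x.2).mp (hle hx)).2) hcen
  obtain ⟨u, hu, v, hv, hav⟩ := mem_sup_of_ea hA.elem hH (blockD_le y F) (show a ∈ H ⊔ blockD A y F from hsup.symm ▸ ha)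
  have hvy : v ∈ cc y := hA.mem_cc (hH hy) (blockD_le y F hv)
  obtain ⟨T, hT⟩ := hA.imA_closed (hH hy)
  have hwF : ff y ⟨w, hwy⟩ ∈ Subgroup.normalizer (F : Set (qq y)) := coreC_normalizes hO hRp hF hwR
  have huF : ff y ⟨u, hHy hu⟩ ∈ Subgroup.normalizer (F : Set (qq y)) :=
    (h.ctx hy1).closed_normalizes hT hF (mem_imA (hH hu) _)
  have e1 : c = u * ⁅w, v⁆ * u⁻¹ := by
    have e2 : w * u = u * w := (hwC u hu).symm
    rw [hc, hav, commutatorElement_def, commutatorElement_def]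
    calc w * (u * v) * w⁻¹ * (u * v)⁻¹ = (w * u) * v * w⁻¹ * v⁻¹ * u⁻¹ := by group
      _ = u * (w * v * w⁻¹ * v⁻¹) * u⁻¹ := by rw [e2]; group
  have e3 : ff y ⟨c, hcy⟩ = ff y ⟨u, hHy hu⟩ * ⁅ff y ⟨w, hwy⟩, ff y ⟨v, hvy⟩⁆ * (ff y ⟨u, hHy hu⟩)⁻¹ := by
    rw [← map_commutatorElement, ← map_inv, ← map_mul, ← map_mul]
    exact congrArg (ff y) (Subtype.ext e1)
  rw [e3]
  exact conj_mem_centralizer huF (comm_mem_centralizer hwF ((mem_blockD hvy).mp hv).2)

theorem le_or_sup (hm : Many A e) (hD : Blocked A D) : ∀ D', Blocked A D' → D ≤ D' ∨ D ⊔ D' = A := fun D' hD' => by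
  by_cases he : D = D'
  · exact Or.inl he.le
  · exact Or.inr (hm.sup D D' hD hD' he)

theorem coreC_block (hm : Many A e) (h : Hyp L) (hA : Closed S A) (hW : gen e A = ⊥) (hD : Blocked A D) :
    coreC D ≤ Subgroup.centralizer (A : Set L) :=
  hm.coreC_le_centralizer h hA hW hD.le ((Nat.pow_le_pow_right (by norm_num) (by omega)).trans (hm.big D hD))
    (hm.le_or_sup hD)

/-- The core part fixed by a hyperplane without `D`'s centralises `A`. -/
theorem fixed_of_no_block (hm : Many A e) (h : Hyp L) (hA : Closed S A) (hW : gen e A = ⊥) {H : Subgroup L}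
    (hH : H ≤ A) (hi : H.relIndex A ≤ 2) (hno : ∀ D, Blocked A D → ¬ D ≤ H) :
    coreC H ≤ Subgroup.centralizer (A : Set L) :=
  hm.coreC_le_centralizer h hA hW hH ((Nat.pow_le_pow_right (by norm_num) (by omega)).trans (hm.card_hyperplane hH hi))
    fun D' hD' => Or.inr (sup_eq_of_hyperplane hH hi hD'.le (hno D' hD'))

/-- `Δ(D ∩ D')` centralises `A`. -/
theorem delta_le_centralizer (hm : Many A e) (h : Hyp L) (hA : Closed S A) (hW : gen e A = ⊥)
    (hD : Blocked A D) (hD' : Blocked A D') (hne : D ≠ D') :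
    signalizerDelta 2 (D ⊓ D') ≤ Subgroup.centralizer (A : Set L) := by
  haveI : Fact (Nat.Prime 2) := ⟨Nat.prime_two⟩
  obtain ⟨d, hd, hd1⟩ := (D ⊓ D').bot_or_exists_ne_one.resolve_left (hm.meet D D' hD hD' hne)
  have hJA : D ⊓ D' ≤ A := inf_le_left.trans hD.le
  have hodd : ¬ 2 ∣ Nat.card (signalizerDelta 2 (D ⊓ D')) := fun h2 =>
    Nat.not_odd_iff_even.mpr (even_iff_two_dvd.mpr (h2.trans
      (Subgroup.card_dvd_of_le fun x hx => KFunctor.mem_delta.1 hx d hd hd1))) (odd_card_core d)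
  rw [gen_index hA.elem hodd (KFunctor.delta_normalizes hA.elem hJA)]
  refine iSup_le fun ⟨H, hH, hHi⟩ x ⟨hx, hxH⟩ => ?_
  by_cases hJH : D ⊓ D' ≤ H
  swap
  · obtain ⟨t, ht, htH⟩ := SetLike.not_le_iff_exists.mp hJH
    have ht1 : t ≠ 1 := fun e0 => htH (e0 ▸ one_mem H)
    exact mem_centralizer_of_hyperplane hH hHi (hJA ht) htH hxH
      (AfterFT.CoreSep.mem_cc.mp ((Subgroup.map_subtype_le _) (KFunctor.mem_delta.1 hx t ht ht1))).symm
  by_cases hblk : ∃ D'', Blocked A D'' ∧ D'' ≤ H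
  swap
  · push Not at hblk
    exact hm.fixed_of_no_block h hA hW hH hHi hblk
      (core_inf_centralizer_le (hJH hd) ⟨KFunctor.mem_delta.1 hx d hd hd1, hxH⟩)
  obtain ⟨D'', hD'', hD''H⟩ := hblk
  by_cases hcase : D'' = D ∨ D'' = D'
  · have hdD : d ∈ D'' := by
      rcases hcase with rfl | rfl
      · exact hd.1
      · exact hd.2
    exact hm.coreC_block h hA hW hD''
      (core_inf_centralizer_le hdD ⟨KFunctor.mem_delta.1 hx d hd hd1, Subgroup.centralizer_le hD''H hxH⟩)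
  · push Not at hcase
    have hle : A ≤ H := hm.triple D D' D'' hD hD' hD'' hne hcase.1 hcase.2 ▸ sup_le hJH hD''H
    exact Subgroup.centralizer_le hle hxH

theorem centralizer_KK (hm : Many A e) (h : Hyp L) (hA : Closed S A) (hW : gen e A = ⊥)
    (hD : Blocked A D) (hD' : Blocked A D') (hne : D ≠ D') :
    KK A D ≤ Subgroup.centralizer (signalizerDelta 2 (D ⊓ D') : Set L) := by
  haveI : Fact (Nat.Prime 2) := ⟨Nat.prime_two⟩
  set Δ := signalizerDelta 2 (D ⊓ D') with hΔ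
  set K := KK A D with hK
  set R := K ⊓ Subgroup.centralizer (Δ : Set L) with hR
  have hΔA := hm.delta_le_centralizer h hA hW hD hD' hne
  have hKN : K ≤ Subgroup.normalizer (Δ : Set L) := fun k hk => mem_normalizer_of_maps fun x hx => by
    have he : (D ⊓ D').map (MulAut.conj k).toMonoidHom = D ⊓ D' := by
      ext y
      rw [Subgroup.mem_map_equiv, MulAut.conj_symm_apply]
      constructor
      · intro hy
        have h1 := KK_le hk (k⁻¹ * y * k) hy.1
        have e2 : k⁻¹ * y * k = y := by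
          refine mul_right_cancel (b := k) ?_
          rw [h1]; group
        rwa [← e2]
      · intro hy
        rwa [show k⁻¹ * y * k = y by rw [mul_assoc, KK_le hk y hy.1, inv_mul_cancel_left]]
    have := conj_mem_delta k hx
    rwa [he] at this
  obtain ⟨d, hd, hd1⟩ := D.bot_or_exists_ne_one.resolve_left hD.ne_bot
  obtain ⟨E, hE, hb⟩ := h.blocked_at hA hD hd hd1
  have hdA := hD.le hd
  have hKd : K ≤ cc d := KK_le.trans (centralizer_le_cc hd)
  have hRd : R ≤ cc d := inf_le_left.trans hKd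
  set RE : Subgroup (qq d) := (R.subgroupOf (cc d)).map (ff d) with hRE
  have hREle : RE ≤ E := by
    rintro _ ⟨x, hx, rfl⟩
    exact KK_image hd hd1 hE hb (Subgroup.mem_inf.mp hx).1 x.2
  have hKR : ∀ k ∈ K, ∀ r ∈ R, k * r * k⁻¹ ∈ R := fun k hk r hr =>
    ⟨K.mul_mem (K.mul_mem hk hr.1) (K.inv_mem hk), conj_mem_centralizer (hKN hk) hr.2⟩
  have hcomm : ∀ k ∈ K, ∀ a ∈ A, ⁅k, a⁆ ∈ R := by
    intro k hk a ha
    have haΔ : a ∈ Subgroup.centralizer (Δ : Set L) := fun x hx => ((hΔA hx) a ha).symm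
    refine ⟨?_, ?_⟩
    · rw [commutatorElement_def, show k * a * k⁻¹ * a⁻¹ = k * (a * k⁻¹ * a⁻¹) by group]
      exact mul_mem hk ((Subgroup.mem_normalizer_iff.mp (h.A_le_normalizer_KK hA hD ha) _).mp (inv_mem hk))
    · rw [commutatorElement_def]
      exact Subgroup.mul_mem _ (conj_mem_centralizer (hKN hk) haΔ) (Subgroup.inv_mem _ haΔ)
  -- the image is a normal subgroup of the component that is not central
  haveI hn : (RE.subgroupOf E).Normal := by
    refine (Subgroup.normal_subgroupOf_iff_le_normalizer hREle).mpr fun z hz => mem_normalizer_of_maps ?_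
    rintro _ ⟨r, hr, rfl⟩
    obtain ⟨x, hx, hxd, rfl⟩ := h.KK_covers hA hD hd hd1 hE hb hz
    exact ⟨⟨x, hxd⟩ * r * ⟨x, hxd⟩⁻¹, hKR x hx r hr, by rw [map_mul, map_mul, map_inv]⟩
  have htop : RE.subgroupOf E = ⊤ := by
    refine (quasisimple_normal_le_center_or_eq_top hE.2 _).resolve_left fun hle => ?_
    refine not_le_centralizer hA hdA (hb.symm ▸ hD.1 : blockD A d E ≠ A) ?_
    rintro _ ⟨⟨a, hac⟩, ha, rfl⟩
    have h1 : ⁅E, Subgroup.zpowers (ff d ⟨a, hac⟩)⁆ ≤ (Subgroup.center ↥E).map E.subtype := by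
      rw [Subgroup.commutator_le]
      intro z hz t ht
      obtain ⟨i, rfl⟩ := ht
      obtain ⟨x, hx, hxd, rfl⟩ := h.KK_covers hA hD hd hd1 hE hb hz
      have hm' : ⁅ff d ⟨x, hxd⟩, ff d ⟨a, hac⟩ ^ i⁆ ∈ RE := by
        rw [← map_zpow, ← map_commutatorElement]
        exact ⟨_, hcomm x hx _ (A.zpow_mem ha i), rfl⟩
      exact ⟨⟨_, hREle hm'⟩, hle hm', rfl⟩
    have h2 : ⁅⁅E, Subgroup.zpowers (ff d ⟨a, hac⟩)⁆, E⁆ = ⊥ := by
      rw [Subgroup.commutator_eq_bot_iff_le_centralizer]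
      refine h1.trans ?_
      rintro _ ⟨c, hc, rfl⟩ y hy
      exact congrArg Subtype.val (Subgroup.mem_center_iff.mp hc ⟨y, hy⟩)
    have h4 := Subgroup.commutator_commutator_eq_bot_of_rotate (H₁ := E) (H₂ := E)
      (H₃ := Subgroup.zpowers (ff d ⟨a, hac⟩)) h2
      (by rwa [Subgroup.commutator_comm (Subgroup.zpowers (ff d ⟨a, hac⟩)) E])
    rw [isComponent_commutator_self hE] at h4
    exact fun y hy => comm_of_commutator_eq_bot h4 hy (Subgroup.mem_zpowers _)
  -- a perfect group with this image is inside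
  have hsolv : Group.IsSolvable ↥(K ⊓ centralizerPPrimeCore 2 d) :=
    oddSolv _ (odd_of_le inf_le_right (odd_card_core d))
  refine le_trans (perfect_le_of_sup (X := R) (N := K ⊓ centralizerPPrimeCore 2 d) KK_perfect (fun k hk => ?_)
    fun z hz => mem_normalizer_of_maps (hKR z hz.1)) inf_le_right
  obtain ⟨r, hr, hre⟩ : ff d ⟨k, hKd hk⟩ ∈ RE :=
    (Subgroup.subgroupOf_eq_top.mp htop) (KK_image hd hd1 hE hb hk (hKd hk))
  have hker : ff d (r⁻¹ * ⟨k, hKd hk⟩) = 1 := by rw [map_mul, map_inv, hre, inv_mul_cancel]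
  have := Subgroup.mul_mem_sup (show (r : L) ∈ R from hr)
    (show ((r⁻¹ * ⟨k, hKd hk⟩ : ↥(cc d)) : L) ∈ K ⊓ centralizerPPrimeCore 2 d from
      ⟨K.mul_mem (K.inv_mem (Subgroup.mem_inf.mp hr).1) hk, mem_core_of_bar hker⟩)
  simpa using this

/-- The groups over two blocks commute. -/
theorem commute_KK (hm : Many A e) (h : Hyp L) (hA : Closed S A) (hW : gen e A = ⊥)
    (hD : Blocked A D) (hD' : Blocked A D') (hne : D ≠ D') : ⁅KK A D, KK A D'⁆ = ⊥ := by
  haveI : Fact (Nat.Prime 2) := ⟨Nat.prime_two⟩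
  have hN : ⁅KK A D, KK A D'⁆ ≤ signalizerDelta 2 (D ⊓ D') := by
    rw [Subgroup.commutator_le]
    intro x hx y hy
    refine KFunctor.mem_delta.2 fun d hd hd1 => ?_
    obtain ⟨E, hE, hb⟩ := h.blocked_at hA hD hd.1 hd1
    obtain ⟨E', hE', hb'⟩ := h.blocked_at hA hD' hd.2 hd1
    have hxd := centralizer_le_cc hd.1 (KK_le hx)
    have hyd := centralizer_le_cc hd.2 (KK_le hy)
    refine mem_core_of_bar (w := ⁅(⟨x, hxd⟩ : ↥(cc d)), ⟨y, hyd⟩⁆) ?_
    rw [map_commutatorElement, commutatorElement_eq_one_iff_mul_comm]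
    exact comm_of_commutator_eq_bot ((components_eq_or_commute hE hE').resolve_left fun e0 => hne
      (by rw [← hb, ← hb', e0])) (KK_image hd.1 hd1 hE hb hx hxd) (KK_image hd.2 hd1 hE' hb' hy hyd)
  have hc := hm.centralizer_KK h hA hW hD hD' hne
  have h1 : ⁅⁅KK A D, KK A D'⁆, KK A D⁆ = ⊥ := by
    rw [Subgroup.commutator_eq_bot_iff_le_centralizer]
    exact hN.trans (Subgroup.le_centralizer_iff.mp hc)
  have h4 := Subgroup.commutator_commutator_eq_bot_of_rotate (H₁ := KK A D) (H₂ := KK A D) (H₃ := KK A D')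
    h1 (by rwa [Subgroup.commutator_comm (KK A D') (KK A D)])
  rwa [KK_perfect] at h4

/-- The subgroup generated by all the perfect groups. -/
def total (A : Subgroup L) : Subgroup L := ⨆ D : {D : Subgroup L // Blocked A D}, KK A (D : Subgroup L)

theorem KK_le_total (hD : Blocked A D) : KK A D ≤ total A :=
  le_iSup (fun D : {D : Subgroup L // Blocked A D} => KK A (D : Subgroup L)) ⟨D, hD⟩

theorem normalizer_le_total (h : Hyp L) (hA : Closed S A) :
    Subgroup.normalizer (A : Set L) ≤ Subgroup.normalizer (total A : Set L) := fun g hg =>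
  mem_normalizer_of_maps fun x hx => by
    have hle : total A ≤ (total A).comap (MulAut.conj g).toMonoidHom :=
      iSup_le fun D y hy => KK_le_total (D.2.conj hA hg) (h.conj_mem_KK hA D.2 hg hy)
    exact hle hx

theorem total_ne_bot (hm : Many A e) (h : Hyp L) (hA : Closed S A) : total A ≠ ⊥ := fun e0 => by
  obtain ⟨D, hD⟩ := hm.exists_blocked
  obtain ⟨d, hd, hd1⟩ := D.bot_or_exists_ne_one.resolve_left hD.ne_bot
  obtain ⟨E, hE, hb⟩ := h.blocked_at hA hD hd hd1
  haveI := component_isSimple hE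
  refine component_not_comm hE ⟨⟨fun x y => ?_⟩⟩
  obtain ⟨x', rfl⟩ := QuotientGroup.mk'_surjective _ x
  obtain ⟨z, hz, hzd, hze⟩ := h.KK_covers hA hD hd hd1 hE hb x'.2
  obtain rfl : z = 1 := Subgroup.mem_bot.mp (e0 ▸ KK_le_total hD hz)
  have hx1 : x' = 1 := Subtype.ext (hze.symm.trans (map_one (ff d)))
  rw [hx1, map_one, one_mul, mul_one]

theorem total_ne_top (hm : Many A e) (h : Hyp L) (hA : Closed S A) (hW : gen e A = ⊥) : total A ≠ ⊤ := fun e0 => by
  haveI := h.simple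
  obtain ⟨D, hD⟩ := hm.exists_blocked
  have hN : total A ≤ Subgroup.normalizer (KK A D : Set L) := iSup_le fun D' => by
    by_cases he : D = (D' : Subgroup L)
    · rw [← he]; exact Subgroup.le_normalizer
    · exact fun y hy => mem_normalizer_of_maps fun x hx => by
        rw [← comm_of_commutator_eq_bot (hm.commute_KK h hA hW hD D'.2 he) hx hy, mul_inv_cancel_right]
        exact hx
  rw [e0, top_le_iff] at hN
  rcases (Subgroup.normalizer_eq_top_iff.mp hN).eq_bot_or_eq_top with hb | ht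
  · obtain ⟨d, hd, hd1⟩ := D.bot_or_exists_ne_one.resolve_left hD.ne_bot
    obtain ⟨E, hE, hbE⟩ := h.blocked_at hA hD hd hd1
    refine component_not_comm hE ⟨⟨fun x y => ?_⟩⟩
    obtain ⟨x', rfl⟩ := QuotientGroup.mk'_surjective _ x
    obtain ⟨z, hz, hzd, hze⟩ := h.KK_covers hA hD hd hd1 hE hbE x'.2
    obtain rfl : z = 1 := Subgroup.mem_bot.mp (hb ▸ hz)
    have hx1 : x' = 1 := Subtype.ext (hze.symm.trans (map_one (ff d)))
    rw [hx1, map_one, one_mul, mul_one]
  · obtain ⟨d, hd, hd1⟩ := D.bot_or_exists_ne_one.resolve_left hD.ne_bot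
    exact h.cc_ne_top hd1 (top_le_iff.mp (ht ▸ KK_le.trans (centralizer_le_cc hd)))

/-- The commutators with `A` of the part of `O(C(a))` fixed by a hyperplane. -/
theorem commutator_mem (hm : Many A e) (h : Hyp L) (hA : Closed S A) (hW : gen e A = ⊥) {H : Subgroup L}
    (hH : H ≤ A) (hD : Blocked A D) (hDH : D ≤ H) {x a : L} (hx : x ∈ coreC H) (ha : a ∈ A) :
    ⁅x, a⁆ ∈ Subgroup.normalizer (total A : Set L) := by
  haveI : Fact (Nat.Prime 2) := ⟨Nat.prime_two⟩
  obtain ⟨d, hd, hd1⟩ := D.bot_or_exists_ne_one.resolve_left hD.ne_bot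
  obtain ⟨E, hE, hb⟩ := h.blocked_at hA hD hd hd1
  have hdA := hD.le hd
  have hHd : H ≤ cc d := fun y hy => hA.mem_cc hdA (hH hy)
  have hxC : x ∈ Subgroup.centralizer (H : Set L) := coreC_centralizes H hx
  have haC : a ∈ Subgroup.centralizer (H : Set L) := fun y hy => hA.comm (hH hy) ha
  have hcC : ⁅x, a⁆ ∈ Subgroup.centralizer (D : Set L) := Subgroup.centralizer_le hDH (by
    rw [commutatorElement_def]
    exact Subgroup.mul_mem _ (Subgroup.mul_mem _ (Subgroup.mul_mem _ hxC haC) (Subgroup.inv_mem _ hxC))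
      (Subgroup.inv_mem _ haC))
  have hxd : x ∈ cc d := centralizer_le_cc (hDH hd) hxC
  have had : a ∈ cc d := hA.mem_cc hdA ha
  set R : Subgroup (qq d) := (H.subgroupOf (cc d)).map (ff d) with hR
  have hRp : IsPGroup 2 R :=
    ((hA.isPGroup.to_le hH).of_equiv (Subgroup.subgroupOfEquivOfLe hHd).symm).map _
  have hxN : ff d ⟨x, hxd⟩ ∈ Subgroup.normalizer (E : Set (qq d)) :=
    coreC_normalizes (pPrimeCore_quotient_eq_bot 2) hRp hE (image_coreC hHd (hA.isPGroup.to_le hH) ⟨x, hxd⟩ hx)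
  obtain ⟨T, hT⟩ := hA.imA_closed hdA
  obtain ⟨Vb, kb, hVb⟩ := (h.ctx hd1).exists_compBlock hT hE (not_le_centralizer hA hdA (hb.symm ▸ hD.1))
  obtain ⟨δ, hδ, v, hv, hav⟩ := hVb.split (fun p hp q hq => hT.comm hp hq) (mem_imA ha had)
  obtain ⟨t, ht, rfl⟩ := hδ.1
  have htD : (t : L) ∈ D := hb ▸ (mem_blockD t.2).mpr ⟨ht, hδ.2⟩
  have htx : ff d ⟨x, hxd⟩ * ff d t = ff d t * ff d ⟨x, hxd⟩ := by
    rw [← map_mul, ← map_mul]
    exact congrArg _ (Subtype.ext (hxC t (hDH htD)).symm)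
  have hcE : ff d ⟨⁅x, a⁆, centralizer_le_cc hd hcC⟩ ∈ E := by
    have e1 : ff d ⟨⁅x, a⁆, centralizer_le_cc hd hcC⟩ = ⁅ff d ⟨x, hxd⟩, ff d ⟨a, had⟩⁆ := by
      rw [← map_commutatorElement]; exact congrArg _ (Subtype.ext rfl)
    rw [e1, ← hav]
    have hw : ⁅ff d ⟨x, hxd⟩, v⁆ ∈ E := by
      rw [commutatorElement_def]
      exact E.mul_mem ((Subgroup.mem_normalizer_iff.mp hxN v).mp (hVb.V_le hv).2) (E.inv_mem (hVb.V_le hv).2)
    have e2 : ⁅ff d ⟨x, hxd⟩, ff d t * v⁆ = ff d t * ⁅ff d ⟨x, hxd⟩, v⁆ * (ff d t)⁻¹ := by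
      rw [commutatorElement_def, commutatorElement_def]
      calc ff d ⟨x, hxd⟩ * (ff d t * v) * (ff d ⟨x, hxd⟩)⁻¹ * (ff d t * v)⁻¹
          = (ff d ⟨x, hxd⟩ * ff d t) * v * (ff d ⟨x, hxd⟩)⁻¹ * v⁻¹ * (ff d t)⁻¹ := by group
        _ = ff d t * (ff d ⟨x, hxd⟩ * v * (ff d ⟨x, hxd⟩)⁻¹ * v⁻¹) * (ff d t)⁻¹ := by rw [htx]; group
    rw [e2, ← hδ.2 _ hw, mul_inv_cancel_right]
    exact hw
  obtain ⟨z, hz, hzd, hze⟩ := h.KK_covers hA hD hd hd1 hE hb hcE
  have hzc : z⁻¹ * ⁅x, a⁆ ∈ coreC D := core_inf_centralizer_le hd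
    ⟨mem_core_of_bar (w := (⟨z, hzd⟩ : ↥(cc d))⁻¹ * ⟨⁅x, a⁆, centralizer_le_cc hd hcC⟩)
      (by rw [map_mul, map_inv, hze, inv_mul_cancel]),
      Subgroup.mul_mem _ (Subgroup.inv_mem _ (KK_le hz)) hcC⟩
  have hzN : z ∈ Subgroup.normalizer (total A : Set L) := Subgroup.le_normalizer (KK_le_total hD hz)
  have := Subgroup.mul_mem _ hzN (normalizer_le_total h hA
    (Subgroup.centralizer_le_normalizer _ (hm.coreC_block h hA hW hD hzc)))
  rwa [mul_inv_cancel_left] at this

theorem core_le_total (hm : Many A e) (h : Hyp L) (hA : Closed S A) (hW : gen e A = ⊥) {a : L} (ha : a ∈ A) :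
    centralizerPPrimeCore 2 a ≤ Subgroup.normalizer (total A : Set L) := by
  haveI : Fact (Nat.Prime 2) := ⟨Nat.prime_two⟩
  have hAO : A ≤ Subgroup.normalizer (centralizerPPrimeCore 2 a : Set L) := fun g hg =>
    cc_le_normalizer_core a (hA.mem_cc ha hg)
  have hodd : ¬ 2 ∣ Nat.card (centralizerPPrimeCore 2 a) := fun h2 =>
    Nat.not_odd_iff_even.mpr (even_iff_two_dvd.mpr h2) (odd_card_core a)
  rw [gen_index hA.elem hodd hAO]
  refine iSup_le fun ⟨H, hH, hHi⟩ => ?_
  show centralizerPPrimeCore 2 a ⊓ Subgroup.centralizer (H : Set L) ≤ _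
  have hCA : Subgroup.centralizer (A : Set L) ≤ Subgroup.normalizer (total A : Set L) :=
    (Subgroup.centralizer_le_normalizer _).trans (normalizer_le_total h hA)
  by_cases haH : a ∈ H
  swap
  · exact fun x hx => hCA (mem_centralizer_of_hyperplane hH hHi ha haH hx.2
      (AfterFT.CoreSep.mem_cc.mp ((Subgroup.map_subtype_le _) hx.1)).symm)
  by_cases hblk : ∃ D, Blocked A D ∧ D ≤ H
  swap
  · push Not at hblk
    exact fun x hx => hCA (hm.fixed_of_no_block h hA hW hH hHi hblk (core_inf_centralizer_le haH hx))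
  obtain ⟨D, hD, hDH⟩ := hblk
  by_cases hAH : A ≤ H
  · exact fun x hx => hCA (Subgroup.centralizer_le hAH hx.2)
  obtain ⟨t, ht, htH⟩ := SetLike.not_le_iff_exists.mp hAH
  intro z hz
  have hN : Subgroup.zpowers t ≤
      Subgroup.normalizer ((centralizerPPrimeCore 2 a ⊓ Subgroup.centralizer (H : Set L) : Subgroup L) : Set L) :=
    (Subgroup.zpowers_le.mpr ht).trans (inf_normalizes hAO (le_normalizer_centralizer hA.elem hH))
  have hcop : (Nat.card (Subgroup.zpowers t)).Coprime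
      (Nat.card ↥(centralizerPPrimeCore 2 a ⊓ Subgroup.centralizer (H : Set L))) := by
    rw [Nat.card_zpowers, hA.orderOf_eq_two ht fun e0 => htH (e0 ▸ one_mem H)]
    exact Nat.coprime_two_left.mpr (odd_of_le inf_le_left (odd_card_core a))
  haveI := (zpowers_two (hA.sq ht)).isNilpotent
  obtain ⟨c, hc, f, hf, rfl⟩ := coprime_decomp hN hcop (Or.inl inferInstance) (k := z) hz
  refine Subgroup.mul_mem _ ?_ (hCA (mem_centralizer_of_hyperplane hH hHi ht htH hf.1.2
    (hf.2 t (Subgroup.mem_zpowers t))))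
  have hle : ⁅centralizerPPrimeCore 2 a ⊓ Subgroup.centralizer (H : Set L), Subgroup.zpowers t⁆ ≤
      Subgroup.normalizer (total A : Set L) := by
    rw [Subgroup.commutator_le]
    exact fun x hx u hu => hm.commutator_mem h hA hW hH hD hDH (core_inf_centralizer_le haH hx)
      (Subgroup.zpowers_le.mpr ht hu)
  exact hle hc

/-- Section 4: there cannot be many blocks. -/
theorem false (hm : Many A e) (h : Hyp L) (hA : Closed S A) : False := by
  haveI : Fact (Nat.Prime 2) := ⟨Nat.prime_two⟩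
  have hcomp : ∀ M : Subgroup L, Subgroup.normalizer (A : Set L) ≤ M →
      (∀ D, Blocked A D → KK A D ≤ M) → ∀ a ∈ A, a ≠ 1 → ∀ E : Subgroup (qq a), IsComponent E →
      E ≤ (M.subgroupOf (cc a)).map (ff a) := by
    intro M hN hK a ha ha1 E hE
    by_cases hc : imA A a ≤ Subgroup.centralizer (E : Set (qq a))
    · exact central_component_le hA ha hc (inf_le_left.trans hN)
    have hD : Blocked A (blockD A a E) := by
      refine ⟨fun e0 => hc ?_, a, ha, ha1, E, hE, rfl⟩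
      rintro _ ⟨⟨x, hx⟩, hxA, rfl⟩
      exact ((mem_blockD hx).mp (e0.symm ▸ hxA)).2
    intro y hy
    obtain ⟨x, hx, hxa, rfl⟩ := h.KK_covers hA hD (self_mem_blockD ha E) ha1 hE rfl hy
    exact ⟨⟨x, hxa⟩, hK _ hD hx, rfl⟩
  by_cases hW : gen e A = ⊥
  · refine h.false_of_le hA (h.normalizer_ne_top (hm.total_ne_bot h hA) (hm.total_ne_top h hA hW))
      fun a ha ha1 => h.cc_le hA ha ha1 (hm.core_le_total h hA hW ha)
        (inf_le_left.trans (normalizer_le_total h hA)) ?_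
    exact hcomp _ (normalizer_le_total h hA) (fun D hD => (KK_le_total hD).trans Subgroup.le_normalizer) a ha ha1
  · have hgenH : ∀ H, H ≤ A → 2 ^ (e + 2) ≤ Nat.card H →
        Subgroup.centralizer (H : Set L) ≤ Subgroup.normalizer (gen e A : Set L) := by
      intro H hH hHk x hx
      have he : gen e A = gen e H := le_antisymm (hm.gen_le hA hH hHk) (iSup_le fun D => le_iSup
        (fun D : {D : Subgroup L // D ≤ A ∧ Nat.card ↥D = 2 ^ (e + 1)} => signalizerDelta 2 (D : Subgroup L))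
        ⟨D, D.2.1.trans hH, D.2.2⟩)
      rw [he]
      refine normalizes_gen ?_
      rintro _ ⟨y, hy, rfl⟩
      show x * y * x⁻¹ ∈ H
      rw [← hx y hy, mul_inv_cancel_right]
      exact hy
    have hN : Subgroup.normalizer (A : Set L) ≤ Subgroup.normalizer (gen e A : Set L) := fun g hg =>
      normalizes_gen (by
        rintro _ ⟨y, hy, rfl⟩
        exact (Subgroup.mem_normalizer_iff.mp hg y).mp hy)
    refine h.false_of_le hA (h.normalizer_ne_top hW (hA.ne_top_of_odd (hm.odd_gen hA)))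
      fun a ha ha1 => h.cc_le hA ha ha1 ?_ (inf_le_left.trans hN) ?_
    · rw [gen_index hA.elem (fun h2 => Nat.not_odd_iff_even.mpr (even_iff_two_dvd.mpr h2) (odd_card_core a))
        (fun g hg => cc_le_normalizer_core a (hA.mem_cc ha hg))]
      exact iSup_le fun H => inf_le_right.trans (hgenH H H.2.1 (hm.card_hyperplane H.2.1 H.2.2))
    · exact hcomp _ hN (fun D hD => KK_le.trans (hgenH D hD.le (hm.big D hD))) a ha ha1

end Many

end CfsgLib.S3Simple
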