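import Cfsg.Agent.Lib.S3Simple.Setup

/-!
`|A| = 4` and `A ≠ A₀`: contradiction.

Blueprint: `blueprint/S3Free.md`, 6.2.
-/

set_option autoImplicit false
set_option linter.unusedSectionVars false
set_option linter.style.haveILetI false

namespace CfsgLib.S3Simple

open Cfsg CfsgLib CfsgLib.Comp CfsgLib.AfterFT.CoreSep CfsgLib.Signalizer
open scoped commutatorElement

universe u

variable {L : Type u} [Group L] [Finite L] {S : Sylow 2 L} {A A₀ D V : Subgroup L}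

/-- The element of a block fixes no non-identity element of `V`. -/
theorem IsBlock.eq_one_of_fixed {k v : L} (hk : IsBlock A D V k) (hv : v ∈ V) (hf : k * v * k⁻¹ = v) : v = 1 := by
  classical
  by_contra hv1
  obtain ⟨w, hw, hw1, hwv⟩ : ∃ w ∈ V, w ≠ 1 ∧ w ≠ v := by
    by_contra hcon
    push Not at hcon
    have h4 := hk.four_le
    have : Nat.card V ≤ Nat.card Bool := by
      refine Nat.card_le_card_of_injective (fun z : V => decide ((z : L) = 1)) fun p r hpr => Subtype.ext ?_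
      have h' := decide_eq_decide.mp hpr
      by_cases hp : (p : L) = 1
      · rw [hp, h'.mp hp]
      · rw [hcon p p.2 hp, hcon r r.2 fun hr => hp (h'.mpr hr)]
    rw [Nat.card_eq_fintype_card (α := Bool), Fintype.card_bool] at this
    omega
  obtain ⟨i, hi⟩ := hk.trans v hv hv1 w hw hw1
  rw [(Commute.pow_left (show Commute k v from mul_inv_eq_iff_eq_mul.mp hf) i).eq, mul_inv_cancel_right] at hi
  exact hwv hi.symm

/-- In a four-group the third non-identity element is the product of the other two. -/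
theorem four_third (h4 : Nat.card A = 4) {a b c : L} (ha : a ∈ A) (hb : b ∈ A) (hc : c ∈ A) (ha1 : a ≠ 1)
    (hb1 : b ≠ 1) (hab : a ≠ b) (hsq : ∀ x ∈ A, x * x = 1) (hc1 : c ≠ 1) (hca : c ≠ a) (hcb : c ≠ b) :
    c = a * b := by
  classical
  by_contra hne
  haveI : Fintype A := Fintype.ofFinite _
  have hab1 : a * b ≠ 1 := fun e => hab ((mul_eq_one_iff_eq_inv.mp e).trans (inv_eq_of_mul_eq_one_right (hsq b hb)))
  have h5 : ({1, ⟨a, ha⟩, ⟨b, hb⟩, ⟨a * b, mul_mem ha hb⟩, ⟨c, hc⟩} : Finset A).card = 5 := by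
    rw [Finset.card_insert_of_notMem, Finset.card_insert_of_notMem, Finset.card_insert_of_notMem,
      Finset.card_insert_of_notMem, Finset.card_singleton]
    all_goals simp only [Finset.mem_insert, Finset.mem_singleton, Subtype.ext_iff, Subgroup.coe_one, not_or]
    · exact Ne.symm hne
    · exact ⟨fun e => ha1 (mul_eq_right.mp e.symm), Ne.symm hcb⟩
    · exact ⟨hab, fun e => hb1 (mul_eq_left.mp e.symm), Ne.symm hca⟩
    · exact ⟨Ne.symm ha1, Ne.symm hb1, Ne.symm hab1, Ne.symm hc1⟩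
  have := Finset.card_le_univ ({1, ⟨a, ha⟩, ⟨b, hb⟩, ⟨a * b, mul_mem ha hb⟩, ⟨c, hc⟩} : Finset A)
  rw [h5, ← Nat.card_eq_fintype_card, h4] at this
  omega

/-- Two automorphisms of a four-group without fixed points commute. -/
theorem four_commute (h4 : Nat.card A = 4) (hsq : ∀ x ∈ A, x * x = 1) {k k' : L}
    (hk : ∀ x ∈ A, k * x * k⁻¹ ∈ A) (hk' : ∀ x ∈ A, k' * x * k'⁻¹ ∈ A)
    (hf : ∀ x ∈ A, k * x * k⁻¹ = x → x = 1) (hf' : ∀ x ∈ A, k' * x * k'⁻¹ = x → x = 1) {a : L} (ha : a ∈ A) :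
    k * (k' * a * k'⁻¹) * k⁻¹ = k' * (k * a * k⁻¹) * k'⁻¹ := by
  by_cases ha1 : a = 1
  · subst ha1; simp
  have hcomm : ∀ x ∈ A, ∀ y ∈ A, x * y = y * x := fun x hx y hy => by
    calc x * y = x * (x * y * (x * y)) * y := by rw [hsq _ (mul_mem hx hy), mul_one]
      _ = x * x * (y * x) * (y * y) := by group
      _ = y * x := by rw [hsq x hx, hsq y hy, one_mul, mul_one]
  -- the square of such a map
  have hsq2 : ∀ {m : L}, (∀ x ∈ A, m * x * m⁻¹ ∈ A) → (∀ x ∈ A, m * x * m⁻¹ = x → x = 1) →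
      m * (m * a * m⁻¹) * m⁻¹ = a * (m * a * m⁻¹) := by
    intro m hm hfm
    set b := m * a * m⁻¹ with hb
    have hbA : b ∈ A := hm a ha
    have hb1 : b ≠ 1 := fun e => ha1 (conj_eq_one_iff.mp e)
    have hab : a ≠ b := fun e => ha1 (hfm a ha e.symm)
    refine four_third h4 ha hbA (hm b hbA) ha1 hb1 hab hsq (fun e => hb1 (conj_eq_one_iff.mp e)) (fun e => ?_)
      fun e => hb1 (hfm b hbA e)
    have h1 : m * (a * b) * m⁻¹ = a * b := by
      rw [show m * (a * b) * m⁻¹ = m * a * m⁻¹ * (m * b * m⁻¹) by group, ← hb, e, hcomm b hbA a ha]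
    exact hab ((mul_eq_one_iff_eq_inv.mp (hfm _ (mul_mem ha hbA) h1)).trans
      (inv_eq_of_mul_eq_one_right (hsq b hbA)))
  have e1 := hsq2 hk hf
  have e2 := hsq2 hk' hf'
  by_cases he : k * a * k⁻¹ = k' * a * k'⁻¹
  · conv_lhs => rw [← he, e1, he]
    conv_rhs => rw [he, e2]
  · set b := k * a * k⁻¹ with hb
    set c := k' * a * k'⁻¹ with hc
    have hb1 : b ≠ 1 := fun e => ha1 (conj_eq_one_iff.mp e)
    have hc1 : c ≠ 1 := fun e => ha1 (conj_eq_one_iff.mp e)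
    have hab : a ≠ b := fun e => ha1 (hf a ha e.symm)
    have hac : a ≠ c := fun e => ha1 (hf' a ha e.symm)
    have hcab : c = a * b := four_third h4 ha (hk a ha) (hk' a ha) ha1 hb1 hab hsq hc1 hac.symm (Ne.symm he)
    have hbac : b = a * c := four_third h4 ha (hk' a ha) (hk a ha) ha1 hc1 hac hsq hb1 hab.symm he
    have l1 : k * c * k⁻¹ = a :=
      calc k * c * k⁻¹ = k * a * k⁻¹ * (k * b * k⁻¹) := by rw [hcab]; group
        _ = b * (a * b) := by rw [← hb, e1]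
        _ = a := by rw [← mul_assoc, hcomm b (hk a ha) a ha, mul_assoc, hsq b (hk a ha), mul_one]
    have l2 : k' * b * k'⁻¹ = a :=
      calc k' * b * k'⁻¹ = k' * a * k'⁻¹ * (k' * c * k'⁻¹) := by rw [hbac]; group
        _ = c * (a * c) := by rw [← hc, e2]
        _ = a := by rw [← mul_assoc, hcomm c (hk' a ha) a ha, mul_assoc, hsq c (hk' a ha), mul_one]
    rw [l1, l2]

/-- What fixes `A` pointwise and moves `A₀` inside `A` acts on `A₀` like an element of the Sylow subgroup. -/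
theorem fixes_central (hA₀ : Closed S A₀) (hAle : A ≤ A₀)
    (hN : Subgroup.normalizer (A₀ : Set L) ≤ Subgroup.normalizer (A : Set L)) {c z : L}
    (hc : c ∈ Subgroup.normalizer (A₀ : Set L)) (hcA : ∀ a ∈ A, c * a * c⁻¹ = a)
    (hcm : ∀ y ∈ A₀, c * y * c⁻¹ * y⁻¹ ∈ A) (hz : z ∈ A₀)
    (hzc : ∀ s ∈ (S : Subgroup L), z * s = s * z) : c * z * c⁻¹ = z := by
  classical
  haveI : Fact (Nat.Prime 2) := ⟨Nat.prime_two⟩
  set N0 := Subgroup.normalizer (A₀ : Set L) with hN0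
  let ρ : N0 →* MulAut A₀ := A₀.normalizerMonoidHom
  have hρ : ∀ (g : N0) (y : A₀), ((ρ g y : A₀) : L) = (g : L) * y * (g : L)⁻¹ := fun _ _ => rfl
  let K0 : Subgroup N0 :=
    { carrier := {g | (∀ a ∈ A, (g : L) * a * (g : L)⁻¹ = a) ∧ ∀ y ∈ A₀, (g : L) * y * (g : L)⁻¹ * y⁻¹ ∈ A}
      one_mem' := ⟨fun a _ => by simp, fun y _ => by simp [one_mem]⟩
      mul_mem' := by
        rintro g g' ⟨h1, h2⟩ ⟨h1', h2'⟩
        refine ⟨fun a ha => ?_, fun y hy => ?_⟩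
        · show (g : L) * g' * a * ((g : L) * g')⁻¹ = a
          rw [show (g : L) * g' * a * ((g : L) * g')⁻¹ = g * (g' * a * (g' : L)⁻¹) * (g : L)⁻¹ by group,
            h1' a ha, h1 a ha]
        · have hy' : (g' : L) * y * (g' : L)⁻¹ ∈ A₀ := (Subgroup.mem_normalizer_iff.mp g'.2 y).mp hy
          show (g : L) * g' * y * ((g : L) * g')⁻¹ * y⁻¹ ∈ A
          rw [show (g : L) * g' * y * ((g : L) * g')⁻¹ * y⁻¹ =
            ((g : L) * (g' * y * (g' : L)⁻¹) * (g : L)⁻¹ * ((g' : L) * y * (g' : L)⁻¹)⁻¹) *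
              ((g' : L) * y * (g' : L)⁻¹ * y⁻¹) by group]
          exact mul_mem (h2 _ hy') (h2' y hy)
      inv_mem' := by
        rintro g ⟨h1, h2⟩
        refine ⟨fun a ha => ?_, fun y hy => ?_⟩
        · show (g : L)⁻¹ * a * ((g : L)⁻¹)⁻¹ = a
          conv_lhs => rw [← h1 a ha]
          group
        · have hy' : (g : L)⁻¹ * y * (g : L) ∈ A₀ := (Subgroup.mem_normalizer_iff''.mp g.2 y).mp hy
          show (g : L)⁻¹ * y * ((g : L)⁻¹)⁻¹ * y⁻¹ ∈ A
          have := inv_mem (h2 _ hy')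
          rwa [show ((g : L) * ((g : L)⁻¹ * y * g) * (g : L)⁻¹ * ((g : L)⁻¹ * y * g)⁻¹)⁻¹ =
            (g : L)⁻¹ * y * ((g : L)⁻¹)⁻¹ * y⁻¹ by group] at this }
  haveI hK0n : K0.Normal := by
    refine ⟨fun g hg n => ⟨fun a ha => ?_, fun y hy => ?_⟩⟩
    · show (n : L) * g * (n : L)⁻¹ * a * ((n : L) * g * (n : L)⁻¹)⁻¹ = a
      have ha' : (n : L)⁻¹ * a * n ∈ A := (Subgroup.mem_normalizer_iff''.mp (hN n.2) a).mp ha
      rw [show (n : L) * g * (n : L)⁻¹ * a * ((n : L) * g * (n : L)⁻¹)⁻¹ =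
        n * (g * ((n : L)⁻¹ * a * n) * (g : L)⁻¹) * (n : L)⁻¹ by group, hg.1 _ ha']
      group
    · show (n : L) * g * (n : L)⁻¹ * y * ((n : L) * g * (n : L)⁻¹)⁻¹ * y⁻¹ ∈ A
      have hy' : (n : L)⁻¹ * y * n ∈ A₀ := (Subgroup.mem_normalizer_iff''.mp n.2 y).mp hy
      rw [show (n : L) * g * (n : L)⁻¹ * y * ((n : L) * g * (n : L)⁻¹)⁻¹ * y⁻¹ =
        n * (g * ((n : L)⁻¹ * y * n) * (g : L)⁻¹ * ((n : L)⁻¹ * y * n)⁻¹) * (n : L)⁻¹ by group]
      exact (Subgroup.mem_normalizer_iff.mp (hN n.2) _).mp (hg.2 _ hy')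
  have hp : IsPGroup 2 (K0.map ρ.rangeRestrict) := by
    rintro ⟨_, g, hg, rfl⟩
    refine ⟨1, Subtype.ext (Subtype.ext (MulEquiv.ext fun y => Subtype.ext ?_))⟩
    show ((((ρ g) ^ 2 ^ 1 : MulAut A₀) y : A₀) : L) = y
    rw [pow_one, ← map_pow, pow_two, hρ]
    show (g : L) * g * y * ((g : L) * g)⁻¹ = y
    set u := (g : L) * y * (g : L)⁻¹ * (y : L)⁻¹ with hu
    have huA : u ∈ A := hg.2 y y.2
    calc (g : L) * g * y * ((g : L) * g)⁻¹ = g * (u * y) * (g : L)⁻¹ := by rw [hu]; group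
      _ = (g * u * (g : L)⁻¹) * (g * y * (g : L)⁻¹) := by group
      _ = u * (u * y) := by rw [hg.1 u huA, hu]; group
      _ = y := by rw [← mul_assoc, hA₀.sq (hAle huA), one_mul]
  haveI : (K0.map ρ.rangeRestrict).Normal := hK0n.map _ ρ.rangeRestrict_surjective
  let P : Sylow 2 N0 := S.subtype hA₀.le_normalizer
  let P' : Sylow 2 ρ.range := P.mapSurjective ρ.rangeRestrict_surjective
  have hle : K0.map ρ.rangeRestrict ≤ (P' : Subgroup ρ.range) :=
    le_sup_left.trans (P'.3 (hp.to_sup_of_normal_left P'.2) le_sup_right).le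
  obtain ⟨s, hs, hse⟩ := hle (Subgroup.mem_map_of_mem _ (show (⟨c, hc⟩ : N0) ∈ K0 from ⟨hcA, hcm⟩))
  have e := congrArg (fun (φ : ρ.range) => (((φ : MulAut A₀) ⟨z, hz⟩ : A₀) : L)) hse
  simp only [MonoidHom.coe_rangeRestrict, hρ] at e
  have hsz : (s : L) * z * (s : L)⁻¹ = z := mul_inv_eq_iff_eq_mul.mpr (hzc (s : L) hs).symm
  exact e.symm.trans hsz

/-- The `D`-part of a block with `V = A` is invariant. -/
theorem Hyp.block_invariant (h : Hyp L) (hA₀ : Closed S A₀) (hA : Closed S A) (hAle : A ≤ A₀)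
    (hN : Subgroup.normalizer (A₀ : Set L) ≤ Subgroup.normalizer (A : Set L)) (h4 : Nat.card A = 4)
    (hD : Blocked A₀ D) (hnle : ¬ A ≤ D) {k : L} (hk : IsBlock A₀ D A k)
    (hkc : ∀ y ∈ A₀, k * y * k⁻¹ * y⁻¹ ∈ A) {z : L} (hz : z ∈ A₀) (hzA : z ∉ A)
    (hzc : ∀ s ∈ (S : Subgroup L), z * s = s * z) :
    Subgroup.normalizer (A₀ : Set L) ≤ Subgroup.normalizer (D : Set L) := by
  haveI : Fact (Nat.Prime 2) := ⟨Nat.prime_two⟩
  intro g hg
  suffices he : D.map (MulAut.conj g).toMonoidHom = D from mem_normalizer_of_maps fun x hx => he.le ⟨x, hx, rfl⟩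
  by_contra hne
  set D' := D.map (MulAut.conj g).toMonoidHom with hD'
  have hbD' : Blocked A₀ D' := hD.conj hA₀ hg
  have hnle' : ¬ A ≤ D' := fun hle => hnle fun x hx => by
    obtain ⟨y, hy, hye⟩ := hle ((Subgroup.mem_normalizer_iff.mp (hN hg) x).mp hx)
    exact (MulAut.conj g).injective hye ▸ hy
  obtain ⟨W, k', hk', hkc', -⟩ := h.exists_block hA₀ hbD'
  have hWA : W = A := Subgroup.eq_of_le_of_card_ge (block_le_sub hA₀ hA hAle hk' hkc' hnle') (h4 ▸ hk'.four_le)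
  subst W
  have hdis : D ⊓ D' = ⊥ := by
    by_contra hm
    exact hnle (h.le_of_meet hA₀ hD hbD' (Ne.symm hne) hm hk')
  have hfA : ∀ x ∈ A, k * x * k⁻¹ = x → x = 1 := fun x hx => hk.eq_one_of_fixed hx
  have hfA' : ∀ x ∈ A, k' * x * k'⁻¹ = x → x = 1 := fun x hx => hk'.eq_one_of_fixed hx
  set c := k' * k * k'⁻¹ * k⁻¹ with hc
  have hcN : c ∈ Subgroup.normalizer (A₀ : Set L) :=
    mul_mem (mul_mem (mul_mem hk'.norm hk.norm) (inv_mem hk'.norm)) (inv_mem hk.norm)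
  have hsqA : ∀ x ∈ A, x * x = 1 := fun x hx => hA.sq hx
  have hkN : ∀ {m : L}, m ∈ Subgroup.normalizer (A₀ : Set L) → ∀ x ∈ A, m * x * m⁻¹ ∈ A :=
    fun hm x hx => (Subgroup.mem_normalizer_iff.mp (hN hm) x).mp hx
  have hcA : ∀ a ∈ A, c * a * c⁻¹ = a := by
    intro a ha
    set b := k⁻¹ * (k'⁻¹ * a * k') * k with hb
    have hbA : b ∈ A := by
      have h1 := (Subgroup.mem_normalizer_iff''.mp (hN hk'.norm) a).mp ha
      exact (Subgroup.mem_normalizer_iff''.mp (hN hk.norm) _).mp h1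
    have e := four_commute h4 hsqA (hkN hk.norm) (hkN hk'.norm) hfA hfA' hbA
    have e0 : k' * (k * b * k⁻¹) * k'⁻¹ = a := by rw [hb]; group
    rw [e0] at e
    calc c * a * c⁻¹ = c * (k * (k' * b * k'⁻¹) * k⁻¹) * c⁻¹ := by rw [e]
      _ = k' * (k * b * k⁻¹) * k'⁻¹ := by rw [hc]; group
      _ = a := e0
  have hK1 : ∀ {m : L}, m ∈ Subgroup.normalizer (A₀ : Set L) → (∀ y ∈ A₀, m * y * m⁻¹ * y⁻¹ ∈ A) →
      ∀ y ∈ A₀, m⁻¹ * y * m * y⁻¹ ∈ A := by
    intro m hm hmc y hy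
    have hy' := (Subgroup.mem_normalizer_iff''.mp hm y).mp hy
    have := inv_mem (hmc _ hy')
    rwa [show (m * (m⁻¹ * y * m) * m⁻¹ * (m⁻¹ * y * m)⁻¹)⁻¹ = m⁻¹ * y * m * y⁻¹ by group] at this
  have hcm : ∀ y ∈ A₀, c * y * c⁻¹ * y⁻¹ ∈ A := by
    intro y hy
    have n1 : k⁻¹ * y * k ∈ A₀ := (Subgroup.mem_normalizer_iff''.mp hk.norm y).mp hy
    have n2 : k'⁻¹ * (k⁻¹ * y * k) * k' ∈ A₀ := (Subgroup.mem_normalizer_iff''.mp hk'.norm _).mp n1
    have n3 : k * (k'⁻¹ * (k⁻¹ * y * k) * k') * k⁻¹ ∈ A₀ := (Subgroup.mem_normalizer_iff.mp hk.norm _).mp n2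
    rw [show c * y * c⁻¹ * y⁻¹ =
      (k' * (k * (k'⁻¹ * (k⁻¹ * y * k) * k') * k⁻¹) * k'⁻¹ * (k * (k'⁻¹ * (k⁻¹ * y * k) * k') * k⁻¹)⁻¹) *
        (k * (k'⁻¹ * (k⁻¹ * y * k) * k') * k⁻¹ * (k'⁻¹ * (k⁻¹ * y * k) * k')⁻¹) *
        (k'⁻¹ * (k⁻¹ * y * k) * k' * (k⁻¹ * y * k)⁻¹) * (k⁻¹ * y * k * y⁻¹) by rw [hc]; group]
    exact mul_mem (mul_mem (mul_mem (hkc' _ n3) (hkc _ n2)) (hK1 hk'.norm hkc' _ n1)) (hK1 hk.norm hkc y hy)
  have hcz := fixes_central hA₀ hAle hN hcN hcA hcm hz hzc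
  obtain ⟨d, hd, a, ha, rfl⟩ := mem_sup_of_ea hA₀.elem hk.D_le hk.V_le (show z ∈ D ⊔ A from hk.sup.symm ▸ hz)
  have hcd : c * d * c⁻¹ = d := by
    rw [show c * (d * a) * c⁻¹ = c * d * c⁻¹ * (c * a * c⁻¹) by group, hcA a ha] at hcz
    exact mul_right_cancel hcz
  set u := k'⁻¹ * d * k' * d⁻¹ with hu
  have huA : u ∈ A := hK1 hk'.norm hkc' d (hk.D_le hd)
  have hku : k * u * k⁻¹ = u := by
    have hkd : k⁻¹ * d * k = d := by rw [mul_assoc, ← hk.cent d hd, inv_mul_cancel_left]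
    have h1 : k * (u * d) * k⁻¹ = u * d := by
      have h2 : k' * (k * (k'⁻¹ * (k⁻¹ * d * k) * k') * k⁻¹) * k'⁻¹ = d := by
        rw [← show c * d * c⁻¹ = k' * (k * (k'⁻¹ * (k⁻¹ * d * k) * k') * k⁻¹) * k'⁻¹ by rw [hc]; group]
        exact hcd
      rw [hkd] at h2
      rw [show u * d = k'⁻¹ * d * k' by rw [hu]; group]
      calc k * (k'⁻¹ * d * k') * k⁻¹ = k'⁻¹ * (k' * (k * (k'⁻¹ * d * k') * k⁻¹) * k'⁻¹) * k' := by group
        _ = k'⁻¹ * d * k' := by rw [h2]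
    rw [show k * (u * d) * k⁻¹ = k * u * k⁻¹ * (k * d * k⁻¹) by group, hk.cent d hd, mul_inv_cancel_right] at h1
    exact mul_right_cancel h1
  have hu1 := hk.eq_one_of_fixed huA hku
  have hk'd : k' * d * k'⁻¹ = d := by
    rw [hu, mul_inv_eq_one] at hu1
    conv_lhs => rw [← hu1]
    group
  obtain ⟨d', hd', a', ha', hd''⟩ := mem_sup_of_ea hA₀.elem hk'.D_le hk'.V_le
    (show d ∈ D' ⊔ A from hk'.sup.symm ▸ hk.D_le hd)
  have ha'1 : a' = 1 := by
    refine hfA' a' ha' ?_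
    rw [hd'', show k' * (d' * a') * k'⁻¹ = k' * d' * k'⁻¹ * (k' * a' * k'⁻¹) by group, hk'.cent d' hd',
      mul_inv_cancel_right] at hk'd
    exact mul_left_cancel hk'd
  rw [ha'1, mul_one] at hd''
  have hd0 : d ∈ D ⊓ D' := ⟨hd, hd'' ▸ hd'⟩
  rw [hdis, Subgroup.mem_bot] at hd0
  exact hzA (by rw [hd0, one_mul]; exact ha)

/-- A core fixed by `A'` normalises `W`. -/
theorem core_normalizes_W {A' W : Subgroup L} (P : Pair A A') (Q : Pair A' A) (hW : Odd (Nat.card W))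
    (hWB : A ⊔ A' ≤ Subgroup.normalizer (W : Set L))
    (hWC : ∀ b ∈ A ⊔ A', b ≠ 1 → W ⊓ Subgroup.centralizer {b} = YY A b ⊓ YY A' b) {a : L} (ha : a ∈ A) (ha1 : a ≠ 1) :
    centralizerPPrimeCore 2 a ≤ Subgroup.normalizer (W : Set L) := by
  haveI : Fact (Nat.Prime 2) := ⟨Nat.prime_two⟩
  have hYA : ∀ x ∈ A, centralizerPPrimeCore 2 x ≤ YY A x := fun x hx => core_le_YY P hx
  have hYA' : ∀ x ∈ A', centralizerPPrimeCore 2 x ≤ YY A' x := fun x hx => core_le_YY Q hx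
  have haB : a ∈ A ⊔ A' := Subgroup.mem_sup_left ha
  have haB' : a ∈ A' ⊔ A := Subgroup.mem_sup_right ha
  have hθW : ∀ b ∈ A ⊔ A', b ≠ 1 → YY A b ⊓ YY A' b ≤ W := fun b hb hb1 => (hWC b hb hb1).ge.trans inf_le_left
  have hsq : ∀ b ∈ A ⊔ A', b * b = 1 := fun b hb => P.sqA hb
  have hA'N : A' ≤ Subgroup.normalizer (centralizerPPrimeCore 2 a : Set L) :=
    le_sup_right.trans (P.le_normalizer_core haB)
  have hA'p : IsPGroup 2 A' := Q.isP
  have hcop : (Nat.card A').Coprime (Nat.card (centralizerPPrimeCore 2 a)) := by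
    rw [Q.four, show 4 = 2 ^ 2 from rfl]
    exact ((Nat.coprime_two_right.mpr (odd_card_core a)).pow_right 2).symm
  intro z hz
  haveI := hA'p.isNilpotent
  obtain ⟨u, hu, x, hx, rfl⟩ := coprime_decomp hA'N hcop (Or.inl inferInstance) (k := z) hz
  refine Subgroup.mul_mem _ (Subgroup.le_normalizer (hθW a haB ha1
    ⟨hYA a ha (commutator_le_of_le_normalizer hA'N hu), Subgroup.mem_sup_left hu⟩)) ?_
  -- `B3 = <a> A'`
  set B3 := Subgroup.zpowers a ⊔ A' with hB3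
  have hB3B : B3 ≤ A ⊔ A' := sup_le (Subgroup.zpowers_le.mpr haB) le_sup_right
  have hB3e : IsElementaryAbelian 2 B3 := ea_le (A := A ⊔ A')
    ⟨⟨⟨fun p q => Subtype.ext (P.commA p.2 q.2)⟩⟩, fun p hp => by rw [pow_two]; exact hsq p hp⟩ hB3B
  have hxB3 : x ∈ Subgroup.centralizer (B3 : Set L) := by
    refine mem_centralizer_of_sup (H := Subgroup.zpowers a) (K := A') rfl ?_ hx.2
    rw [CfsgLib.CharPLocal.centralizer_zpowers, Subgroup.mem_centralizer_singleton_iff]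
    exact AfterFT.CoreSep.mem_cc.mp ((Subgroup.map_subtype_le _) hx.1)
  have hWodd : ¬ 2 ∣ Nat.card W := fun h2 => Nat.not_odd_iff_even.mpr (even_iff_two_dvd.mpr h2) hW
  refine mem_normalizer_of_maps fun w0 hw0 => ?_
  suffices hle : W ≤ W.comap (MulAut.conj x).toMonoidHom from hle hw0
  conv_lhs => rw [gen_index hB3e hWodd (hB3B.trans hWB)]
  refine iSup_le fun ⟨H, hH, hHi⟩ w ⟨hwW, hwH⟩ => ?_
  show x * w * x⁻¹ ∈ W
  -- an element of `A'` in `H`
  obtain ⟨h0, h0H, h0A, h01⟩ : ∃ h0 ∈ H, h0 ∈ A' ∧ h0 ≠ 1 := by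
    by_contra hcon
    push Not at hcon
    have h1 := card_mul_le_of_disjoint hH (le_sup_right : A' ≤ B3)
      ((Subgroup.eq_bot_iff_forall _).mpr fun y hy => hcon y hy.1 hy.2)
    have h2 := card_le_two_mul hH hHi
    rw [Q.four] at h1
    have : 0 < Nat.card H := Nat.card_pos
    omega
  have h0B : h0 ∈ A ⊔ A' := Subgroup.mem_sup_right h0A
  set Pm := signalizerDelta 2 H ⊓ Subgroup.centralizer (H : Set L) with hPm
  have hHB : H ≤ A ⊔ A' := hH.trans hB3B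
  have hwP : w ∈ Pm := by
    refine ⟨KFunctor.mem_delta.2 fun e he he1 => ?_, hwH⟩
    have := (hWC e (hHB he) he1).le ⟨hwW, Subgroup.mem_centralizer_singleton_iff.mpr (hwH e he).symm⟩
    exact YY_le P (hHB he) this.1
  have hxH : x ∈ Subgroup.centralizer (H : Set L) := Subgroup.centralizer_le hH hxB3
  have hxP : ∀ p ∈ Pm, x * p * x⁻¹ ∈ Pm := by
    intro p hp
    have hmap : H.map (MulAut.conj x).toMonoidHom = H := by
      ext y
      rw [Subgroup.mem_map_equiv, MulAut.conj_symm_apply]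
      constructor
      · intro hy
        have e : x⁻¹ * y * x = y :=
          calc x⁻¹ * y * x = x * (x⁻¹ * y * x) * x⁻¹ := by rw [← hxH _ hy, mul_inv_cancel_right]
            _ = y := by group
        rwa [← e]
      · intro hy
        rwa [show x⁻¹ * y * x = y by rw [mul_assoc, hxH y hy, inv_mul_cancel_left]]
    refine ⟨hmap ▸ conj_mem_delta x hp.1, ?_⟩
    exact Subgroup.mul_mem _ (Subgroup.mul_mem _ hxH hp.2) (Subgroup.inv_mem _ hxH)
  have haH : a ∈ Subgroup.centralizer (H : Set L) := fun y hy => P.commA (hHB hy) haB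
  have haN : Subgroup.zpowers a ≤ Subgroup.normalizer ((W ⊓ Pm : Subgroup L) : Set L) := by
    refine Subgroup.zpowers_le.mpr (mem_normalizer_of_maps fun p hp => ⟨?_, ⟨?_, ?_⟩⟩)
    · exact (Subgroup.mem_normalizer_iff.mp (hWB haB) p).mp hp.1
    · exact KFunctor.mem_delta.2 fun e he he1 => (Subgroup.mem_normalizer_iff.mp
        (P.le_normalizer_core (hHB he) haB) p).mp (KFunctor.mem_delta.1 hp.2.1 e he he1)
    · exact Subgroup.mul_mem _ (Subgroup.mul_mem _ haH hp.2.2) (Subgroup.inv_mem _ haH)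
  have hcop2 : (Nat.card (Subgroup.zpowers a)).Coprime (Nat.card ↥(W ⊓ Pm)) := by
    rw [Nat.card_zpowers, orderOf_eq_prime (p := 2) (by rw [pow_two]; exact hsq a haB) ha1]
    exact Nat.coprime_two_left.mpr (odd_of_le inf_le_left hW)
  haveI := (zpowers_two (hsq a haB)).isNilpotent
  obtain ⟨m, hm, f, hf, rfl⟩ := coprime_decomp haN hcop2 (Or.inl inferInstance) (k := w) ⟨hwW, hwP⟩
  have hcomm : ⁅Pm, Subgroup.zpowers a⁆ ≤ W := by
    have hle0 : Pm ≤ centralizerPPrimeCore 2 h0 := fun p hp => KFunctor.mem_delta.1 hp.1 h0 h0H h01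
    refine le_trans ?_ (hθW h0 h0B h01)
    refine le_inf ?_ ?_
    · exact (Subgroup.commutator_mono hle0 (Subgroup.zpowers_le.mpr ha)).trans le_sup_left
    · refine le_trans ?_ (hYA' h0 h0A)
      refine (Subgroup.commutator_mono hle0 le_rfl).trans (commutator_le_of_le_normalizer ?_)
      exact (Subgroup.zpowers_le.mpr (P.le_normalizer_core h0B haB))
  have hxm : x * m * x⁻¹ ∈ ⁅Pm, Subgroup.zpowers a⁆ := by
    have hle : ⁅W ⊓ Pm, Subgroup.zpowers a⁆ ≤ (⁅Pm, Subgroup.zpowers a⁆).comap (MulAut.conj x).toMonoidHom := by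
      refine (Subgroup.commutator_mono inf_le_right le_rfl).trans ?_
      rw [Subgroup.commutator_le]
      intro p hp t ht
      rw [Subgroup.mem_comap, map_commutatorElement]
      refine Subgroup.commutator_mem_commutator (hxP p hp) ?_
      rw [MulEquiv.coe_toMonoidHom, MulAut.conj_apply, ← hxB3 t (Subgroup.mem_sup_left ht), mul_inv_cancel_right]
      exact ht
    exact hle hm
  obtain ⟨⟨hfW, hfP⟩, hfa⟩ := Subgroup.mem_inf.mp hf
  have hfa' : f ∈ Subgroup.centralizer ({a} : Set L) :=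
    Subgroup.mem_centralizer_singleton_iff.mpr (hfa a (Subgroup.mem_zpowers a)).symm
  have hfO : f ∈ centralizerPPrimeCore 2 a := YY_le P haB ((hWC a haB ha1).le ⟨hfW, hfa'⟩).1
  have hxO : x * f * x⁻¹ ∈ centralizerPPrimeCore 2 a :=
    mul_mem (mul_mem hx.1 hfO) (inv_mem hx.1)
  have hxf : x * f * x⁻¹ ∈ W := hθW a haB ha1
    ⟨hYA a ha hxO, YY_balance oddSolv Q (Subgroup.mem_sup_left h0A) haB'
      (hYA' h0 h0A (KFunctor.mem_delta.1 (hxP f hfP).1 h0 h0H h01)) hxO⟩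
  rw [show x * (m * f) * x⁻¹ = x * m * x⁻¹ * (x * f * x⁻¹) by group]
  exact mul_mem (hcomm hxm) hxf

/-- 6.2. -/
theorem Hyp.two_false (h : Hyp L) (hT : Top S A₀) (hA : Closed S A) (hle : A ≤ A₀)
    (hN : Subgroup.normalizer (A₀ : Set L) ≤ Subgroup.normalizer (A : Set L)) (h4 : Nat.card A = 4)
    (hne : A₀ ≠ A) : False := by
  classical
  haveI : Fact (Nat.Prime 2) := ⟨Nat.prime_two⟩
  have hA₀ := hT.closed
  obtain ⟨z, hzS, hz2, hzc, hzA⟩ : ∃ z ∈ (S : Subgroup L), z * z = 1 ∧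
      (∀ s ∈ (S : Subgroup L), z * s = s * z) ∧ z ∉ A := by
    by_contra hcon
    push Not at hcon
    exact hne (le_antisymm (hT.least A hN hcon) hle)
  have hzA₀ := hT.center z hzS hz2 hzc
  obtain ⟨c, hc, E, hE, a₁, ha₁, hm, hnc⟩ : ∃ c ∈ A, ∃ E : Subgroup (qq (z * c)), IsComponent E ∧
      ∃ a ∈ A, ∃ hm : a ∈ cc (z * c), ff (z * c) ⟨a, hm⟩ ∉ Subgroup.centralizer (E : Set (qq (z * c))) := by
    by_contra hcon
    push Not at hcon
    exact h.false_of_unblocked hA h4 hzA hz2 (fun a ha => hA₀.comm (hle ha) hzA₀) hcon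
  have hb : z * c ∈ A₀ := mul_mem hzA₀ (hle hc)
  have hb1 : z * c ≠ 1 := fun e => hzA (by rw [mul_eq_one_iff_eq_inv.mp e]; exact inv_mem hc)
  set D := blockD A₀ (z * c) E with hDdef
  have hnle : ¬ A ≤ D := fun hAD => hnc ((mem_blockD hm).mp (hAD ha₁)).2
  have hD : Blocked A₀ D := ⟨fun e => hnle (e.symm ▸ hle), z * c, hb, hb1, E, hE, rfl⟩
  obtain ⟨V, k, hk, hkc, -⟩ := h.exists_block hA₀ hD
  have hVA : V = A := Subgroup.eq_of_le_of_card_ge (block_le_sub hA₀ hA hle hk hkc hnle) (h4 ▸ hk.four_le)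
  subst V
  have hDN := h.block_invariant hA₀ hA hle hN h4 hD hnle hk hkc hzA₀ hzA hzc
  obtain ⟨A', hA'D, hA', hI', -⟩ := hA₀.exists_irred hD.le hD.ne_bot hDN
  have hA'le : A' ≤ A₀ := hA'D.trans hD.le
  have hA'4 : Nat.card A' = 4 := by
    have h1 := h.four_le_card hA'
    obtain ⟨n, hn⟩ := IsPGroup.iff_card.mp hA'.isPGroup
    rcases Nat.lt_or_ge n 3 with hlt | hge
    · have h2 : Nat.card A' ≤ 2 ^ 2 := hn ▸ Nat.pow_le_pow_right (by norm_num) (by omega)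
      omega
    · obtain ⟨h8, hblk, -⟩ := h.eight_of_irred hA' hI' (hn ▸ (Nat.pow_le_pow_right (by norm_num) hge : 2 ^ 3 ≤ 2 ^ n))
      exact absurd (le_antisymm hD.le ((h.eight_top hA₀ hA' hA'le h8 hblk).le.trans hA'D)) hD.1
  have hinf : A ⊓ A' = ⊥ := by
    rw [eq_bot_iff]
    exact fun x hx => hk.disjoint.le ⟨hA'D hx.2, hx.1⟩
  have hBle : A ⊔ A' ≤ A₀ := sup_le hle hA'le
  have hsep : AfterFT.CoreSep.Sep A A' := by
    intro b hb' hb'1 F hF
    by_contra hcon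
    push Not at hcon
    obtain ⟨⟨x, hx, hxb, hxF⟩, y, hy, hyb, hyF⟩ := hcon
    set D1 := blockD A₀ b F with hD1
    have n1 : ¬ A ≤ D1 := fun hAD => hxF ((mem_blockD hxb).mp (hAD hx)).2
    have n2 : ¬ A' ≤ D1 := fun hAD => hyF ((mem_blockD hyb).mp (hAD hy)).2
    have hb0 : Blocked A₀ D1 := ⟨fun e => n1 (e.symm ▸ hle), b, hBle hb', hb'1, F, hF, rfl⟩
    obtain ⟨W, k', hk', hkc', -⟩ := h.exists_block hA₀ hb0
    have hWbot : W = ⊥ := le_bot_iff.mp
      (hinf ▸ le_inf (block_le_sub hA₀ hA hle hk' hkc' n1) (block_le_sub hA₀ hA' hA'le hk' hkc' n2))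
    have := hk'.four_le
    rw [hWbot, Subgroup.card_bot] at this
    omega
  have P : Pair A A' :=
    { comm₁ := fun x hx y hy => hA.comm hx hy
      comm₂ := fun x hx y hy => hA'.comm hx hy
      comm := fun x hx y hy => hA₀.comm (hle hx) (hA'le hy)
      sq₁ := fun x hx => hA.sq hx
      sq₂ := fun x hx => hA'.sq hx
      four := h4
      sep := hsep }
  have Q : Pair A' A :=
    { comm₁ := fun x hx y hy => hA'.comm hx hy
      comm₂ := fun x hx y hy => hA.comm hx hy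
      comm := fun x hx y hy => hA₀.comm (hA'le hx) (hle hy)
      sq₁ := fun x hx => hA'.sq hx
      sq₂ := fun x hx => hA.sq hx
      four := hA'4
      sep := fun b hb' hb'1 F hF => (hsep b (sup_comm A A' ▸ hb') hb'1 F hF).symm }
  have hQ : ∀ {b}, b ∈ A ⊔ A' → b ∈ A' ⊔ A := fun hb' => sup_comm A A' ▸ hb'
  set θ : L → Subgroup L := fun b => YY A b ⊓ YY A' b with hθ
  have hθO : ∀ b ∈ A ⊔ A', θ b ≤ centralizerPPrimeCore 2 b := fun b hb' => inf_le_left.trans (YY_le P hb')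
  have hcard : 2 ^ 3 ≤ Nat.card ↥(A ⊔ A') := by
    have := card_mul_le_of_disjoint (le_sup_left : A ≤ A ⊔ A') le_sup_right hinf
    rw [h4, hA'4] at this
    norm_num
    omega
  have key := Cfsg.Agent.S0217.result (p := 2) (A ⊔ A') (fun a ha b hb' => P.commA ha hb')
    (fun a ha => by rw [pow_two]; exact P.sqA ha) hcard θ
    (fun b hb' _ => (hθO b hb').trans (Subgroup.map_subtype_le _))
    (fun b hb' _ hd => Nat.not_odd_iff_even.mpr (even_iff_two_dvd.mpr hd) (odd_of_le (hθO b hb') (odd_card_core b)))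
    (fun b hb' _ g hg x hx => ⟨(Subgroup.mem_normalizer_iff.mp (YY_invariant P hb' hg) x).mp hx.1,
      (Subgroup.mem_normalizer_iff.mp (YY_invariant Q (hQ hb') (hQ hg)) x).mp hx.2⟩)
    (fun b hb' _ => oddSolv _ (odd_of_le (hθO b hb') (odd_card_core b)))
    (fun a ha _ b hb' hb'1 x hx => ?_)
  swap
  · obtain ⟨⟨hx1, hx2⟩, hxb⟩ := hx
    have hcore : x ∈ centralizerPPrimeCore 2 b := by
      refine mem_core_of_centralizes (P.mem_cc ha hb') (P.sqA ha) (YY_le P ha hx1) hxb fun F hF => ?_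
      rcases hsep b hb' hb'1 F hF with h' | h'
      · exact YY_centralizes oddSolv P ha hb' hF h' hx1 hxb
      · exact YY_centralizes oddSolv Q (hQ ha) (hQ hb') hF h' hx2 hxb
    exact ⟨YY_balance oddSolv P ha hb' hx1 hcore, YY_balance oddSolv Q (hQ ha) (hQ hb') hx2 hcore⟩
  set W := ⨆ b : {b : L // b ∈ A ⊔ A' ∧ b ≠ 1}, θ (b : L) with hWdef
  have hWodd : Odd (Nat.card W) := Nat.odd_iff.mpr (Nat.two_dvd_ne_zero.mp key.1)
  have hθW : ∀ b ∈ A ⊔ A', b ≠ 1 → θ b ≤ W := fun b hb' hb'1 =>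
    le_iSup (fun b : {b : L // b ∈ A ⊔ A' ∧ b ≠ 1} => θ (b : L)) ⟨b, hb', hb'1⟩
  have hWB : A ⊔ A' ≤ Subgroup.normalizer (W : Set L) := fun g hg => mem_normalizer_of_maps fun x hx => by
    have hle' : W ≤ W.comap (MulAut.conj g).toMonoidHom := iSup_le fun b y hy =>
      hθW b b.2.1 b.2.2 ⟨(Subgroup.mem_normalizer_iff.mp (YY_invariant P b.2.1 hg) y).mp hy.1,
        (Subgroup.mem_normalizer_iff.mp (YY_invariant Q (hQ b.2.1) (hQ hg)) y).mp hy.2⟩
    exact hle' hx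
  -- the proper subgroup
  set K := A ⊔ ⨆ a : {a : L // a ∈ A ∧ a ≠ 1}, centralizerPPrimeCore 2 (a : L) with hK
  have hKne : K ≠ ⊥ := fun e => hA.ne_bot (le_bot_iff.mp (e ▸ le_sup_left))
  have hKO : ∀ a ∈ A, a ≠ 1 → centralizerPPrimeCore 2 a ≤ K := fun a ha ha1 => le_trans
    (le_iSup (fun a : {a : L // a ∈ A ∧ a ≠ 1} => centralizerPPrimeCore 2 (a : L)) ⟨a, ha, ha1⟩) le_sup_right
  have hKtop : K ≠ ⊤ := by
    by_cases hall : ∀ a ∈ A, a ≠ 1 → ⁅centralizerPPrimeCore 2 a, A'⁆ = ⊥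
    · intro e
      obtain ⟨t, ht, ht1⟩ := A'.bot_or_exists_ne_one.resolve_left hA'.ne_bot
      refine h.cc_ne_top ht1 (top_le_iff.mp (e ▸ sup_le (fun x hx => ?_) (iSup_le fun a x hx => ?_)))
      · exact AfterFT.CoreSep.mem_cc.mpr (hA₀.comm (hle hx) (hA'le ht))
      · exact AfterFT.CoreSep.mem_cc.mpr (comm_of_commutator_eq_bot (hall a a.2.1 a.2.2) hx ht)
    · push Not at hall
      obtain ⟨a, ha, ha1, hne'⟩ := hall
      have hW1 : W ≠ ⊥ := fun e => hne' (le_bot_iff.mp (e ▸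
        (le_inf ((commutator_le_of_le_normalizer (le_sup_right.trans
            (P.le_normalizer_core (Subgroup.mem_sup_left ha)))).trans (core_le_YY P ha))
          le_sup_left).trans (hθW a (Subgroup.mem_sup_left ha) ha1)))
      intro e
      refine h.normalizer_ne_top hW1 (hA.ne_top_of_odd hWodd) (top_le_iff.mp (e ▸ sup_le ?_ ?_))
      · exact le_sup_left.trans hWB
      · exact iSup_le fun a => core_normalizes_W P Q hWodd hWB (fun b hb' hb'1 => key.2 b hb' hb'1) a.2.1 a.2.2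
  refine h.false_of_le hA (h.normalizer_ne_top hKne hKtop) fun a ha ha1 x hx => ?_
  obtain ⟨o, ho, n, hn, rfl⟩ := h.cc_le_of_central hA ha ha1
    (fun F hF => central_of_no_block (h.no_blocked_four hA h4) ha ha1 hF) hx
  refine Subgroup.mul_mem _ (Subgroup.le_normalizer (hKO a ha ha1 ho)) (mem_normalizer_of_maps fun y hy => ?_)
  have hle' : K ≤ K.comap (MulAut.conj n).toMonoidHom := by
    refine sup_le (fun b hb' => Subgroup.mem_sup_left ((Subgroup.mem_normalizer_iff.mp hn.1 b).mp hb'))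
      (iSup_le fun b y hy => hKO _ ((Subgroup.mem_normalizer_iff.mp hn.1 _).mp b.2.1)
        (fun e => b.2.2 (conj_eq_one_iff.mp e)) ?_)
    exact CfsgLib.SolvSF.conj_mem_centralizerPPrimeCore n (b : L) hy
  exact hle' hy

end CfsgLib.S3Simple
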