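import Mathlib

/-!
Two elementary facts about perfect subgroups of finite groups.
-/

set_option autoImplicit false
set_option linter.style.haveILetI false

namespace CfsgLib.S3Simple

universe u v

variable {G : Type u} [Group G] [Finite G]

/-- A subgroup with perfect image contains a perfect subgroup with the same image. -/
theorem exists_perfect_map {H : Type v} [Group H] (f : G →* H) (R : Subgroup G)
    (hE : ⁅R.map f, R.map f⁆ = R.map f) : ∃ P ≤ R, ⁅P, P⁆ = P ∧ P.map f = R.map f := by
  induction hn : Nat.card R using Nat.strong_induction_on generalizing R with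
  | _ n ih =>
    by_cases hR : ⁅R, R⁆ = R
    · exact ⟨R, le_rfl, hR, rfl⟩
    · have hle : ⁅R, R⁆ ≤ R := Subgroup.commutator_le_self R
      have hm : (⁅R, R⁆).map f = R.map f := by rw [Subgroup.map_commutator, hE]
      have hlt : Nat.card ↥⁅R, R⁆ < n := by
        refine lt_of_le_of_ne (hn ▸ Subgroup.card_le_of_le hle) fun e => hR ?_
        exact Subgroup.eq_of_le_of_card_ge hle (by rw [e, hn])
      obtain ⟨P, hP, hPP, hPm⟩ := ih _ hlt ⁅R, R⁆ (by rw [hm]; exact hE) rfl
      exact ⟨P, hP.trans hle, hPP, hPm.trans hm⟩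

omit [Finite G] in
/-- A perfect subgroup of the product of `X` and a solvable group normalising it lies in `X`. -/
theorem perfect_le_of_sup {P X N : Subgroup G} (hP : ⁅P, P⁆ = P) (hle : P ≤ X ⊔ N)
    (hNX : N ≤ Subgroup.normalizer (X : Set G)) [Group.IsSolvable N] : P ≤ X := by
  set R := X ⊔ N with hR
  have hRn : R ≤ Subgroup.normalizer (X : Set G) := sup_le Subgroup.le_normalizer hNX
  haveI hn : (X.subgroupOf R).Normal := (Subgroup.normal_subgroupOf_iff_le_normalizer le_sup_left).mpr hRn
  let q := QuotientGroup.mk' (X.subgroupOf R)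
  let g : N →* ↥R ⧸ X.subgroupOf R := q.comp (Subgroup.inclusion le_sup_right)
  have hg : Function.Surjective g := by
    intro y
    obtain ⟨⟨r, hr⟩, rfl⟩ := QuotientGroup.mk'_surjective _ y
    have hr' : r ∈ ((X ⊔ N : Subgroup G) : Set G) := hr
    rw [Subgroup.coe_mul_of_right_le_normalizer_left _ _ hNX] at hr'
    obtain ⟨x, hx, w, hw, hxw⟩ := hr'
    have hxw' : x * w = r := hxw
    refine ⟨⟨w, hw⟩, QuotientGroup.eq.mpr ?_⟩
    show (w⁻¹ * r) ∈ X
    rw [← hxw', show w⁻¹ * (x * w) = w⁻¹ * x * w by group]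
    exact (Subgroup.mem_normalizer_iff''.mp (hNX hw) x).mp hx
  haveI : Group.IsSolvable (↥R ⧸ X.subgroupOf R) := Group.isSolvable_of_surjective (f := g) hg
  let φ : P →* ↥R ⧸ X.subgroupOf R := q.comp (Subgroup.inclusion hle)
  have hperf : commutator P = ⊤ := by
    refine Subgroup.map_injective P.subtype_injective ?_
    rw [commutator_def, Subgroup.map_commutator, ← MonoidHom.range_eq_map, Subgroup.range_subtype, hP]
  have hr : ∀ n, derivedSeries P n = ⊤ := fun n => by
    induction n with
    | zero => rfl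
    | succ n ih => rw [derivedSeries_succ, ih, ← commutator_def, hperf]
  obtain ⟨n, hn'⟩ := (inferInstance : Group.IsSolvable (↥R ⧸ X.subgroupOf R)).solvable
  intro x hx
  have h := map_derivedSeries_le_derivedSeries φ n
    (Subgroup.mem_map_of_mem φ (hr n ▸ Subgroup.mem_top (⟨x, hx⟩ : P)))
  rw [hn', Subgroup.mem_bot] at h
  exact (QuotientGroup.eq_one_iff (N := X.subgroupOf R) (Subgroup.inclusion hle ⟨x, hx⟩)).mp h

end CfsgLib.S3Simple
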