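import Cfsg.Agent.Lib.S3Simple.Local
import Cfsg.Agent.Lib.AfterFT.StandardComponent
import Cfsg.Agent.S0205
import Cfsg.Agent.Lib.S3Simple.Perfect

/-!
A block seen from another element: balance for the components of `C(a)` modulo core.

Blueprint: `blueprint/S3Free.md`, B3.
-/

set_option autoImplicit false
set_option linter.unusedSectionVars false
set_option linter.style.haveILetI false

namespace CfsgLib.S3Simple

open Cfsg CfsgLib.Comp CfsgLib.AfterFT.CoreSep
open scoped commutatorElement

universe u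

/-- Groups of odd order are solvable. -/
theorem oddSolv : ∀ (H : Type u) [Group H] [Finite H], Odd (Nat.card H) → Group.IsSolvable H :=
  fun _ _ _ h => Cfsg.Agent.S0205.result h

section General

variable {G H : Type u} [Group G] [Finite G] [Group H] [Finite H] {p : ℕ}

theorem odd_kernel_le (f : G →* H) (hker : Odd (Nat.card f.ker)) : f.ker ≤ pPrimeCore 2 G :=
  le_pPrimeCore (Nat.coprime_two_right.mpr hker)

/-- The image of a `2`-component whose image is a component: centralising modulo the odd core is centralising. -/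
theorem centralizes_iff_comm {f : G →* H} (hf : Function.Surjective f) (hker : Odd (Nat.card f.ker))
    {K : Subgroup G} (hX : IsComponent (K.map f)) (x : G) :
    f x ∈ Subgroup.centralizer ((K.map f : Subgroup H) : Set H) ↔ ∀ k ∈ K, ⁅k, x⁆ ∈ pPrimeCore 2 G := by
  haveI : Fact (Nat.Prime 2) := ⟨Nat.prime_two⟩
  constructor
  · intro h k hk
    refine odd_kernel_le f hker ?_
    rw [MonoidHom.mem_ker, map_commutatorElement, commutatorElement_eq_one_iff_mul_comm]
    exact h (f k) ⟨k, hk, rfl⟩
  · intro h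
    set N := (pPrimeCore 2 G).map f with hN
    haveI : N.Normal := (inferInstance : (pPrimeCore 2 G).Normal).map f hf
    have hsol : Group.IsSolvable N := oddSolv _ (Nat.coprime_two_right.mp
      (Nat.Coprime.coprime_dvd_left (Subgroup.card_map_dvd _ _) (card_pPrimeCore_coprime 2)))
    set X := K.map f with hXdef
    have hXN : ⁅X, N⁆ = ⊥ :=
      (component_le_or_commutator_eq_bot hX N).resolve_left (component_not_le_of_isSolvable hX hsol)
    have h1 : ⁅X, Subgroup.zpowers (f x)⁆ ≤ N := by
      rw [Subgroup.commutator_le]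
      rintro _ ⟨k, hk, rfl⟩ _ ⟨i, rfl⟩
      rw [← QuotientGroup.eq_one_iff, ← QuotientGroup.mk'_apply, map_commutatorElement,
        commutatorElement_eq_one_iff_commute]
      have hc : Commute (QuotientGroup.mk' N (f k)) (QuotientGroup.mk' N (f x)) := by
        rw [← commutatorElement_eq_one_iff_commute, ← map_commutatorElement, QuotientGroup.mk'_apply,
          QuotientGroup.eq_one_iff, ← map_commutatorElement]
        exact Subgroup.mem_map_of_mem f (h k hk)
      rw [map_zpow]
      exact hc.zpow_right i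
    have h2 : ⁅⁅X, Subgroup.zpowers (f x)⁆, X⁆ = ⊥ := by
      rw [eq_bot_iff, ← hXN, Subgroup.commutator_comm X N]
      exact Subgroup.commutator_mono h1 le_rfl
    have h3 : ⁅⁅Subgroup.zpowers (f x), X⁆, X⁆ = ⊥ := by rwa [Subgroup.commutator_comm (Subgroup.zpowers (f x)) X]
    have h4 := Subgroup.commutator_commutator_eq_bot_of_rotate (H₁ := X) (H₂ := X) (H₃ := Subgroup.zpowers (f x))
      h2 h3
    rw [isComponent_commutator_self hX] at h4
    intro y hy
    exact comm_of_commutator_eq_bot h4 hy (Subgroup.mem_zpowers _)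

/-- A component pulls back to a `2`-component along a map with odd kernel. -/
theorem exists_pcomp_preimage {f : G →* H} (hf : Function.Surjective f) (hker : Odd (Nat.card f.ker))
    {X : Subgroup H} (hX : IsComponent X) : ∃ K : Subgroup G, IsPComponent 2 K ∧ K.map f = X := by
  haveI : Fact (Nat.Prime 2) := ⟨Nat.prime_two⟩
  set P := X.comap f with hP
  have hPm : P.map f = X := Subgroup.map_comap_eq_self_of_surjective hf _
  set K := pEl 2 P with hK
  have hKm : K.map f = X := by
    refine le_antisymm (hPm ▸ Subgroup.map_mono (pEl_le _)) ?_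
    conv_lhs => rw [← AfterFT.component_pEl_two oddSolv hX, ← hPm]
    exact le_map_pEl f P
  have hsn : K.IsSubnormal := by
    haveI := (Subgroup.normal_subgroupOf_iff_le_normalizer (pEl_le (p := 2) P)).mpr
      (Subgroup.le_normalizer.trans (normalizer_le_normalizer_pEl P))
    exact Subgroup.IsSubnormal.step _ _ (pEl_le _) (hX.1.comap f) this
  refine ⟨K, isPComponent_of_pEl hsn (pEl_idem _) ?_, hKm⟩
  -- the quotient by the odd core factors through `f`
  have hle : f.ker ≤ (bar 2 G).ker := by rw [QuotientGroup.ker_mk']; exact odd_kernel_le f hker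
  let g : H →* G ⧸ pPrimeCore 2 G :=
    (QuotientGroup.lift f.ker (bar 2 G) hle).comp
      (QuotientGroup.quotientKerEquivOfSurjective f hf).symm.toMonoidHom
  have hg : ∀ x, g (f x) = bar 2 G x := fun x => by
    have e : (QuotientGroup.quotientKerEquivOfSurjective f hf).symm (f x) = QuotientGroup.mk x := by
      rw [MulEquiv.symm_apply_eq]
      rfl
    show QuotientGroup.lift f.ker (bar 2 G) hle ((QuotientGroup.quotientKerEquivOfSurjective f hf).symm (f x)) = _
    rw [e]
    rfl
  have hgs : Function.Surjective g := fun y => by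
    obtain ⟨x, rfl⟩ := bar_surjective 2 y
    exact ⟨f x, hg x⟩
  have hmap : K.map (bar 2 G) = X.map g := by
    rw [← hKm, Subgroup.map_map]
    congr 1
    exact MonoidHom.ext fun x => (hg x).symm
  rw [hmap]
  haveI : Nontrivial (X.map g) := by
    refine (Subgroup.nontrivial_iff_ne_bot _).mpr fun hb => ?_
    rw [← hKm, Subgroup.map_map] at hb
    have hKO : K ≤ pPrimeCore 2 G := fun x hx => by
      have h1 : g (f x) = 1 := Subgroup.mem_bot.mp (hb ▸ ⟨x, hx, rfl⟩)
      rw [hg] at h1
      exact (QuotientGroup.eq_one_iff x).mp h1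
    refine isQuasisimple_not_isSolvable hX.2 (oddSolv _ ?_)
    rw [← hKm]
    exact Nat.coprime_two_right.mp (Nat.Coprime.coprime_dvd_left
      ((Subgroup.card_map_dvd _ _).trans (Subgroup.card_dvd_of_le hKO)) (card_pPrimeCore_coprime 2))
  refine ⟨hX.1.map hgs, isQuasisimple_of_surj_nontrivial (g.subgroupMap X) (g.subgroupMap_surjective X) hX.2⟩

end General

variable {L : Type u} [Group L] [Finite L] {S : Sylow 2 L} {A : Subgroup L}

set_option maxHeartbeats 1000000 in
/-- A perfect group centralising an element of `A` that does not centralise the component `F` it normalises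
centralises `F`. -/
theorem Ctx.perfect_centralizes {M : Type u} [Group M] [Finite M] (hctx : Ctx M) {T : Sylow 2 M} {B : Subgroup M}
    (hT : Closed T B) {b : M} (hb : b ∈ B) {F : Subgroup M} (hF : IsComponent F)
    (hnc : b ∉ Subgroup.centralizer (F : Set M)) {X : Subgroup M} (hXperf : ⁅X, X⁆ = X)
    (hXc : X ≤ Subgroup.centralizer ({b} : Set M)) (hxF : X ≤ Subgroup.normalizer (F : Set M)) :
    X ≤ Subgroup.centralizer (F : Set M) := by
  intro x hx
  haveI : Fact (Nat.Prime 2) := ⟨Nat.prime_two⟩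
  haveI := component_isSimple hF
  have hFn := hctx.closed_normalizes hT hF
  set φ := actQ F ⟨b, hFn hb⟩ with hφ
  have hφ1 : φ ^ 2 = 1 := by
    rw [hφ, ← map_pow, show (⟨b, hFn hb⟩ : Subgroup.normalizer (F : Set M)) ^ 2 = 1 from
      Subtype.ext (hT.elem.2 b hb), map_one]
  obtain ⟨j, -, hj⟩ := (Nat.dvd_prime_pow Nat.prime_two).mp
    (orderOf_dvd_of_pow_eq_one (show φ ^ 2 ^ 1 = 1 by rw [pow_one]; exact hφ1))
  obtain ⟨h1, h2⟩ := hctx.actQ_range F
  obtain ⟨z, hz⟩ := inner_of_two (hctx.comp_listed hF) _ h1 h2 (φ := φ) ⟨_, rfl⟩ hj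
  have hz1 : z ≠ 1 := fun e => hnc (centralizes_of_actQ hF (hFn hb) (by rw [← hφ, ← hz, e, map_one]))
  have hinj : Function.Injective (MulAut.conj : (↥F ⧸ Subgroup.center ↥F) →* _) := by
    rw [← MonoidHom.ker_eq_bot_iff]
    refine ((inferInstance : (MulAut.conj (G := ↥F ⧸ Subgroup.center ↥F)).ker.Normal).eq_bot_or_eq_top).resolve_right
      fun h => component_not_comm hF ⟨⟨fun c e => ?_⟩⟩
    have := DFunLike.congr_fun (MonoidHom.mem_ker.mp (h ▸ Subgroup.mem_top c)) e
    rwa [MulAut.conj_apply, MulAut.one_apply, mul_inv_eq_iff_eq_mul] at this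
  have hzz : z * z = 1 := hinj (by rw [map_mul, hz, map_one, ← pow_two]; exact hφ1)
  let act : X →* MulAut (↥F ⧸ Subgroup.center ↥F) := (actQ F).comp (Subgroup.inclusion hxF)
  have hactz : ∀ y, act y z = z := fun y => hinj (by
    have hc : Commute (act y) φ := by
      rw [hφ]
      refine Commute.map ?_ (actQ F)
      exact Subtype.ext (Subgroup.mem_centralizer_singleton_iff.mp (hXc y.2))
    rw [← hz] at hc
    have e : MulAut.conj (act y z) = act y * MulAut.conj z * (act y)⁻¹ := by
      ext r
      simp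
    rw [e, hc.eq, mul_inv_cancel_right])
  have hperf : commutator X = ⊤ := by
    refine Subgroup.map_injective X.subtype_injective ?_
    rw [commutator_def, Subgroup.map_commutator, ← MonoidHom.range_eq_map, Subgroup.range_subtype, hXperf]
  have hact1 := perfect_fix (hctx.comp_listed hF) hz1 hzz hperf act hactz
  have h3 : act ⟨x, hx⟩ = 1 := by rw [hact1, MonoidHom.one_apply]
  refine centralizes_of_actQ hF (hxF hx) ?_
  rw [show (⟨x, hxF hx⟩ : Subgroup.normalizer (F : Set M)) = Subgroup.inclusion hxF ⟨x, hx⟩ from Subtype.ext rfl]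
  simpa only [act, MonoidHom.comp_apply] using h3

theorem pcomp_map_le_pLayer {M : Type u} [Group M] [Finite M] {R C : Subgroup M} (e : R = C) {K : Subgroup ↥R}
    (hK : IsPComponent 2 K) : K.map R.subtype ≤ (pLayer 2 ↥C).map C.subtype := by
  subst e
  exact Subgroup.map_mono (le_sSup hK)

/-- The restriction of the canonical map of `C(a)` to `C(a) ∩ C(b)`. -/
abbrev res (a b : L) : ↥(cc a ⊓ cc b) →* qq a := (ff a).comp (Subgroup.inclusion inf_le_left)

theorem res_ker_odd (a b : L) : Odd (Nat.card (res a b).ker) := by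
  refine Odd.of_dvd_nat (Nat.coprime_two_right.mp (card_pPrimeCore_coprime (G := ↥(cc a)) 2)) ?_
  rw [← Subgroup.card_map_of_injective (Subgroup.inclusion_injective (inf_le_left : cc a ⊓ cc b ≤ cc a))]
  refine Subgroup.card_dvd_of_le ?_
  rintro _ ⟨x, hx, rfl⟩
  exact (QuotientGroup.eq_one_iff _).mp hx

theorem res_range {a b : L} (hb : b ∈ cc a) (hb2 : b * b = 1) :
    (res a b).range = Subgroup.centralizer ({ff a ⟨b, hb⟩} : Set (qq a)) := by
  have h := bar_centralizer_two (A := Subgroup.zpowers (⟨b, hb⟩ : ↥(cc a))) (zpowers_two (Subtype.ext hb2))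
  rw [MonoidHom.map_zpowers, CfsgLib.CharPLocal.centralizer_zpowers, CfsgLib.CharPLocal.centralizer_zpowers] at h
  rw [← h]
  ext y
  constructor
  · rintro ⟨⟨x, hxa, hxb⟩, rfl⟩
    exact ⟨⟨x, hxa⟩, Subgroup.mem_centralizer_singleton_iff.mpr (Subtype.ext (AfterFT.CoreSep.mem_cc.mp hxb)), rfl⟩
  · rintro ⟨⟨x, hxa⟩, hx, rfl⟩
    exact ⟨⟨x, hxa, AfterFT.CoreSep.mem_cc.mpr
      (congrArg Subtype.val (Subgroup.mem_centralizer_singleton_iff.mp hx))⟩, rfl⟩

/-- The subgroup of `A` centralising the component `E` of `C(a)` modulo core. -/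
def blockD (A : Subgroup L) (a : L) (E : Subgroup (qq a)) : Subgroup L :=
  ((Subgroup.centralizer (E : Set (qq a))).comap (ff a)).map (cc a).subtype ⊓ A

theorem mem_blockD {a x : L} {E : Subgroup (qq a)} (h : x ∈ cc a) :
    x ∈ blockD A a E ↔ x ∈ A ∧ ff a ⟨x, h⟩ ∈ Subgroup.centralizer (E : Set (qq a)) := by
  constructor
  · rintro ⟨⟨y, hy, e⟩, hx⟩
    have : y = ⟨x, h⟩ := Subtype.ext e
    exact ⟨hx, this ▸ hy⟩
  · rintro ⟨hx, hc⟩
    exact ⟨⟨⟨x, h⟩, hc, rfl⟩, hx⟩

theorem blockD_le (a : L) (E : Subgroup (qq a)) : blockD A a E ≤ A := inf_le_right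

theorem self_mem_blockD {a : L} (ha : a ∈ A) (E : Subgroup (qq a)) : a ∈ blockD A a E := by
  have hac : a ∈ cc a := AfterFT.CoreSep.mem_cc.mpr rfl
  refine (mem_blockD hac).mpr ⟨ha, fun e _ => ?_⟩
  obtain ⟨y, rfl⟩ := bar_surjective 2 e
  show ff a y * ff a ⟨a, hac⟩ = ff a ⟨a, hac⟩ * ff a y
  rw [← map_mul, ← map_mul]
  exact congrArg _ (Subtype.ext (AfterFT.CoreSep.mem_cc.mp y.2))

set_option maxHeartbeats 1000000 in
/-- B3: a component not centralised by `A` gives one at each non-identity element of `A` centralising it, with the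
same centraliser in `A`, and containing the images of the perfect subgroups that map into the first one. -/
theorem Hyp.lift' (h : Hyp L) (hA : Closed S A) {a : L} (ha : a ∈ A) {E : Subgroup (qq a)}
    (hE : IsComponent E) {d : L} (hd : d ∈ blockD A a E) (hd1 : d ≠ 1) :
    ∃ E' : Subgroup (qq d), IsComponent E' ∧ blockD A d E' = blockD A a E ∧
      ∀ P : Subgroup L, ⁅P, P⁆ = P → P ≤ cc a → P ≤ cc d → (P.subgroupOf (cc a)).map (ff a) ≤ E →
        (P.subgroupOf (cc d)).map (ff d) ≤ E' := by
  classical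
  haveI : Fact (Nat.Prime 2) := ⟨Nat.prime_two⟩
  have hdA := blockD_le a E hd
  have hda : d ∈ cc a := hA.mem_cc ha hdA
  have had : a ∈ cc d := hA.mem_cc hdA ha
  have hAC : A ≤ cc a ⊓ cc d := le_inf (hA.le_cc ha) (hA.le_cc hdA)
  set C := cc a ⊓ cc d with hC
  -- the maps
  let f : ↥C →* qq a := res a d
  let g : ↥C →* qq d := (ff d).comp (Subgroup.inclusion inf_le_right)
  have hgker : Odd (Nat.card g.ker) := by
    refine Odd.of_dvd_nat (Nat.coprime_two_right.mp (card_pPrimeCore_coprime (G := ↥(cc d)) 2)) ?_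
    rw [← Subgroup.card_map_of_injective (Subgroup.inclusion_injective (inf_le_right : cc a ⊓ cc d ≤ cc d))]
    refine Subgroup.card_dvd_of_le ?_
    rintro _ ⟨x, hx, rfl⟩
    exact (QuotientGroup.eq_one_iff _).mp hx
  have hgr : g.range = Subgroup.centralizer ({ff d ⟨a, had⟩} : Set (qq d)) := by
    rw [← res_range had (hA.sq ha)]
    ext y
    constructor
    · rintro ⟨⟨x, hxa, hxd⟩, rfl⟩
      exact ⟨⟨x, hxd, hxa⟩, rfl⟩
    · rintro ⟨⟨x, hxd, hxa⟩, rfl⟩
      exact ⟨⟨x, hxa, hxd⟩, rfl⟩
  have hEf : E ≤ f.range := by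
    rw [res_range hda (hA.sq hdA)]
    intro e he
    rw [Subgroup.mem_centralizer_singleton_iff]
    exact ((mem_blockD hda).mp hd).2 e he
  -- the component of the centraliser and its `2`-component
  let f' : ↥C →* ↥f.range := f.rangeRestrict
  have hf'ker : Odd (Nat.card f'.ker) := by
    rw [MonoidHom.ker_rangeRestrict]; exact res_ker_odd a d
  have hE0 : IsComponent (E.subgroupOf f.range) := isComponent_subgroupOf hE hEf
  obtain ⟨K, hK, hKf⟩ := exists_pcomp_preimage f.rangeRestrict_surjective hf'ker hE0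
  let g' : ↥C →* ↥g.range := g.rangeRestrict
  have hg'ker : Odd (Nat.card g'.ker) := by
    rw [MonoidHom.ker_rangeRestrict]; exact hgker
  have hX : IsPComponent 2 (K.map g') :=
    isPComponent_map_surjective g' g.rangeRestrict_surjective (odd_kernel_le g' hg'ker) hK
  set X := (K.map g').map g.range.subtype with hXdef
  have hXr : X ≤ g.range := Subgroup.map_subtype_le _
  -- balance
  have hctx := h.ctx (a := d) hd1
  have hXlayer : X ≤ layer (qq d) := by
    rw [← AfterFT.pLayer_two_eq_layer oddSolv hctx.core]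
    refine le_trans ?_ (pLayer_balance_two_centralizer (Subgroup.zpowers (ff d ⟨a, had⟩)) (zpowers_two (by
      rw [← map_mul, show (⟨a, had⟩ : ↥(cc d)) * ⟨a, had⟩ = 1 from Subtype.ext (hA.sq ha), map_one])))
    have e : g.range = Subgroup.centralizer ((Subgroup.zpowers (ff d ⟨a, had⟩) : Subgroup (qq d)) : Set (qq d)) := by
      rw [hgr, CfsgLib.CharPLocal.centralizer_zpowers]
    exact pcomp_map_le_pLayer e hX
  obtain ⟨T, hT⟩ := hA.imA_closed hdA
  set ab := ff d ⟨a, had⟩ with hab
  have habA : ab ∈ imA A d := mem_imA ha had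
  have hXperf : ⁅X, X⁆ = X := by rw [hXdef, ← Subgroup.map_commutator, pcomp_perfect hX]
  have hXc : X ≤ Subgroup.centralizer ({ab} : Set (qq d)) := hgr ▸ hXr
  -- the components centralised by `a` and the others
  set s1 : Set (Subgroup (qq d)) := {F | IsComponent F ∧ ab ∈ Subgroup.centralizer (F : Set (qq d))} with hs1
  set s0 : Set (Subgroup (qq d)) := {F | IsComponent F ∧ ab ∉ Subgroup.centralizer (F : Set (qq d))} with hs0
  set L1 := sSup s1 with hL1
  set L0 := sSup s0 with hL0
  have hL1n : layer (qq d) ≤ Subgroup.normalizer (L1 : Set (qq d)) := by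
    refine sSup_le fun J hJ x hx => mem_normalizer_of_maps fun y hy => ?_
    have hle : L1 ≤ L1.comap (MulAut.conj x).toMonoidHom := sSup_le fun F hF z hz => by
      refine le_sSup (α := Subgroup (qq d)) hF ?_
      exact (Subgroup.mem_normalizer_iff.mp
        (Comp.layer_le_normalizer_component hF.1 (le_layer hJ hx)) z).mp hz
    exact hle hy
  have hcomm10 : ∀ x ∈ L1, ∀ y ∈ L0, x * y = y * x := by
    have h1 : L1 ≤ Subgroup.centralizer (L0 : Set (qq d)) := sSup_le fun F hF => by
      rw [Subgroup.le_centralizer_iff]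
      refine sSup_le fun F' hF' => ?_
      rw [← Subgroup.commutator_eq_bot_iff_le_centralizer]
      exact (components_eq_or_commute hF'.1 hF.1).resolve_left fun e => hF'.2 (e ▸ hF.2)
    exact fun x hx y hy => (h1 hx y hy).symm
  have hXL0 : X ≤ Subgroup.centralizer (L0 : Set (qq d)) := by
    rw [Subgroup.le_centralizer_iff]
    refine sSup_le fun F hF => ?_
    rw [Subgroup.le_centralizer_iff]
    intro x hx
    exact hctx.perfect_centralizes hT habA hF.1 hF.2 hXperf hXc
      (hXlayer.trans (Comp.layer_le_normalizer_component hF.1)) hx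
  have hlayer : layer (qq d) ≤ L1 ⊔ L0 := sSup_le fun F hF => by
    by_cases hc : ab ∈ Subgroup.centralizer (F : Set (qq d))
    · exact le_sup_of_le_left (le_sSup ⟨hF, hc⟩)
    · exact le_sup_of_le_right (le_sSup ⟨hF, hc⟩)
  have hXL1 : X ≤ L1 := by
    set Z0 := L0 ⊓ Subgroup.centralizer (L0 : Set (qq d)) with hZ0
    have hN1 : L0 ≤ Subgroup.normalizer (L1 : Set (qq d)) :=
      (sSup_le fun F hF => le_layer hF.1).trans hL1n
    have hle : X ≤ L1 ⊔ Z0 := by
      intro x hx
      have hm := hlayer (hXlayer hx)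
      have hm' : x ∈ ((L1 ⊔ L0 : Subgroup (qq d)) : Set (qq d)) := hm
      rw [Subgroup.coe_mul_of_right_le_normalizer_left _ _ hN1] at hm'
      obtain ⟨u, hu, v, hv, rfl⟩ := hm'
      refine Subgroup.mul_mem_sup hu ⟨hv, fun w hw => ?_⟩
      have h1 := hXL0 hx w hw
      have h2 := hcomm10 u hu w hw
      refine mul_left_cancel (a := u) ?_
      calc u * (w * v) = (w * (u * v)) := by rw [← mul_assoc, h2, mul_assoc]
        _ = u * v * w := h1
        _ = u * (v * w) := mul_assoc u v w
    have h2 : ⁅L1 ⊔ Z0, L1 ⊔ Z0⁆ ≤ L1 := by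
      have hsplit : ∀ x ∈ L1 ⊔ Z0, ∃ u ∈ L1, ∃ v ∈ Z0, u * v = x := by
        intro x hx
        have hx' : x ∈ ((L1 ⊔ Z0 : Subgroup (qq d)) : Set (qq d)) := hx
        rw [Subgroup.coe_mul_of_right_le_normalizer_left _ _ (inf_le_left.trans hN1)] at hx'
        exact hx'
      rw [Subgroup.commutator_le]
      intro x hx y hy
      obtain ⟨u, hu, v, hv, rfl⟩ := hsplit x hx
      obtain ⟨u', hu', v', hv', rfl⟩ := hsplit y hy
      have c1 : Commute u v' := hcomm10 u hu v' hv'.1
      have c2 : Commute u' v := hcomm10 u' hu' v hv.1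
      have c3 : Commute v v' := (hv.2 v' hv'.1).symm
      have e : ⁅u * v, u' * v'⁆ = ⁅u, u'⁆ := by
        rw [commutatorElement_def, commutatorElement_def, _root_.mul_inv_rev, _root_.mul_inv_rev]
        calc u * v * (u' * v') * (v⁻¹ * u⁻¹) * (v'⁻¹ * u'⁻¹)
            = u * (v * u') * (v' * v⁻¹) * (u⁻¹ * v'⁻¹) * u'⁻¹ := by group
          _ = u * (u' * v) * (v⁻¹ * v') * (v'⁻¹ * u⁻¹) * u'⁻¹ := by
            rw [c2.symm.eq, c3.inv_left.eq, c1.inv_inv.eq]
          _ = u * u' * u⁻¹ * u'⁻¹ := by group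
      rw [e]
      exact mul_mem (mul_mem (mul_mem hu hu') (inv_mem hu)) (inv_mem hu')
    rw [← hXperf]
    exact (Subgroup.commutator_mono hle hle).trans h2
  -- `X` is a component
  have hL1r : L1 ≤ g.range := by
    rw [hgr]
    refine sSup_le fun F hF y hy => ?_
    exact Subgroup.mem_centralizer_singleton_iff.mpr (hF.2 y hy)
  have hL1layer : L1 ≤ layer (qq d) := sSup_le fun F hF => le_layer hF.1
  have hXsn : X.IsSubnormal := by
    haveI : (L1.subgroupOf (layer (qq d))).Normal :=
      (Subgroup.normal_subgroupOf_iff_le_normalizer hL1layer).mpr hL1n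
    have hL1sn : L1.IsSubnormal :=
      Subgroup.IsSubnormal.step _ _ hL1layer (inferInstance : (layer (qq d)).Normal).isSubnormal this
    have h1 : (X.subgroupOf g.range).IsSubnormal := by
      rw [hXdef, Subgroup.subgroupOf, Subgroup.comap_map_eq_self_of_injective g.range.subtype_injective]
      exact hX.1
    have h2 : (X.subgroupOf L1).IsSubnormal := by
      have h3 := h1.comap (Subgroup.inclusion hL1r)
      have e : (X.subgroupOf g.range).comap (Subgroup.inclusion hL1r) = X.subgroupOf L1 := rfl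
      rwa [e] at h3
    have h4 := h2.trans' hL1sn
    rwa [Subgroup.map_subgroupOf_eq_of_le hXL1] at h4
  have hXq : IsQuasisimple X := by
    have hO : pPrimeCore 2 ↥(K.map g') = ⊥ := by
      have e := K.map g' |>.equivMapOfInjective g.range.subtype g.range.subtype_injective
      have h1 : pPrimeCore 2 ↥X = ⊥ := by
        refine (Subgroup.eq_bot_iff_forall _).mpr fun y hy => ?_
        have hle := subnormal_coprime_le (p := 2)
          ((inferInstance : (pPrimeCore 2 ↥X).Normal).isSubnormal.trans' hXsn)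
          (by rw [Subgroup.card_map_of_injective X.subtype_injective]; exact card_pPrimeCore_coprime 2)
          (Subgroup.mem_map_of_mem X.subtype hy)
        rw [hctx.core, Subgroup.mem_bot] at hle
        exact Subtype.ext hle
      have h2 := pPrimeCore_map_equiv 2 e
      rw [show pPrimeCore 2 ↥((K.map g').map g.range.subtype) = ⊥ from h1] at h2
      exact (Subgroup.map_eq_bot_iff_of_injective _ e.injective).mp h2
    have hq := pcomp_quotient_quasisimple hX
    refine isQuasisimple_of_equiv ?_ hq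
    exact ((QuotientGroup.quotientMulEquivOfEq hO).trans QuotientGroup.quotientBot).trans
      ((K.map g').equivMapOfInjective g.range.subtype g.range.subtype_injective)
  have hXcomp : IsComponent X := ⟨hXsn, hXq⟩
  refine ⟨X, hXcomp, ?_, fun P hP hPa hPd hPE => ?_⟩
  swap
  · have hX0 : IsComponent (K.map g') := by
      have h1 := isComponent_subgroupOf hXcomp hXr
      have e : X.subgroupOf g.range = K.map g' := by
        rw [hXdef, Subgroup.subgroupOf, Subgroup.comap_map_eq_self_of_injective g.range.subtype_injective]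
      rwa [e] at h1
    set N0 : Subgroup ↥g.range := f'.ker.map g' with hN0
    haveI : N0.Normal := (inferInstance : f'.ker.Normal).map g' g.rangeRestrict_surjective
    haveI hsolN : Group.IsSolvable N0 := oddSolv _ (hf'ker.of_dvd_nat (Subgroup.card_map_dvd _ _))
    have hXN : ⁅K.map g', N0⁆ = ⊥ :=
      (component_le_or_commutator_eq_bot hX0 N0).resolve_left (component_not_le_of_isSolvable hX0 hsolN)
    have hNX : N0 ≤ Subgroup.normalizer ((K.map g' : Subgroup ↥g.range) : Set ↥g.range) := fun w hw =>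
      mem_normalizer_of_maps fun x hx => by
        rw [← comm_of_commutator_eq_bot hXN hx hw, mul_inv_cancel_right]
        exact hx
    have hPC : P ≤ C := le_inf hPa hPd
    have hperf : ⁅(P.subgroupOf C).map g', (P.subgroupOf C).map g'⁆ = (P.subgroupOf C).map g' := by
      rw [← Subgroup.map_commutator]
      refine congrArg (fun Q : Subgroup ↥C => Q.map g') (Subgroup.map_injective C.subtype_injective ?_)
      rw [Subgroup.map_commutator, Subgroup.map_subgroupOf_eq_of_le hPC, hP]
    have hle : (P.subgroupOf C).map g' ≤ K.map g' ⊔ N0 := by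
      rintro _ ⟨y, hy, rfl⟩
      have hfy : f' y ∈ K.map f' := by
        rw [hKf]
        exact hPE ⟨⟨(y : L), hPa hy⟩, hy, rfl⟩
      obtain ⟨k, hk, hke⟩ := hfy
      have hker : k⁻¹ * y ∈ f'.ker := by
        rw [MonoidHom.mem_ker, map_mul, map_inv, hke, inv_mul_cancel]
      have := Subgroup.mul_mem_sup (Subgroup.mem_map_of_mem g' hk) (Subgroup.mem_map_of_mem g' hker)
      rwa [← map_mul, mul_inv_cancel_left] at this
    have hsub := perfect_le_of_sup hperf hle hNX
    rintro _ ⟨y, hy, rfl⟩
    exact ⟨g' ⟨y, hPC hy⟩, hsub ⟨⟨y, hPC hy⟩, hy, rfl⟩, rfl⟩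
  -- the centralisers agree
  have hX0 : IsComponent (K.map g') := by
    have h1 := isComponent_subgroupOf hXcomp hXr
    have e : X.subgroupOf g.range = K.map g' := by
      rw [hXdef, Subgroup.subgroupOf, Subgroup.comap_map_eq_self_of_injective g.range.subtype_injective]
    rwa [e] at h1
  have hE0' : IsComponent (K.map f') := hKf ▸ hE0
  have hfcent : ∀ x : ↥C, f' x ∈ Subgroup.centralizer ((K.map f' : Subgroup ↥f.range) : Set ↥f.range) ↔
      f x ∈ Subgroup.centralizer (E : Set (qq a)) := by
    intro x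
    rw [hKf]
    constructor
    · intro hx e he
      exact congrArg Subtype.val (hx ⟨e, hEf he⟩ he)
    · intro hx e he
      exact Subtype.ext (hx e he)
  have hgcent : ∀ x : ↥C, g' x ∈ Subgroup.centralizer ((K.map g' : Subgroup ↥g.range) : Set ↥g.range) ↔
      g x ∈ Subgroup.centralizer (X : Set (qq d)) := by
    intro x
    constructor
    · rintro hx _ ⟨y, hy, rfl⟩
      exact congrArg Subtype.val (hx y hy)
    · intro hx y hy
      exact Subtype.ext (hx y ⟨y, hy, rfl⟩)
  ext x
  constructor
  · intro hx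
    have hxA := blockD_le d X hx
    have hxC : x ∈ C := hAC hxA
    refine (mem_blockD (hA.mem_cc ha hxA)).mpr ⟨hxA, ?_⟩
    have h1 := (hgcent ⟨x, hxC⟩).mpr ((mem_blockD (hA.mem_cc hdA hxA)).mp hx).2
    have h2 := (centralizes_iff_comm g.rangeRestrict_surjective hg'ker hX0 ⟨x, hxC⟩).mp h1
    exact (hfcent ⟨x, hxC⟩).mp
      ((centralizes_iff_comm f.rangeRestrict_surjective hf'ker hE0' ⟨x, hxC⟩).mpr h2)
  · intro hx
    have hxA := blockD_le a E hx
    have hxC : x ∈ C := hAC hxA
    refine (mem_blockD (hA.mem_cc hdA hxA)).mpr ⟨hxA, ?_⟩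
    have h1 := (hfcent ⟨x, hxC⟩).mpr ((mem_blockD (hA.mem_cc ha hxA)).mp hx).2
    have h2 := (centralizes_iff_comm f.rangeRestrict_surjective hf'ker hE0' ⟨x, hxC⟩).mp h1
    exact (hgcent ⟨x, hxC⟩).mp
      ((centralizes_iff_comm g.rangeRestrict_surjective hg'ker hX0 ⟨x, hxC⟩).mpr h2)

/-- B3, without the subgroups. -/
theorem Hyp.lift (h : Hyp L) (hA : Closed S A) {a : L} (ha : a ∈ A) {E : Subgroup (qq a)}
    (hE : IsComponent E) {d : L} (hd : d ∈ blockD A a E) (hd1 : d ≠ 1) :
    ∃ E' : Subgroup (qq d), IsComponent E' ∧ blockD A d E' = blockD A a E := by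
  obtain ⟨E', h1, h2, -⟩ := h.lift' hA ha hE hd hd1
  exact ⟨E', h1, h2⟩

end CfsgLib.S3Simple
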