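import Mathlib
import Cfsg.Prelude.Def_LocalEven
import Cfsg.Prelude.Def_Local
import Cfsg.Prelude.Def_TwoFusion

/-!
The shared hypotheses of the classification of `S₃`-free simple groups.

Blueprint: `blueprint/S3Free.md`.
-/

set_option autoImplicit false

namespace CfsgLib.S3Simple

open Cfsg

universe u

variable {L : Type u} [Group L] [Finite L]

/-- A minimal counterexample. -/
structure Hyp (L : Type u) [Group L] [Finite L] : Prop where
  simple : IsSimpleGroup L
  nonabelian : ¬ IsMulCommutative L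
  free : ¬ Involves (Equiv.Perm (Fin 3)) L
  proper : ∀ H : Subgroup L, H ≠ ⊤ → IsCompositionKGroupWith IsSuzukiOrPSL2OddPowerThree H
  not_listed : ¬ IsSuzukiOrPSL2OddPowerThree L

/-- A non-trivial strongly closed elementary abelian subgroup of a Sylow 2-subgroup. -/
structure Closed (S : Sylow 2 L) (A : Subgroup L) : Prop where
  le : A ≤ (S : Subgroup L)
  elem : IsElementaryAbelian 2 A
  ne_bot : A ≠ ⊥
  closed : IsStronglyClosed A (S : Subgroup L)

/-- The normalizer of `A` acts irreducibly on `A`. -/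
def Irred (A : Subgroup L) : Prop :=
  ∀ B : Subgroup L, B ≤ A →
    (∀ g ∈ Subgroup.normalizer (A : Set L), ∀ b ∈ B, g * b * g⁻¹ ∈ B) → B = ⊥ ∨ B = A

/-- The normalizer of `A` has no non-trivial homomorphism to a group of order two. -/
def Focal (A : Subgroup L) : Prop :=
  ∀ ψ : ↥(Subgroup.normalizer (A : Set L)) →* Multiplicative (ZMod 2), ψ = 1

/-- The subgroup generated by the centralisers of the non-identity elements of `A`. -/
def centClosure (A : Subgroup L) : Subgroup L :=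
  ⨆ a : {a : L // a ∈ A ∧ a ≠ 1}, Subgroup.centralizer ({(a : L)} : Set L)

/-- The decomposition `A = D × V` of a component `E` in the centralizer of an element of `D` that is not centralised
by `A`: `D = C_A(E)`, `V = [A, k]`, and `k` is transitive on the non-identity elements of `V`. -/
structure IsBlock (A D V : Subgroup L) (k : L) : Prop where
  D_le : D ≤ A
  V_le : V ≤ A
  disjoint : D ⊓ V = ⊥
  sup : D ⊔ V = A
  D_ne : D ≠ ⊥
  four_le : 4 ≤ Nat.card V
  norm : k ∈ Subgroup.normalizer (A : Set L)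
  cent : ∀ d ∈ D, k * d = d * k
  inv : ∀ v ∈ V, k * v * k⁻¹ ∈ V
  trans : ∀ v ∈ V, v ≠ 1 → ∀ w ∈ V, w ≠ 1 → ∃ i : ℕ, k ^ i * v * (k ^ i)⁻¹ = w

/-- An orbit of blocks with `|V| = q`; two of them whose `D`-parts meet come from commuting components. -/
structure Family (A : Subgroup L) (q : ℕ) (𝔇 : Set (Subgroup L)) (V : Subgroup L → Subgroup L) : Prop where
  nonempty : 𝔇.Nonempty
  block : ∀ D ∈ 𝔇, ∃ k, IsBlock A D (V D) k ∧ Nat.card (V D) = q
  conj : ∀ D ∈ 𝔇, ∀ g ∈ Subgroup.normalizer (A : Set L), D.map (MulAut.conj g).toMonoidHom ∈ 𝔇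
  transitive : ∀ D ∈ 𝔇, ∀ D' ∈ 𝔇, ∃ g ∈ Subgroup.normalizer (A : Set L),
    D.map (MulAut.conj g).toMonoidHom = D'
  meet : ∀ D ∈ 𝔇, ∀ D' ∈ 𝔇, D ≠ D' → D ⊓ D' ≠ ⊥ → V D' ≤ D ∧ V D ≤ D' ∧ V D ⊓ V D' = ⊥

end CfsgLib.S3Simple
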