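import Mathlib

/-!
`PSL₂(3^(2n+1))` has no non-trivial module in characteristic `p ≠ 2, 3` with a four-group fixed point free.

Blueprint: `blueprint/S3Free.md`, 5.2.  The Borel subgroup fixes nothing (sum the four-group orbits over the
unipotent subgroup); the split torus then fixes at most a fourth of the module (in logarithmic size), but it fixes
everything inverted by two of its inverting involutions, a third of the module.
-/

set_option autoImplicit false
set_option linter.unusedSectionVars false
set_option linter.style.haveILetI false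

namespace CfsgLib.S3Simple.ModuleLemma

open Matrix

universe u v

section Counting

variable {G : Type u} [Group G] {V : Type v} [AddCommGroup V] [Finite V] [DistribMulAction G V] {p : ℕ}
  (hp : p.Prime) (hV : ∀ x : V, p • x = 0)
include hp hV

/-- Numbers prime to `p` have no kernel. -/
theorem kill {k : ℕ} (hk : ¬ p ∣ k) {x : V} (h : k • x = 0) : x = 0 := by
  have h1 : addOrderOf x ∣ Nat.gcd p k :=
    Nat.dvd_gcd (addOrderOf_dvd_of_nsmul_eq_zero (hV x)) (addOrderOf_dvd_of_nsmul_eq_zero h)
  rw [(hp.coprime_iff_not_dvd.mpr hk).gcd_eq_one, Nat.dvd_one] at h1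
  exact AddMonoid.addOrderOf_eq_one_iff.mp h1

theorem kill_two (hp2 : p ≠ 2) {x : V} (h : x + x = 0) : x = 0 :=
  kill hp hV (fun h' => hp2 ((Nat.prime_dvd_prime_iff_eq hp Nat.prime_two).mp h')) (k := 2)
    (by rwa [two_nsmul])

/-- Halving is possible. -/
theorem exists_half (hp2 : p ≠ 2) (x : V) : ∃ y : V, y + y = x := by
  refine Finite.surjective_of_injective (f := fun y : V => y + y) (fun a b h => ?_) x
  have h' : a + a = b + b := h
  have : (a - b) + (a - b) = 0 := by rw [sub_add_sub_comm, h', sub_self]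
  exact sub_eq_zero.mp (kill_two hp hV hp2 this)

omit hp hV

/-- The fixed points of an element. -/
def fixOf (V : Type v) [AddCommGroup V] [DistribMulAction G V] (g : G) : AddSubgroup V where
  carrier := {x | g • x = x}
  zero_mem' := smul_zero g
  add_mem' := fun {a b} ha hb => show g • (a + b) = a + b by rw [smul_add, ha, hb]
  neg_mem' := fun {a} ha => show g • -a = -a by rw [smul_neg, ha]

/-- The points negated by an element. -/
def negOf (V : Type v) [AddCommGroup V] [DistribMulAction G V] (g : G) : AddSubgroup V where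
  carrier := {x | g • x = -x}
  zero_mem' := by show g • (0 : V) = -0; rw [smul_zero, neg_zero]
  add_mem' := fun {a b} ha hb => show g • (a + b) = -(a + b) by rw [smul_add, ha, hb, neg_add]
  neg_mem' := fun {a} ha => show g • -a = - -a by rw [smul_neg, ha]

theorem mem_fixOf {g : G} {x : V} : x ∈ fixOf V g ↔ g • x = x := Iff.rfl

theorem mem_negOf {g : G} {x : V} : x ∈ negOf V g ↔ g • x = -x := Iff.rfl

include hp hV

/-- An element acting as an involution splits the module. -/
theorem card_fix_mul_neg (hp2 : p ≠ 2) {t : G} (ht : ∀ x : V, t • t • x = x) :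
    Nat.card (fixOf V t) * Nat.card (negOf V t) = Nat.card V := by
  rw [← Nat.card_prod]
  refine Nat.card_eq_of_bijective (fun q => (q.1 : V) + q.2) ⟨fun q q' h => ?_, fun x => ?_⟩
  · have h' : (q.1 : V) + q.2 = q'.1 + q'.2 := h
    have h'' : (q.1 : V) - q.2 = q'.1 - q'.2 := by
      have := congrArg (t • ·) h'
      simp only [smul_add] at this
      rwa [q.1.2, q.2.2, q'.1.2, q'.2.2, ← sub_eq_add_neg, ← sub_eq_add_neg] at this
    have e1 : ((q.1 : V) - q'.1) + ((q.1 : V) - q'.1) = 0 := by
      have e : ((q.1 : V) - q'.1) + ((q.1 : V) - q'.1) =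
          (((q.1 : V) + q.2) - (q'.1 + q'.2)) + (((q.1 : V) - q.2) - (q'.1 - q'.2)) := by abel
      rw [e, h', h'', sub_self, sub_self, add_zero]
    have e : (q.1 : V) = q'.1 := sub_eq_zero.mp (kill_two hp hV hp2 e1)
    exact Prod.ext (Subtype.ext e) (Subtype.ext (add_left_cancel (e ▸ h')))
  · obtain ⟨y, hy⟩ := exists_half hp hV hp2 x
    refine ⟨(⟨y + t • y, ?_⟩, ⟨y - t • y, ?_⟩), ?_⟩
    · rw [mem_fixOf, smul_add, ht, add_comm]
    · rw [mem_negOf, smul_sub, ht, neg_sub]
    · show y + t • y + (y - t • y) = x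
      rw [← hy]; abel

/-- A commuting pair of involutions without common fixed points: three pieces. -/
theorem card_three (hp2 : p ≠ 2) {s t : G} (hs : ∀ x : V, s • s • x = x) (ht : ∀ x : V, t • t • x = x)
    (hst : ∀ x : V, s • t • x = t • s • x) (hfix : ∀ x : V, s • x = x → t • x = x → x = 0) :
    Nat.card (fixOf V s) * Nat.card (fixOf V t) * Nat.card (fixOf V (s * t)) = Nat.card V := by
  have hA : ∀ a : V, s • a = a → t • a = -a := fun a ha => eq_neg_of_add_eq_zero_right (hfix _
    (by rw [smul_add, ha, hst, ha]) (by rw [smul_add, ht, add_comm]))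
  have hB : ∀ a : V, t • a = a → s • a = -a := fun a ha => eq_neg_of_add_eq_zero_right (hfix _
    (by rw [smul_add, hs, add_comm]) (by rw [smul_add, ha, ← hst, ha]))
  have hC : ∀ a : V, (s * t) • a = a → s • a = -a := fun a ha => by
    rw [mul_smul] at ha
    have e : t • a = s • a := by
      have := congrArg (s • ·) ha
      simpa [hs] using this
    exact eq_neg_of_add_eq_zero_right (hfix _ (by rw [smul_add, hs, add_comm])
      (by rw [smul_add, e, ← hst, ha, add_comm]))
  rw [← Nat.card_prod, ← Nat.card_prod]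
  refine Nat.card_eq_of_bijective (fun q => (q.1.1 : V) + q.1.2 + q.2) ⟨?_, fun x => ?_⟩
  · rintro ⟨⟨⟨a, ha⟩, ⟨b, hb⟩⟩, ⟨c, hc⟩⟩ ⟨⟨⟨a', ha'⟩, ⟨b', hb'⟩⟩, ⟨c', hc'⟩⟩ h
    have hsum : (a - a') + (b - b') + (c - c') = 0 := by
      have h0 : a + b + c = a' + b' + c' := h
      rw [show (a - a') + (b - b') + (c - c') = (a + b + c) - (a' + b' + c') by abel, h0, sub_self]
    have h1 := congrArg (s • ·) hsum
    simp only [smul_add, smul_sub, smul_zero, mem_fixOf.mp ha, mem_fixOf.mp ha', hB b hb, hB b' hb',
      hC c hc, hC c' hc'] at h1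
    have e1 : a = a' := sub_eq_zero.mp (kill_two hp hV hp2 (by
      rw [show (a - a') + (a - a') = ((a - a') + (b - b') + (c - c')) + ((a - a') + (-b - -b') + (-c - -c')) by abel,
        hsum, h1, add_zero]))
    subst e1
    have h2 := congrArg (t • ·) hsum
    simp only [smul_add, smul_sub, smul_zero, hA a ha, mem_fixOf.mp hb, mem_fixOf.mp hb'] at h2
    have htc : ∀ y : V, (s * t) • y = y → t • y = -y := fun y hy => by
      have hsy := hC y hy
      rw [mul_smul] at hy
      have := congrArg (s • ·) hy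
      simp only [hs] at this
      rw [this, hsy]
    rw [htc c hc, htc c' hc'] at h2
    have e2 : b = b' := sub_eq_zero.mp (kill_two hp hV hp2 (by
      rw [show (b - b') + (b - b') = ((a - a) + (b - b') + (c - c')) + ((-a - -a) + (b - b') + (-c - -c')) by abel,
        hsum, h2, add_zero]))
    subst e2
    simp only [sub_self, zero_add] at hsum
    obtain rfl := sub_eq_zero.mp hsum
    rfl
  · obtain ⟨y, hy⟩ := exists_half hp hV hp2 x
    have h0 : y + s • y + t • y + (s * t) • y = 0 := hfix _
      (by simp only [smul_add, mul_smul, hs]; abel)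
      (by simp only [smul_add, mul_smul, ht, ← hst]; abel)
    refine ⟨((⟨y + s • y, ?_⟩, ⟨y + t • y, ?_⟩), ⟨y + (s * t) • y, ?_⟩), ?_⟩
    · rw [mem_fixOf, smul_add, hs, add_comm]
    · rw [mem_fixOf, smul_add, ht, add_comm]
    · rw [mem_fixOf, smul_add, mul_smul, mul_smul, ← hst (t • y), ht, hs, add_comm]
    · show y + s • y + (y + t • y) + (y + (s * t) • y) = x
      rw [← hy, show y + s • y + (y + t • y) + (y + (s * t) • y) = (y + y) + (y + s • y + t • y + (s * t) • y) by abel,
        h0, add_zero]

omit hp hV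

theorem card_mul_le (A B : AddSubgroup V) :
    Nat.card A * Nat.card B ≤ Nat.card {x : V // x ∈ A ∧ x ∈ B} * Nat.card V := by
  let f : A × B →+ V :=
    { toFun := fun q => (q.1 : V) + q.2
      map_zero' := add_zero _
      map_add' := fun q q' => add_add_add_comm _ _ _ _ }
  rw [← Nat.card_prod, f.ker.card_eq_card_quotient_mul_card_addSubgroup, mul_comm]
  refine Nat.mul_le_mul ?_ ?_
  · refine Nat.card_le_card_of_injective (fun q => ⟨q.1.1, q.1.1.2, ?_⟩) fun q q' h => ?_
    · have h : (q.1.1 : V) + q.1.2 = 0 := q.2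
      rw [eq_neg_of_add_eq_zero_left h]
      exact neg_mem q.1.2.2
    · have h1 : (q.1.1 : V) = q'.1.1 := congrArg (fun z : {x : V // x ∈ A ∧ x ∈ B} => z.1) h
      have hq : (q.1.1 : V) + q.1.2 = 0 := q.2
      have hq' : (q'.1.1 : V) + q'.1.2 = 0 := q'.2
      exact Subtype.ext (Prod.ext (Subtype.ext h1) (Subtype.ext (add_left_cancel
        (a := (q.1.1 : V)) (hq.trans (h1.symm ▸ hq').symm))))
  · rw [Nat.card_congr (QuotientAddGroup.quotientKerEquivRange f).toEquiv]
    exact Nat.card_le_card_of_injective _ Subtype.val_injective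

end Counting

section Group

variable {F : Type u} [Field F]

/-- A matrix of determinant one. -/
def mat (a b c d : F) (h : a * d - b * c = 1) : SpecialLinearGroup (Fin 2) F :=
  ⟨!![a, b; c, d], by rw [det_fin_two_of]; exact h⟩

/-- The unipotent elements. -/
def uni (z : F) : SpecialLinearGroup (Fin 2) F := mat 1 z 0 1 (by ring)

/-- The diagonal elements. -/
def dia (e : Fˣ) : SpecialLinearGroup (Fin 2) F := mat (e : F) 0 0 ((e⁻¹ : Fˣ) : F) (by simp)

/-- The standard element of order four. -/
def wey : SpecialLinearGroup (Fin 2) F := mat 0 1 (-1) 0 (by ring)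

theorem ext4 {A B : SpecialLinearGroup (Fin 2) F} (h00 : A.1 0 0 = B.1 0 0) (h01 : A.1 0 1 = B.1 0 1)
    (h10 : A.1 1 0 = B.1 1 0) (h11 : A.1 1 1 = B.1 1 1) : A = B := by
  refine Subtype.ext (Matrix.ext fun i j => ?_)
  fin_cases i <;> fin_cases j <;> assumption

theorem mul_apply00 (A B : SpecialLinearGroup (Fin 2) F) :
    (A * B).1 0 0 = A.1 0 0 * B.1 0 0 + A.1 0 1 * B.1 1 0 := by
  simp [Matrix.mul_apply, Fin.sum_univ_two]

theorem mul_apply01 (A B : SpecialLinearGroup (Fin 2) F) :
    (A * B).1 0 1 = A.1 0 0 * B.1 0 1 + A.1 0 1 * B.1 1 1 := by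
  simp [Matrix.mul_apply, Fin.sum_univ_two]

theorem mul_apply10 (A B : SpecialLinearGroup (Fin 2) F) :
    (A * B).1 1 0 = A.1 1 0 * B.1 0 0 + A.1 1 1 * B.1 1 0 := by
  simp [Matrix.mul_apply, Fin.sum_univ_two]

theorem mul_apply11 (A B : SpecialLinearGroup (Fin 2) F) :
    (A * B).1 1 1 = A.1 1 0 * B.1 0 1 + A.1 1 1 * B.1 1 1 := by
  simp [Matrix.mul_apply, Fin.sum_univ_two]

theorem neg_apply' (A : SpecialLinearGroup (Fin 2) F) (i j : Fin 2) : (-A).1 i j = -(A.1 i j) := rfl

theorem mat00 {a b c d : F} (h : a * d - b * c = 1) : (mat a b c d h).1 0 0 = a := rfl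

theorem mat01 {a b c d : F} (h : a * d - b * c = 1) : (mat a b c d h).1 0 1 = b := rfl

theorem mat10 {a b c d : F} (h : a * d - b * c = 1) : (mat a b c d h).1 1 0 = c := rfl

theorem mat11 {a b c d : F} (h : a * d - b * c = 1) : (mat a b c d h).1 1 1 = d := rfl

theorem one_apply' : (1 : SpecialLinearGroup (Fin 2) F).1 0 0 = 1 ∧ (1 : SpecialLinearGroup (Fin 2) F).1 0 1 = 0 ∧
    (1 : SpecialLinearGroup (Fin 2) F).1 1 0 = 0 ∧ (1 : SpecialLinearGroup (Fin 2) F).1 1 1 = 1 :=
  ⟨rfl, rfl, rfl, rfl⟩

theorem uni_add (y z : F) : uni (y + z) = uni y * uni z := by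
  refine ext4 ?_ ?_ ?_ ?_ <;> simp [uni, mat00, mat01, mat10, mat11, mul_apply00, mul_apply01, mul_apply10, mul_apply11, neg_apply', one_apply', add_comm]

theorem dia_pow (e : Fˣ) : ∀ k : ℕ, dia (e ^ k) = dia e ^ k
  | 0 => by refine ext4 ?_ ?_ ?_ ?_ <;> simp [dia, mat00, mat01, mat10, mat11, mul_apply00, mul_apply01, mul_apply10, mul_apply11, neg_apply', one_apply']
  | k + 1 => by
    rw [pow_succ, pow_succ (dia e), ← dia_pow e k]
    refine ext4 ?_ ?_ ?_ ?_ <;> simp [dia, mat00, mat01, mat10, mat11, mul_apply00, mul_apply01, mul_apply10, mul_apply11, neg_apply', one_apply', pow_succ, mul_comm]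

theorem dia_uni (e : Fˣ) (z : F) : dia e * uni z = uni ((e : F) * e * z) * dia e := by
  refine ext4 ?_ ?_ ?_ ?_ <;> simp [dia, uni, mat00, mat01, mat10, mat11, mul_apply00, mul_apply01, mul_apply10, mul_apply11, neg_apply', one_apply']
  field_simp

/-- An element with non-zero lower left corner. -/
theorem bruhat (A : SpecialLinearGroup (Fin 2) F) (hc : A.1 1 0 ≠ 0) :
    A = uni (A.1 0 0 / A.1 1 0) * wey * dia (-Units.mk0 _ hc) * uni (A.1 1 1 / A.1 1 0) := by
  have hdet : A.1 0 0 * A.1 1 1 - A.1 0 1 * A.1 1 0 = 1 := by rw [← det_fin_two]; exact A.2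
  refine ext4 ?_ ?_ ?_ ?_ <;> simp [dia, uni, wey, mat00, mat01, mat10, mat11, mul_apply00, mul_apply01, mul_apply10, mul_apply11, neg_apply', one_apply'] <;> field_simp
  linear_combination -hdet

/-- An element with lower left corner zero. -/
theorem upper (A : SpecialLinearGroup (Fin 2) F) (hc : A.1 1 0 = 0) :
    ∃ (e : Fˣ) (z : F), A = dia e * uni z := by
  have hdet : A.1 0 0 * A.1 1 1 = 1 := by
    have h := A.2
    rw [det_fin_two, hc] at h
    simpa using h
  have h0 : A.1 0 0 ≠ 0 := left_ne_zero_of_mul_eq_one hdet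
  refine ⟨Units.mk0 _ h0, A.1 0 1 / A.1 0 0, ?_⟩
  refine ext4 ?_ ?_ ?_ ?_ <;> simp [dia, uni, mat00, mat01, mat10, mat11, mul_apply00, mul_apply01, mul_apply10, mul_apply11, neg_apply', one_apply', hc] <;> field_simp
  linear_combination hdet

theorem neg_mem_center : (-1 : SpecialLinearGroup (Fin 2) F) ∈ Subgroup.center (SpecialLinearGroup (Fin 2) F) :=
  Subgroup.mem_center_iff.mpr fun g => by simp

theorem pm_of_center {Z : SpecialLinearGroup (Fin 2) F}
    (hZ : Z ∈ Subgroup.center (SpecialLinearGroup (Fin 2) F)) : Z = 1 ∨ Z = -1 := by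
  obtain ⟨r, hr, hZr⟩ := Matrix.SpecialLinearGroup.mem_center_iff.mp hZ
  rw [Fintype.card_fin, sq, ← sub_eq_zero] at hr
  have h : (r - 1) * (r + 1) = 0 := by linear_combination hr
  rcases mul_eq_zero.mp h with h | h
  · left
    rw [sub_eq_zero] at h
    exact Subtype.ext (by rw [← hZr, h, map_one]; rfl)
  · right
    rw [add_eq_zero_iff_eq_neg] at h
    exact Subtype.ext (by rw [← hZr, h, map_neg, map_one]; rfl)

variable (h2 : (2 : F) ≠ 0) (hm : ∀ x : F, x * x ≠ -1) (hsq : ∀ x : F, ∃ s : F, s * s = x ∨ s * s = -x)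
include h2 hm hsq

/-- An element of order four in `SL₂` squares to `-1`, has trace zero and is not upper triangular. -/
theorem trace_zero {A : SpecialLinearGroup (Fin 2) F} (hA : A ≠ 1) (hA' : A ≠ -1)
    (hAA : A * A = 1 ∨ A * A = -1) :
    A.1 1 1 = -A.1 0 0 ∧ A.1 1 0 ≠ 0 := by
  have hdet : A.1 0 0 * A.1 1 1 - A.1 0 1 * A.1 1 0 = 1 := by rw [← det_fin_two]; exact A.2
  have e : (A * A).1 = !![A.1 0 0 * A.1 0 0 + A.1 0 1 * A.1 1 0, A.1 0 0 * A.1 0 1 + A.1 0 1 * A.1 1 1;
      A.1 1 0 * A.1 0 0 + A.1 1 1 * A.1 1 0, A.1 1 0 * A.1 0 1 + A.1 1 1 * A.1 1 1] := by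
    rw [Matrix.eta_fin_two (A * A).1, mul_apply00, mul_apply01, mul_apply10, mul_apply11]
  rcases hAA with h | h <;> rw [h] at e
  · have e00 := congrFun (congrFun e 0) 0
    have e01 := congrFun (congrFun e 0) 1
    have e10 := congrFun (congrFun e 1) 0
    have e11 := congrFun (congrFun e 1) 1
    simp at e00 e01 e10 e11
    exfalso
    have hne : A.1 0 0 + A.1 1 1 ≠ 0 := fun h0 => h2 (by linear_combination e00 - hdet + A.1 0 0 * h0)
    have hb : A.1 0 1 = 0 := (mul_eq_zero.mp (show A.1 0 1 * (A.1 0 0 + A.1 1 1) = 0 by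
      linear_combination -e01)).resolve_right hne
    have hc : A.1 1 0 = 0 := (mul_eq_zero.mp (show A.1 1 0 * (A.1 0 0 + A.1 1 1) = 0 by
      linear_combination -e10)).resolve_right hne
    rw [hb, hc] at hdet e00
    have had : A.1 0 0 = A.1 1 1 := by linear_combination (-A.1 0 0) * hdet - (A.1 1 1) * e00
    have h1 : (A.1 0 0 - 1) * (A.1 0 0 + 1) = 0 := by linear_combination -e00
    rcases mul_eq_zero.mp h1 with h1 | h1
    · rw [sub_eq_zero] at h1
      exact hA (ext4 (by simp [h1]) (by simp [hb]) (by simp [hc]) (by simp [← had, h1]))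
    · rw [add_eq_zero_iff_eq_neg] at h1
      exact hA' (ext4 (by simp [h1]) (by simp [hb]) (by simp [hc]) (by simp [← had, h1]))
  · have e00 := congrFun (congrFun e 0) 0
    simp at e00
    refine ⟨?_, fun hc => ?_⟩
    · have h0 : A.1 0 0 * (A.1 0 0 + A.1 1 1) = 0 := by linear_combination hdet - e00
      rcases mul_eq_zero.mp h0 with h0 | h0
      · have e01 := congrFun (congrFun e 0) 1
        simp at e01
        rw [h0] at hdet e01
        rcases mul_eq_zero.mp (show A.1 0 1 * A.1 1 1 = 0 by linear_combination -e01) with hb | hd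
        · rw [hb] at hdet
          simp at hdet
        · rw [h0, hd, neg_zero]
      · exact eq_neg_of_add_eq_zero_right h0
    · rw [hc] at e00
      exact hm (A.1 0 0) (by linear_combination -e00)

/-- All elements of trace zero are conjugate, up to sign, to the standard one. -/
theorem conj_wey {A : SpecialLinearGroup (Fin 2) F} (h11 : A.1 1 1 = -A.1 0 0) (hc : A.1 1 0 ≠ 0) :
    ∃ P : SpecialLinearGroup (Fin 2) F, A * P = P * wey ∨ A * P = -(P * wey) := by
  have hdet : A.1 0 0 * A.1 1 1 - A.1 0 1 * A.1 1 0 = 1 := by rw [← det_fin_two]; exact A.2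
  rw [h11] at hdet
  obtain ⟨s, hs | hs⟩ := hsq (-(A.1 1 0)⁻¹)
  · refine ⟨mat s (-(s * A.1 0 0)) 0 (-(s * A.1 1 0)) ?_, Or.inl (ext4 ?_ ?_ ?_ ?_)⟩
    · have hc1 : (A.1 1 0)⁻¹ * A.1 1 0 = 1 := inv_mul_cancel₀ hc
      linear_combination (-(A.1 1 0)) * hs + hc1
    all_goals simp [mat00, mat01, mat10, mat11, mul_apply00, mul_apply01, mul_apply10, mul_apply11, neg_apply', one_apply', wey, h11]
    all_goals first | ring1 | linear_combination s * hdet | linear_combination (-s) * hdet
  · refine ⟨mat s (s * A.1 0 0) 0 (s * A.1 1 0) ?_, Or.inr (ext4 ?_ ?_ ?_ ?_)⟩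
    · have hc1 : (A.1 1 0)⁻¹ * A.1 1 0 = 1 := inv_mul_cancel₀ hc
      linear_combination A.1 1 0 * hs + hc1
    all_goals simp [mat00, mat01, mat10, mat11, mul_apply00, mul_apply01, mul_apply10, mul_apply11, neg_apply', one_apply', wey, h11]
    all_goals first | ring1 | linear_combination s * hdet | linear_combination (-s) * hdet

end Group

section Main

variable {F : Type u} [Field F] [Fintype F] {V : Type v} [AddCommGroup V] [Finite V]
  [DistribMulAction (SpecialLinearGroup (Fin 2) F) V] {p : ℕ} (hp : p.Prime) (hp2 : p ≠ 2) (hp3 : p ≠ 3)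
  (hV : ∀ x : V, p • x = 0) (hneg : ∀ x : V, (-1 : SpecialLinearGroup (Fin 2) F) • x = x)
  {n : ℕ} (hn : 1 ≤ n) (hF : Fintype.card F = 3 ^ (2 * n + 1))
include hp hp2 hp3 hV hneg hn hF

theorem neg_smul_mat (A : SpecialLinearGroup (Fin 2) F) (x : V) : (-A) • x = A • x := by
  rw [show -A = (-1 : SpecialLinearGroup (Fin 2) F) * A from (neg_one_mul A).symm, mul_smul, hneg]

theorem field_facts : CharP F 3 ∧ (2 : F) ≠ 0 ∧ (∀ x : F, x * x ≠ -1) ∧
    (∀ x : F, ∃ s : F, s * s = x ∨ s * s = -x) ∧ 27 ≤ Fintype.card F := by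
  haveI : Fact (Nat.Prime 3) := ⟨Nat.prime_three⟩
  haveI hc : CharP F 3 := charP_of_card_eq_prime_pow hF
  obtain ⟨r, hr⟩ : ∃ r, Fintype.card F = 4 * r + 3 := by
    refine ⟨(3 ^ (2 * n + 1)) / 4, ?_⟩
    rw [hF]
    have : 3 ^ (2 * n + 1) % 4 = 3 := by
      rw [pow_succ, pow_mul, Nat.mul_mod, Nat.pow_mod]
      norm_num
    omega
  refine ⟨hc, ?_, fun x hx => ?_, fun x => ?_, ?_⟩
  · intro h
    have h' : ((2 : ℕ) : F) = 0 := by exact_mod_cast h
    rw [CharP.cast_eq_zero_iff F 3] at h'
    omega
  · exact absurd hr (by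
      have h := FiniteField.isSquare_neg_one_iff.mp (⟨x, hx.symm⟩ : IsSquare (-1 : F))
      omega)
  · rcases eq_or_ne x 0 with rfl | hx
    · exact ⟨0, Or.inl (mul_zero 0)⟩
    have h1 : (x ^ (2 * r + 1) - 1) * (x ^ (2 * r + 1) + 1) = 0 := by
      have := FiniteField.pow_card_sub_one_eq_one x hx
      rw [hr, show 4 * r + 3 - 1 = (2 * r + 1) + (2 * r + 1) by omega, pow_add] at this
      linear_combination this
    refine ⟨x ^ (r + 1), ?_⟩
    rcases mul_eq_zero.mp h1 with h | h
    · exact Or.inl (by
        rw [← pow_add, show r + 1 + (r + 1) = 2 * r + 1 + 1 by omega, pow_succ, sub_eq_zero.mp h, one_mul])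
    · exact Or.inr (by
        rw [← pow_add, show r + 1 + (r + 1) = 2 * r + 1 + 1 by omega, pow_succ, eq_neg_of_add_eq_zero_left h,
          neg_one_mul])
  · rw [hF]
    calc 27 = 3 ^ 3 := rfl
      _ ≤ _ := Nat.pow_le_pow_right (by norm_num) (by omega)

theorem not_dvd_pow (k : ℕ) : ¬ p ∣ 3 ^ k := fun h =>
  hp3 ((Nat.prime_dvd_prime_iff_eq hp Nat.prime_three).mp (hp.dvd_of_dvd_pow h))

/-- The Borel subgroup fixes nothing. -/
theorem borel {a b : F} (hab : a * a + b * b = -1)
    (hfix : ∀ x : V, (wey : SpecialLinearGroup (Fin 2) F) • x = x →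
      mat a b b (-a) (by linear_combination -hab) • x = x → x = 0)
    {x : V} (hu : ∀ z : F, uni z • x = x) (hd : ∀ e : Fˣ, dia e • x = x) : x = 0 := by
  classical
  obtain ⟨hc3, h2, hm, hsq, h27⟩ := field_facts hp hp2 hp3 hV hneg hn hF
  have ha : a ≠ 0 := fun h => hm b (by rw [h] at hab; linear_combination hab)
  have hb : b ≠ 0 := fun h => hm a (by rw [h] at hab; linear_combination hab)
  set v := mat a b b (-a) (by linear_combination -hab) with hv
  let S0 : V := ∑ z : F, uni z • (wey : SpecialLinearGroup (Fin 2) F) • x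
  have hno : ∀ A : SpecialLinearGroup (Fin 2) F, A.1 1 0 ≠ 0 → ∑ z : F, uni z • A • x = S0 := by
    intro A hA
    conv_lhs => rw [bruhat A hA]
    simp only [mul_smul, hu, hd]
    simp only [← mul_smul, ← uni_add]
    exact Fintype.sum_equiv (Equiv.addRight (A.1 0 0 / A.1 1 0)) _ _ fun z => by
      rw [← mul_assoc, ← uni_add, mul_smul]; rfl
  have hyes : ∀ A : SpecialLinearGroup (Fin 2) F, A.1 1 0 = 0 → ∑ z : F, uni z • A • x = Fintype.card F • x := by
    intro A hA
    obtain ⟨e, y, rfl⟩ := upper A hA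
    simp [mul_smul, hu, hd]
  have hww : ∀ y : V, (wey : SpecialLinearGroup (Fin 2) F) • (wey : SpecialLinearGroup (Fin 2) F) • y = y := fun y => by
    rw [← mul_smul, show (wey * wey : SpecialLinearGroup (Fin 2) F) = -1 by
      refine ext4 ?_ ?_ ?_ ?_ <;> simp [wey, mat00, mat01, mat10, mat11, mul_apply00, mul_apply01, mul_apply10, mul_apply11, neg_apply', one_apply'], hneg]
  have hvv : ∀ y : V, v • v • y = y := fun y => by
    rw [← mul_smul, show v * v = -1 by
      refine ext4 ?_ ?_ ?_ ?_ <;> simp [hv, mat00, mat01, mat10, mat11, mul_apply00, mul_apply01, mul_apply10, mul_apply11, neg_apply', one_apply'] <;> first | ring1 | linear_combination hab | linear_combination -hab, hneg]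
  have hwv : ∀ y : V, (wey : SpecialLinearGroup (Fin 2) F) • v • y = v • (wey : SpecialLinearGroup (Fin 2) F) • y :=
    fun y => by
    rw [← mul_smul, ← mul_smul, show wey * v = -(v * wey) by
      refine ext4 ?_ ?_ ?_ ?_ <;> simp [wey, hv, mat00, mat01, mat10, mat11, mul_apply00, mul_apply01, mul_apply10, mul_apply11, neg_apply', one_apply'],
      neg_smul_mat hp hp2 hp3 hV hneg hn hF]
  have horb : ∀ y : V, y + (wey : SpecialLinearGroup (Fin 2) F) • y + v • y +
      (wey * v : SpecialLinearGroup (Fin 2) F) • y = 0 := fun y => hfix _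
    (by simp only [smul_add, mul_smul, hww]; abel)
    (by simp only [smul_add, mul_smul, hvv, ← hwv]; abel)
  have hsum : ∀ A : SpecialLinearGroup (Fin 2) F,
      ∑ z : F, uni z • A • x + ∑ z : F, uni z • (wey * A) • x + ∑ z : F, uni z • (v * A) • x +
        ∑ z : F, uni z • (wey * v * A) • x = 0 := fun A => by
    rw [← Finset.sum_add_distrib, ← Finset.sum_add_distrib, ← Finset.sum_add_distrib]
    refine Finset.sum_eq_zero fun z _ => ?_
    rw [← smul_add, ← smul_add, ← smul_add, mul_smul wey A, mul_smul v A, mul_smul (wey * v) A, horb, smul_zero]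
  have e1 := hsum 1
  rw [hyes _ (by simp), hno _ (by simp [wey, mat00, mat01, mat10, mat11, mul_apply00, mul_apply01, mul_apply10, mul_apply11, neg_apply', one_apply']), hno _ (by simp [hv, mat00, mat01, mat10, mat11, mul_apply00, mul_apply01, mul_apply10, mul_apply11, neg_apply', one_apply', hb]),
    hno _ (by simp [wey, hv, mat00, mat01, mat10, mat11, mul_apply00, mul_apply01, mul_apply10, mul_apply11, neg_apply', one_apply', ha])] at e1
  obtain ⟨s, hs⟩ : ∃ s : F, s ∉ ({0, a / b, -(b / a)} : Finset F) := by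
    by_contra hall
    push Not at hall
    have := Finset.card_le_card (s := (Finset.univ : Finset F)) fun y _ => hall y
    rw [Finset.card_univ] at this
    have := Finset.card_le_three (a := (0 : F)) (b := a / b) (c := -(b / a))
    omega
  simp only [Finset.mem_insert, Finset.mem_singleton, not_or] at hs
  have e2 := hsum (mat s (-1) 1 0 (by ring))
  rw [hno _ (by simp [mat00, mat01, mat10, mat11, mul_apply00, mul_apply01, mul_apply10, mul_apply11, neg_apply', one_apply']), hno _ (by simp [wey, mat00, mat01, mat10, mat11, mul_apply00, mul_apply01, mul_apply10, mul_apply11, neg_apply', one_apply', hs.1]),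
    hno _ (by
      simp [hv, mat00, mat01, mat10, mat11, mul_apply00, mul_apply01, mul_apply10, mul_apply11, neg_apply', one_apply']
      exact fun h => hs.2.1 (by field_simp; linear_combination h)),
    hno _ (by
      simp [wey, hv, mat00, mat01, mat10, mat11, mul_apply00, mul_apply01, mul_apply10, mul_apply11, neg_apply', one_apply']
      exact fun h => hs.2.2 (by field_simp; linear_combination -h))] at e2
  have h4 : S0 = 0 := kill_two hp hV hp2 (kill_two hp hV hp2 (by rw [← e2]; abel))
  rw [h4, add_zero, add_zero, add_zero, hF] at e1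
  exact kill hp hV (not_dvd_pow hp hp2 hp3 hV hneg hn hF _) e1

/-- A four-group without fixed points: the module is trivial. -/
theorem trivial_of_four {a b : F} (hab : a * a + b * b = -1)
    (hfix : ∀ x : V, (wey : SpecialLinearGroup (Fin 2) F) • x = x →
      mat a b b (-a) (by linear_combination -hab) • x = x → x = 0) : ∀ x : V, x = 0 := by
  classical
  obtain ⟨hc3, h2, hm, hsq, h27⟩ := field_facts hp hp2 hp3 hV hneg hn hF
  haveI := hc3
  have hneg' := neg_smul_mat hp hp2 hp3 hV hneg hn hF
  have ha : a ≠ 0 := fun h => hm b (by rw [h] at hab; linear_combination hab)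
  have hb : b ≠ 0 := fun h => hm a (by rw [h] at hab; linear_combination hab)
  set v := mat a b b (-a) (by linear_combination -hab) with hv
  -- all the involutions have equally many fixed points
  have hinv : ∀ A : SpecialLinearGroup (Fin 2) F, A.1 1 1 = -A.1 0 0 → A.1 1 0 ≠ 0 →
      (∀ y : V, A • A • y = y) ∧ Nat.card (fixOf V A) = Nat.card (fixOf V (wey : SpecialLinearGroup (Fin 2) F)) := by
    intro A h11 hc
    have hdet : A.1 0 0 * A.1 1 1 - A.1 0 1 * A.1 1 0 = 1 := by rw [← det_fin_two]; exact A.2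
    rw [h11] at hdet
    refine ⟨fun y => ?_, ?_⟩
    · rw [← mul_smul, show A * A = -1 by
        refine ext4 ?_ ?_ ?_ ?_ <;> simp [mat00, mat01, mat10, mat11, mul_apply00, mul_apply01, mul_apply10, mul_apply11, neg_apply', one_apply', h11] <;> first | ring1 | linear_combination -hdet | linear_combination hdet, hneg]
    · obtain ⟨P, hP⟩ := conj_wey h2 hm hsq h11 hc
      have hAP : ∀ y : V, A • P • y = P • (wey : SpecialLinearGroup (Fin 2) F) • y := fun y => by
        rw [← mul_smul, ← mul_smul]
        rcases hP with h | h <;> rw [h]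
        rw [hneg']
      refine (Nat.card_congr (Equiv.subtypeEquiv (MulAction.toPerm P) fun y => ?_)).symm
      show wey • y = y ↔ A • P • y = P • y
      rw [hAP]
      exact (MulAction.injective P).eq_iff.symm
  obtain ⟨hww, -⟩ := hinv wey (by simp [wey, mat00, mat01, mat10, mat11, mul_apply00, mul_apply01, mul_apply10, mul_apply11, neg_apply', one_apply']) (by simp [wey, mat00, mat01, mat10, mat11, mul_apply00, mul_apply01, mul_apply10, mul_apply11, neg_apply', one_apply'])
  obtain ⟨hvv, hcv⟩ := hinv v (by simp [hv, mat00, mat01, mat10, mat11, mul_apply00, mul_apply01, mul_apply10, mul_apply11, neg_apply', one_apply']) (by simp [hv, mat00, mat01, mat10, mat11, mul_apply00, mul_apply01, mul_apply10, mul_apply11, neg_apply', one_apply', hb])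
  obtain ⟨-, hcwv⟩ := hinv (wey * v) (by simp [wey, hv, mat00, mat01, mat10, mat11, mul_apply00, mul_apply01, mul_apply10, mul_apply11, neg_apply', one_apply'])
    (by simp [wey, hv, mat00, mat01, mat10, mat11, mul_apply00, mul_apply01, mul_apply10, mul_apply11, neg_apply', one_apply', ha])
  obtain ⟨g, hg⟩ := IsCyclic.exists_generator (α := Fˣ)
  obtain ⟨hhw, hchw⟩ := hinv (dia g * wey) (by simp [wey, dia, mat00, mat01, mat10, mat11, mul_apply00, mul_apply01, mul_apply10, mul_apply11, neg_apply', one_apply'])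
    (by simp [wey, dia, mat00, mat01, mat10, mat11, mul_apply00, mul_apply01, mul_apply10, mul_apply11, neg_apply', one_apply'])
  have hwv : ∀ y : V, (wey : SpecialLinearGroup (Fin 2) F) • v • y = v • (wey : SpecialLinearGroup (Fin 2) F) • y :=
    fun y => by
    rw [← mul_smul, ← mul_smul, show wey * v = -(v * wey) by
      refine ext4 ?_ ?_ ?_ ?_ <;> simp [wey, hv, mat00, mat01, mat10, mat11, mul_apply00, mul_apply01, mul_apply10, mul_apply11, neg_apply', one_apply'], hneg']
  set c := Nat.card (fixOf V (wey : SpecialLinearGroup (Fin 2) F)) with hc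
  have hV3 : Nat.card V = c * c * c := by
    rw [← card_three hp hV hp2 hww hvv hwv hfix, hcv, hcwv]
  have hc0 : 0 < c := Nat.card_pos
  have hN : ∀ t : SpecialLinearGroup (Fin 2) F, (∀ y : V, t • t • y = y) → Nat.card (fixOf V t) = c →
      Nat.card (negOf V t) = c * c := fun t ht htc => by
    have h := card_fix_mul_neg hp hV hp2 ht
    rw [htc, hV3, mul_assoc] at h
    exact Nat.eq_of_mul_eq_mul_left hc0 h
  -- the torus fixes at least `c` points
  have hlow : c ≤ Nat.card (fixOf V (dia g)) := by
    have h := card_mul_le (negOf V (wey : SpecialLinearGroup (Fin 2) F)) (negOf V (dia g * wey))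
    rw [hN _ hww rfl, hN _ hhw hchw, hV3] at h
    have hle : Nat.card {x : V // x ∈ negOf V (wey : SpecialLinearGroup (Fin 2) F) ∧ x ∈ negOf V (dia g * wey)} ≤
        Nat.card (fixOf V (dia g)) := by
      refine Nat.card_le_card_of_injective (fun x => ⟨x.1, ?_⟩)
        fun x y h => Subtype.ext (congrArg (fun z : fixOf V (dia g) => (z : V)) h)
      have h2 : (dia g * wey) • x.1 = -x.1 := x.2.2
      rw [mul_smul, mem_negOf.mp x.2.1, smul_neg, neg_inj] at h2
      exact h2
    refine Nat.le_of_mul_le_mul_right (c := _) ?_ (show 0 < c * c * c by positivity)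
    calc c * (c * c * c) = c * c * (c * c) := by ring
      _ ≤ _ := h
      _ ≤ _ := Nat.mul_le_mul_right _ hle
  -- a functional on the field
  letI := ZMod.algebra F 3
  obtain ⟨φ, hφ⟩ : ∃ φ : F →ₗ[ZMod 3] ZMod 3, ∃ e, φ e = 1 := by
    let B := Module.Free.chooseBasis (ZMod 3) F
    obtain ⟨i⟩ := B.index_nonempty
    exact ⟨B.coord i, B i, by simp⟩
  obtain ⟨e0, he0⟩ := hφ
  let K : F → Finset F := fun l => Finset.univ.filter fun z => φ (l * z) = 0
  have hKmem : ∀ {l z : F}, z ∈ K l ↔ φ (l * z) = 0 := fun {l z} => by simp [K]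
  let P : F → V → V := fun l y => ∑ z ∈ K l, uni z • y
  let S : V → V := fun y => ∑ z : F, uni z • y
  set r := (K 1).card with hr
  have h3r : Fintype.card F = 3 * r := by
    have e : F ≃ ZMod 3 × K 1 :=
      { toFun := fun z => (φ z, ⟨z - (φ z).val • e0, hKmem.mpr (by
          rw [one_mul, map_sub, map_nsmul, he0, nsmul_one, ZMod.natCast_zmod_val, sub_self])⟩)
        invFun := fun q => q.1.val • e0 + q.2.1
        left_inv := fun z => by simp
        right_inv := fun q => by
          have h : φ (q.1.val • e0 + q.2.1) = q.1 := by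
            rw [map_add, map_nsmul, he0, nsmul_one, ZMod.natCast_zmod_val,
              show φ q.2.1 = 0 by simpa using hKmem.mp q.2.2, add_zero]
          refine Prod.ext h (Subtype.ext ?_)
          simp only [h]
          abel }
    rw [Fintype.card_congr e, Fintype.card_prod, ZMod.card, Fintype.card_coe]
  have hpr : ¬ p ∣ r := fun h => not_dvd_pow hp hp2 hp3 hV hneg hn hF (2 * n + 1) (by
    rw [← hF, h3r]; exact Dvd.dvd.mul_left h 3)
  have hfixK : ∀ (l : F) (z : F), z ∈ K l → ∀ y, uni z • P l y = P l y := fun l z hz y => by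
    simp only [P, Finset.smul_sum, ← mul_smul, ← uni_add]
    exact Finset.sum_bij' (fun w _ => z + w) (fun w _ => w - z)
      (fun w hw => hKmem.mpr (by rw [mul_add, map_add, hKmem.mp hz, hKmem.mp hw, add_zero]))
      (fun w hw => hKmem.mpr (by rw [mul_sub, map_sub, hKmem.mp hz, hKmem.mp hw, sub_zero]))
      (fun w _ => add_sub_cancel_left z w) (fun w _ => add_sub_cancel z w) fun w _ => rfl
  have hPS : ∀ (l : F) (y : V), S (P l y) = P l (S y) := fun l y => by
    simp only [S, P, Finset.smul_sum, ← mul_smul, ← uni_add]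
    rw [Finset.sum_comm]
    simp only [add_comm]
  -- the points fixed by the torus
  let Ct := fixOf V (dia g)
  have hdia : ∀ x ∈ Ct, ∀ e : Fˣ, dia e • x = x := fun x hx e => by
    obtain ⟨k, rfl⟩ : ∃ k : ℕ, g ^ k = e :=
      Submonoid.mem_powers_iff _ _ |>.mp ((mem_powers_iff_mem_zpowers).mpr (hg e))
    rw [dia_pow]
    clear * - hx
    induction k with
    | zero => rw [pow_zero, one_smul]
    | succ k ih => rw [pow_succ, mul_smul, hx, ih]
  have hS0 : ∀ x ∈ Ct, S x = 0 := fun x hx => by
    refine borel hp hp2 hp3 hV hneg hn hF hab hfix (fun z => ?_) fun e => ?_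
    · simp only [S, Finset.smul_sum, ← mul_smul, ← uni_add]
      exact Fintype.sum_equiv (Equiv.addLeft z) _ _ fun w => rfl
    · simp only [S, Finset.smul_sum, ← mul_smul, dia_uni]
      simp only [mul_smul, hdia x hx e]
      exact Fintype.sum_equiv (Equiv.mulLeft₀ ((e : F) * e) (by simp)) _ _ fun w => rfl
  have hshift : ∀ x ∈ Ct, ∀ (e : Fˣ) (l : F), dia e • P (l * (e * e)) x = P l x := fun x hx e l => by
    simp only [P, Finset.smul_sum, ← mul_smul, dia_uni]
    simp only [mul_smul, hdia x hx e]
    exact Finset.sum_bij' (fun w _ => (e : F) * e * w) (fun w _ => w / ((e : F) * e))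
      (fun w hw => hKmem.mpr (by rw [show l * ((e : F) * e * w) = l * (e * e) * w by ring]; exact hKmem.mp hw))
      (fun w hw => hKmem.mpr (by
        rw [show l * ((e : F) * e) * (w / ((e : F) * e)) = l * w by field_simp]; exact hKmem.mp hw))
      (fun w _ => by field_simp) (fun w _ => by field_simp) fun w _ => rfl
  have hPneg : ∀ (l : F) (y : V), P (-l) y = P l y := fun l y => by
    have : K (-l) = K l := Finset.ext fun z => by simp [hKmem, neg_mul, map_neg]
    simp [P, this]
  have hinj : ∀ x ∈ Ct, P 1 x = 0 → x = 0 := by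
    intro x hx h1
    have hall : ∀ l : F, P l x = 0 := fun l => by
      rcases eq_or_ne l 0 with rfl | hl
      · have : K 0 = Finset.univ := Finset.ext fun z => by simp [hKmem]
        show ∑ z ∈ K 0, uni z • x = 0
        rw [this]
        exact hS0 x hx
      obtain ⟨s, hs⟩ := hsq l⁻¹
      have hs0 : s ≠ 0 := fun h => by rw [h] at hs; simp [hl, eq_comm] at hs
      have hz : P (l * (s * s)) x = 0 := by
        rcases hs with hs | hs
        · rw [hs, mul_inv_cancel₀ hl, h1]
        · rw [hs, mul_neg, mul_inv_cancel₀ hl, hPneg, h1]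
      have := hshift x hx (Units.mk0 s hs0) l
      rw [Units.val_mk0, hz, smul_zero] at this
      exact this.symm
    have htot : ∑ l : F, P l x = (2 * r) • x + r • S x := by
      have hc0' : ∀ z : F, (Finset.univ.filter fun l : F => φ (l * z) = 0).card = r + if z = 0 then 2 * r else 0 := by
        intro z
        split_ifs with hz
        · subst hz
          simp [h3r]
          omega
        · rw [add_zero, hr]
          exact Finset.card_bij' (fun l _ => l * z) (fun l _ => l / z)
            (fun l hl => hKmem.mpr (by simpa using hl)) (fun l hl => by simpa [hz] using hKmem.mp hl)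
            (fun l _ => by field_simp) fun l _ => by field_simp
      calc ∑ l : F, P l x = ∑ z : F, ∑ _l ∈ Finset.univ.filter (fun l : F => φ (l * z) = 0), uni z • x := by
            refine Finset.sum_comm' fun l z => ?_
            simp [hKmem]
        _ = _ := by
            simp only [Finset.sum_const, hc0', add_smul, ite_smul, zero_smul]
            rw [Finset.sum_add_distrib, Finset.sum_ite_eq' Finset.univ (0 : F), if_pos (Finset.mem_univ _),
              ← Finset.smul_sum, add_comm, show uni (0 : F) = 1 by refine ext4 ?_ ?_ ?_ ?_ <;> simp [uni, mat00, mat01, mat10, mat11, mul_apply00, mul_apply01, mul_apply10, mul_apply11, neg_apply', one_apply'],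
              one_smul]
    rw [Finset.sum_eq_zero fun l _ => hall l, hS0 x hx, smul_zero, add_zero] at htot
    refine kill hp hV (fun h => ?_) htot.symm
    rcases hp.dvd_mul.mp h with h | h
    · exact hp2 ((Nat.prime_dvd_prime_iff_eq hp Nat.prime_two).mp h)
    · exact hpr h
  -- four translates
  let l : Fin 4 → F := fun i => ((g ^ (i : ℕ) * g ^ (i : ℕ) : Fˣ) : F)
  have hl : ∀ i j, i ≠ j → l i ≠ l j ∧ l i ≠ -l j := by
    intro i j hij
    have hord : orderOf g = Fintype.card F - 1 := by
      rw [orderOf_eq_card_of_forall_mem_zpowers hg, Nat.card_eq_fintype_card, Fintype.card_units]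
    have key : ∀ i j : Fin 4, i < j → ((l i) * (l i) ≠ (l j) * (l j)) := by
      intro i j hlt h
      simp only [l, ← pow_add, ← Units.val_mul] at h
      have h' := Units.ext h
      have : g ^ ((j : ℕ) + j + (j + j) - ((i : ℕ) + i + (i + i))) = 1 := by
        rw [pow_sub g (by omega), h', mul_inv_cancel]
      have hd := orderOf_dvd_of_pow_eq_one this
      have := Nat.le_of_dvd (by omega) hd
      have := j.isLt
      omega
    constructor <;> intro h <;> rcases lt_or_gt_of_ne hij with hlt | hlt
    · exact key i j hlt (by rw [h])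
    · exact key j i hlt (by rw [h])
    · exact key i j hlt (by rw [h, neg_mul_neg])
    · exact key j i hlt (by rw [h, neg_mul_neg])
  have hsur : ∀ l m : F, l ≠ 0 → l ≠ m → l ≠ -m → m ≠ 0 → ∀ z, ∃ w ∈ K l, z - w ∈ K m := by
    intro l m hl0 h1 h2' hm0 z
    obtain ⟨w0, hw0, hw0m⟩ : ∃ w0, φ (l * w0) = 0 ∧ φ (m * w0) ≠ 0 := by
      by_contra hno
      push Not at hno
      obtain ⟨e, he⟩ : ∃ e, φ (l * e) = 1 := ⟨e0 / l, by rw [show l * (e0 / l) = e0 by field_simp]; exact he0⟩
      have hfun : ∀ y, φ ((m - (φ (m * e)).val • l) * y) = 0 := fun y => by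
        have := hno (y - (φ (l * y)).val • e) (by
          rw [mul_sub, map_sub, mul_smul_comm, map_nsmul, he, nsmul_one, ZMod.natCast_zmod_val, sub_self])
        rw [mul_sub, map_sub, mul_smul_comm, map_nsmul, nsmul_eq_mul, ZMod.natCast_zmod_val, sub_eq_zero] at this
        rw [sub_mul, smul_mul_assoc, map_sub, map_nsmul, nsmul_eq_mul, ZMod.natCast_zmod_val, this, mul_comm, sub_self]
      by_cases hd : m - (φ (m * e)).val • l = 0
      · rw [sub_eq_zero] at hd
        have hlt := ZMod.val_lt (φ (m * e))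
        interval_cases hv : (φ (m * e)).val
        · exact hm0 (by simpa using hd)
        · exact h1 (by simpa using hd.symm)
        · refine h2' ?_
          have h3 : (3 : ℕ) • l = 0 := by rw [nsmul_eq_mul, CharP.cast_eq_zero, zero_mul]
          rw [succ_nsmul, ← hd] at h3
          exact eq_neg_of_add_eq_zero_right h3
      · have := hfun (e0 / (m - (φ (m * e)).val • l))
        rw [mul_div_cancel₀ _ hd, he0] at this
        exact one_ne_zero this
    refine ⟨(φ (m * z) / φ (m * w0)).val • w0, hKmem.mpr ?_, hKmem.mpr ?_⟩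
    · rw [mul_smul_comm, map_nsmul, hw0, smul_zero]
    · rw [mul_sub, map_sub, mul_smul_comm, map_nsmul, nsmul_eq_mul, ZMod.natCast_zmod_val, div_mul_cancel₀ _ hw0m,
        sub_self]
  let Φ : (Fin 4 → Ct) → V := fun f => ∑ i, P (l i) (f i)
  have hPadd : ∀ (m : F) (y y' : V), P m (y - y') = P m y - P m y' := fun m y y' => by
    simp only [P, smul_sub, Finset.sum_sub_distrib]
  have hΦ : Function.Injective Φ := by
    intro f f' h
    funext j
    have h0 : ∑ i, P (l i) ((f i : V) - f' i) = 0 := by
      simp only [hPadd, Finset.sum_sub_distrib]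
      exact sub_eq_zero.mpr h
    have h1 : P (l j) (∑ i, P (l i) ((f i : V) - f' i)) = 0 := by
      rw [h0]; simp [P]
    have hlin : P (l j) (∑ i, P (l i) ((f i : V) - f' i)) = ∑ i, P (l j) (P (l i) ((f i : V) - f' i)) := by
      simp only [P, Finset.smul_sum]
      rw [Finset.sum_comm]
    rw [hlin, Finset.sum_eq_single j (fun i _ hij => ?_) (by simp)] at h1
    · have hself : P (l j) (P (l j) ((f j : V) - f' j)) = (K (l j)).card • P (l j) ((f j : V) - f' j) := by
        show ∑ z ∈ K (l j), uni z • P (l j) _ = _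
        rw [Finset.sum_congr rfl fun z hz => hfixK (l j) z hz _, Finset.sum_const]
      have hcard : (K (l j)).card = r :=
        Finset.card_bij' (fun z _ => l j * z) (fun z _ => z / l j) (fun z hz => hKmem.mpr (by simpa using hKmem.mp hz))
          (fun z hz => hKmem.mpr (by
            rw [mul_div_cancel₀ _ (Units.ne_zero _)]; simpa using hKmem.mp hz))
          (fun z _ => by field_simp [l]) fun z _ => by field_simp [l]
      rw [hself, hcard] at h1
      have h2 := kill hp hV hpr h1
      refine Subtype.ext (sub_eq_zero.mp (hinj _ (sub_mem (f j).2 (f' j).2) ?_))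
      have h3 := hshift _ (sub_mem (f j).2 (f' j).2) (g ^ (j : ℕ)) 1
      rw [one_mul, ← Units.val_mul, h2, smul_zero] at h3
      exact h3.symm
    · set y := P (l j) (P (l i) ((f i : V) - f' i)) with hy
      have hfixy : ∀ z : F, uni z • y = y := by
        intro z
        obtain ⟨hne1, hne2⟩ := hl j i hij.symm
        obtain ⟨w, hw, hzw⟩ := hsur (l j) (l i) (Units.ne_zero _) hne1 hne2 (Units.ne_zero _) z
        rw [show z = w + (z - w) by abel, uni_add, mul_smul]
        have : uni (z - w) • y = y := by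
          rw [hy]
          show uni (z - w) • ∑ t ∈ K (l j), uni t • P (l i) _ = _
          simp only [Finset.smul_sum, ← mul_smul, ← uni_add, add_comm (z - w)]
          simp only [uni_add, mul_smul, hfixK (l i) _ hzw]
          rfl
        rw [this, hy, hfixK (l j) w hw]
      have h1 : S y = Fintype.card F • y := by simp [S, hfixy]
      have h2 : S y = 0 := by
        rw [hy, hPS, hPS, hS0 _ (sub_mem (f i).2 (f' i).2)]
        simp [P]
      rw [h2, hF] at h1
      exact kill hp hV (not_dvd_pow hp hp2 hp3 hV hneg hn hF _) h1.symm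
  have hup : Nat.card (fixOf V (dia g)) ^ 4 ≤ c * c * c := by
    rw [← hV3]
    simpa [Nat.card_fun] using Nat.card_le_card_of_injective Φ hΦ
  have hc1 : c = 1 := by
    have h4 : c ^ 4 ≤ c * c * c := (Nat.pow_le_pow_left hlow 4).trans hup
    by_contra h
    have h2c : 2 ≤ c := by omega
    have : c * c * c < c ^ 4 := by
      calc c * c * c = c ^ 3 := by ring
        _ < c ^ 4 := Nat.pow_lt_pow_right h2c (by norm_num)
    omega
  intro x
  rw [hc1] at hV3
  obtain ⟨hs, -⟩ := Nat.card_eq_one_iff_unique.mp hV3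
  exact hs.elim x 0

end Main

end CfsgLib.S3Simple.ModuleLemma

namespace CfsgLib.S3Simple

open Matrix ModuleLemma

/-- `PSL₂(3^(2n+1))` has no module in characteristic `p ≠ 2, 3` with a four-group fixed point free. -/
theorem no_fpf_four {F : Type} [Field F] [Fintype F] {n : ℕ} (hn : 1 ≤ n) (hF : Fintype.card F = 3 ^ (2 * n + 1))
    {M : Type*} [CommGroup M] [Finite M] {p : ℕ} (hp : p.Prime) (hp2 : p ≠ 2) (hp3 : p ≠ 3)
    (hM : ∀ m : M, m ^ p = 1) (act : Matrix.ProjectiveSpecialLinearGroup (Fin 2) F →* MulAut M)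
    (T : Subgroup (Matrix.ProjectiveSpecialLinearGroup (Fin 2) F)) (hT : IsKleinFour T)
    (hfix : ∀ m, (∀ t ∈ T, act t m = m) → m = 1) : ∀ m : M, m = 1 := by
  classical
  let π : SpecialLinearGroup (Fin 2) F →* ProjectiveSpecialLinearGroup (Fin 2) F := QuotientGroup.mk' _
  letI : DistribMulAction (SpecialLinearGroup (Fin 2) F) (Additive M) :=
    { smul := fun g x => Additive.ofMul (act (π g) x.toMul)
      one_smul := fun x => by show Additive.ofMul (act (π 1) x.toMul) = x; rw [map_one, map_one]; rfl
      mul_smul := fun g g' x => by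
        show Additive.ofMul (act (π (g * g')) x.toMul) = Additive.ofMul (act (π g) (act (π g') x.toMul))
        rw [map_mul, map_mul]; rfl
      smul_zero := fun g => congrArg Additive.ofMul (map_one (act (π g)))
      smul_add := fun g x y => congrArg Additive.ofMul (map_mul (act (π g)) x.toMul y.toMul) }
  have hV : ∀ x : Additive M, p • x = 0 := fun x => hM x.toMul
  have hneg : ∀ x : Additive M, (-1 : SpecialLinearGroup (Fin 2) F) • x = x := fun x => by
    show Additive.ofMul (act (π (-1)) x.toMul) = x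
    rw [show π (-1) = 1 from (QuotientGroup.eq_one_iff _).mpr neg_mem_center, map_one]
    rfl
  obtain ⟨-, h2, hm, hsq, -⟩ := field_facts hp hp2 hp3 hV hneg hn hF
  haveI : Finite T := Finite.of_fintype _
  have hsquare : ∀ t ∈ T, t * t = 1 := fun t ht => congrArg Subtype.val (hT.mul_self ⟨t, ht⟩)
  -- two generators
  obtain ⟨s, hs, hs1⟩ : ∃ s ∈ T, s ≠ 1 := by
    rcases T.bot_or_exists_ne_one with h | h
    · have := hT.card_four
      rw [h, Subgroup.card_bot] at this
      omega
    · exact h
  obtain ⟨t, ht, hts, ht1⟩ : ∃ t ∈ T, t ≠ s ∧ t ≠ 1 := by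
    by_contra hno
    push Not at hno
    have hle : Nat.card T ≤ Nat.card ({1, s} : Set (ProjectiveSpecialLinearGroup (Fin 2) F)) := by
      refine Nat.card_le_card_of_injective (fun x => ⟨x.1, ?_⟩)
        fun x y h => Subtype.ext (congrArg (fun z : ({1, s} : Set _) => z.1) h)
      by_cases h : x.1 = s
      · exact Or.inr h
      · exact Or.inl (hno x x.2 h)
    rw [hT.card_four, Nat.card_coe_set_eq, Set.ncard_pair (Ne.symm hs1)] at hle
    omega
  have hgen : ∀ x ∈ T, x = 1 ∨ x = s ∨ x = t ∨ x = s * t := by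
    intro x hx
    by_contra hno
    push Not at hno
    have hst1 : s * t ≠ 1 := fun h => hts (by rw [← mul_left_cancel (h.trans (hsquare s hs).symm)])
    have hsts : s * t ≠ s := fun h => ht1 (mul_eq_left.mp h)
    have hstt : s * t ≠ t := fun h => hs1 (mul_eq_right.mp h)
    let f : Fin 5 → T := ![1, ⟨s, hs⟩, ⟨t, ht⟩, ⟨s * t, T.mul_mem hs ht⟩, ⟨x, hx⟩]
    have hf : Function.Injective f := by
      intro i j h
      have h' := congrArg Subtype.val h
      fin_cases i <;> fin_cases j <;>
        first
        | rfl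
        | (exfalso; simp [f] at h'; first
            | exact hs1 h' | exact hs1 h'.symm | exact ht1 h' | exact ht1 h'.symm | exact hts h' | exact hts h'.symm
            | exact hst1 h' | exact hst1 h'.symm | exact hsts h' | exact hsts h'.symm | exact hstt h'
            | exact hstt h'.symm | exact hno.1 h' | exact hno.1 h'.symm | exact hno.2.1 h' | exact hno.2.1 h'.symm
            | exact hno.2.2.1 h' | exact hno.2.2.1 h'.symm | exact hno.2.2.2 h' | exact hno.2.2.2 h'.symm)
    have := Nat.card_le_card_of_injective f hf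
    rw [Nat.card_fin, hT.card_four] at this
    omega
  -- the lifts
  have hcen : ∀ A B : SpecialLinearGroup (Fin 2) F, π A = π B → A = B ∨ A = -B := by
    intro A B h
    have hz : B⁻¹ * A ∈ Subgroup.center (SpecialLinearGroup (Fin 2) F) := (QuotientGroup.eq).mp h.symm
    rcases pm_of_center hz with h | h
    · exact Or.inl (inv_mul_eq_one.mp h).symm
    · refine Or.inr ?_
      rw [inv_mul_eq_iff_eq_mul] at h
      rw [h, mul_neg_one]
  have hπneg : ∀ A : SpecialLinearGroup (Fin 2) F, π (-A) = π A := fun A => by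
    rw [show -A = -1 * A from (neg_one_mul A).symm, map_mul,
      show π (-1) = 1 from (QuotientGroup.eq_one_iff _).mpr neg_mem_center, one_mul]
  have hlift : ∀ x : ProjectiveSpecialLinearGroup (Fin 2) F, x * x = 1 → x ≠ 1 →
      ∃ A, π A = x ∧ A.1 1 1 = -A.1 0 0 ∧ A.1 1 0 ≠ 0 := by
    intro x hx hx1
    obtain ⟨A, rfl⟩ := QuotientGroup.mk'_surjective _ x
    refine ⟨A, rfl, trace_zero h2 hm hsq (fun e => hx1 (by rw [e, map_one]))
      (fun e => hx1 ((QuotientGroup.eq_one_iff _).mpr (e ▸ neg_mem_center))) ?_⟩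
    rw [← map_mul, ← map_one π] at hx
    exact hcen _ _ hx
  obtain ⟨A, hA, hA11, hA10⟩ := hlift s (hsquare s hs) hs1
  obtain ⟨Q, hQ⟩ := conj_wey h2 hm hsq hA11 hA10
  have hs' : π wey = (π Q)⁻¹ * s * π Q := by
    rw [← hA, mul_assoc, ← map_mul π A Q]
    rcases hQ with h | h <;> rw [h]
    · rw [map_mul, inv_mul_cancel_left]
    · rw [hπneg, map_mul, inv_mul_cancel_left]
  obtain ⟨B, hB, hB11, hB10⟩ := hlift ((π Q)⁻¹ * t * π Q)
    (by
      rw [show (π Q)⁻¹ * t * π Q * ((π Q)⁻¹ * t * π Q) = (π Q)⁻¹ * (t * t) * π Q by group, hsquare t ht, mul_one,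
        inv_mul_cancel])
    fun e => ht1 (by
      rw [show t = π Q * ((π Q)⁻¹ * t * π Q) * (π Q)⁻¹ by group, e, mul_one, mul_inv_cancel])
  have hst : t * s = s * t := congrArg Subtype.val (mul_comm_of_exponent_two hT.exponent_two ⟨t, ht⟩ ⟨s, hs⟩)
  have hBw : π (B * wey) = π (wey * B) := by
    rw [map_mul, map_mul, hB, hs', show (π Q)⁻¹ * t * π Q * ((π Q)⁻¹ * s * π Q) = (π Q)⁻¹ * (t * s) * π Q by group,
      hst]
    group
  have hdet : B.1 0 0 * B.1 1 1 - B.1 0 1 * B.1 1 0 = 1 := by rw [← det_fin_two]; exact B.2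
  rw [hB11] at hdet
  have hbc : B.1 1 0 = B.1 0 1 := by
    rcases hcen _ _ hBw with h | h
    · exfalso
      have h00 := congrArg (fun M : SpecialLinearGroup (Fin 2) F => M.1 0 0) h
      have h01 := congrArg (fun M : SpecialLinearGroup (Fin 2) F => M.1 0 1) h
      simp [wey, mat00, mat01, mat10, mat11, mul_apply00, mul_apply01, mul_apply10, mul_apply11, neg_apply', one_apply', hB11] at h00 h01
      have ha0 : B.1 0 0 = 0 := (mul_eq_zero.mp (show (2 : F) * B.1 0 0 = 0 by linear_combination h01)).resolve_left h2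
      rw [ha0] at hdet
      have hb2 : (B.1 1 0 - 1) * (B.1 1 0 + 1) = 0 := by linear_combination hdet - B.1 1 0 * h00
      rcases mul_eq_zero.mp hb2 with hb2 | hb2
      · rw [sub_eq_zero] at hb2
        have : B = -wey := ext4 (by simp [wey, mat00, mat01, mat10, mat11, mul_apply00, mul_apply01, mul_apply10, mul_apply11, neg_apply', one_apply', ha0]) (by simp [wey, mat00, mat01, mat10, mat11, mul_apply00, mul_apply01, mul_apply10, mul_apply11, neg_apply', one_apply']; linear_combination -h00 - hb2)
          (by simp [wey, mat00, mat01, mat10, mat11, mul_apply00, mul_apply01, mul_apply10, mul_apply11, neg_apply', one_apply', hb2]) (by simp [wey, mat00, mat01, mat10, mat11, mul_apply00, mul_apply01, mul_apply10, mul_apply11, neg_apply', one_apply', hB11, ha0])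
        rw [this, hπneg, hs'] at hB
        exact hts (mul_left_cancel (mul_right_cancel hB)).symm
      · rw [add_eq_zero_iff_eq_neg] at hb2
        have : B = wey := ext4 (by simp [wey, mat00, mat01, mat10, mat11, mul_apply00, mul_apply01, mul_apply10, mul_apply11, neg_apply', one_apply', ha0]) (by simp [wey, mat00, mat01, mat10, mat11, mul_apply00, mul_apply01, mul_apply10, mul_apply11, neg_apply', one_apply']; linear_combination -h00 - hb2)
          (by simp [wey, mat00, mat01, mat10, mat11, mul_apply00, mul_apply01, mul_apply10, mul_apply11, neg_apply', one_apply', hb2]) (by simp [wey, mat00, mat01, mat10, mat11, mul_apply00, mul_apply01, mul_apply10, mul_apply11, neg_apply', one_apply', hB11, ha0])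
        rw [this, hs'] at hB
        exact hts (mul_left_cancel (mul_right_cancel hB)).symm
    · have h00 := congrArg (fun M : SpecialLinearGroup (Fin 2) F => M.1 0 0) h
      simp [wey, mat00, mat01, mat10, mat11, mul_apply00, mul_apply01, mul_apply10, mul_apply11, neg_apply', one_apply'] at h00
      first | linear_combination h00 | linear_combination -h00
  rw [hbc] at hdet
  have hab : B.1 0 0 * B.1 0 0 + B.1 0 1 * B.1 0 1 = -1 := by linear_combination -hdet
  have hBeq : mat (B.1 0 0) (B.1 0 1) (B.1 0 1) (-B.1 0 0) (by linear_combination -hab) = B :=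
    ext4 (by simp [mat00, mat01, mat10, mat11, mul_apply00, mul_apply01, mul_apply10, mul_apply11, neg_apply', one_apply']) (by simp [mat00, mat01, mat10, mat11, mul_apply00, mul_apply01, mul_apply10, mul_apply11, neg_apply', one_apply']) (by simp [mat00, mat01, mat10, mat11, mul_apply00, mul_apply01, mul_apply10, mul_apply11, neg_apply', one_apply', hbc]) (by simp [mat00, mat01, mat10, mat11, mul_apply00, mul_apply01, mul_apply10, mul_apply11, neg_apply', one_apply', hB11])
  have hfix' : ∀ x : Additive M, (wey : SpecialLinearGroup (Fin 2) F) • x = x →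
      mat (B.1 0 0) (B.1 0 1) (B.1 0 1) (-B.1 0 0) (by linear_combination -hab) • x = x → x = 0 := by
    intro x hx hx'
    rw [hBeq] at hx'
    have hx1 : act (π wey) x.toMul = x.toMul := congrArg Additive.toMul hx
    have hx2 : act (π B) x.toMul = x.toMul := congrArg Additive.toMul hx'
    rw [hs'] at hx1
    rw [hB] at hx2
    have hy : act (π Q) x.toMul = 1 := hfix _ fun y hy => by
      have hconj : ∀ z, act ((π Q)⁻¹ * z * π Q) x.toMul = x.toMul → act z (act (π Q) x.toMul) = act (π Q) x.toMul := by
        intro z hz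
        calc act z (act (π Q) x.toMul) = act (π Q * ((π Q)⁻¹ * z * π Q)) x.toMul := by
              rw [show π Q * ((π Q)⁻¹ * z * π Q) = z * π Q by group, map_mul]; rfl
          _ = act (π Q) x.toMul := by rw [map_mul, MulAut.mul_apply, hz]
      rcases hgen y hy with rfl | rfl | rfl | rfl
      · rw [map_one]; rfl
      · exact hconj _ hx1
      · exact hconj _ hx2
      · rw [map_mul, MulAut.mul_apply, hconj _ hx2, hconj _ hx1]
    have : x.toMul = 1 := (act (π Q)).injective (hy.trans (map_one _).symm)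
    exact congrArg Additive.ofMul this
  intro m
  exact congrArg Additive.toMul (trivial_of_four hp hp2 hp3 hV hneg hn hF hab hfix' (Additive.ofMul m))

end CfsgLib.S3Simple
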