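import Cfsg.Agent.Lib.S3Simple.Two
import Cfsg.Agent.Lib.S3Simple.Four.Setup

/-!
The classification of the simple groups that do not involve `S₃`, from the two remaining configurations.

Blueprint: `blueprint/S3Free.md`.
-/

set_option autoImplicit false
set_option linter.unusedSectionVars false
set_option linter.style.haveILetI false

namespace CfsgLib.S3Simple

open Cfsg CfsgLib.Comp CfsgLib.AfterFT.CoreSep

universe u

/-- The configuration of section 5 does not occur. -/
def EightKilled : Prop :=
  ∀ (L : Type u) [Group L] [Finite L] (S : Sylow 2 L) (A : Subgroup L), Hyp L → Closed S A → Irred A → Focal A →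
    Nat.card A = 8 → (∀ a ∈ A, a ≠ 1 → Blocked A (Subgroup.zpowers a)) →
    (Subgroup.centralizer (A : Set L)).relIndex (Subgroup.normalizer (A : Set L)) = 21 →
    (∀ z ∈ (S : Subgroup L), z * z = 1 → (∀ s ∈ (S : Subgroup L), z * s = s * z) → z ∈ A) → False

/-- The configuration of 6.3 does not occur. -/
def FourKilled : Prop :=
  ∀ (L : Type u) [Group L] [Finite L] (S : Sylow 2 L) (A : Subgroup L), FourHyp S A → False

variable {L : Type u} [Group L] [Finite L]

/-- There is no minimal counterexample. -/
theorem Hyp.false_of_killed (h : Hyp L) (h8 : EightKilled.{u}) (h4 : FourKilled.{u}) : False := by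
  haveI : Fact (Nat.Prime 2) := ⟨Nat.prime_two⟩
  let S : Sylow 2 L := default
  obtain ⟨A₀, hT⟩ := h.exists_top S
  obtain ⟨A, hAle, hA, hI, hN⟩ := hT.closed.exists_irred le_rfl hT.closed.ne_bot le_rfl
  have hge := h.four_le_card hA
  obtain ⟨n, hn⟩ := IsPGroup.iff_card.mp hA.isPGroup
  rcases Nat.lt_or_ge n 3 with hlt | hn3
  swap
  · obtain ⟨hc, hblk, hrel⟩ :=
      h.eight_of_irred hA hI (hn ▸ (Nat.pow_le_pow_right (by norm_num) hn3 : 2 ^ 3 ≤ 2 ^ n))
    have he := h.eight_top hT.closed hA hAle hc hblk
    exact h8 L S A h hA hI (h.focal hA) hc hblk hrel (he ▸ hT.center)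
  have hc : Nat.card A = 4 := by
    have h2 : Nat.card A ≤ 2 ^ 2 := hn ▸ Nat.pow_le_pow_right (by norm_num) (by omega)
    omega
  by_cases he : A₀ = A
  swap
  · exact h.two_false hT hA hAle hN hc he
  refine h4 L S A ⟨h, hA, hI, hc, fun s hs a ha => h.four_central hA hc hs ha, he ▸ hT.center,
    fun d hd hd2 hdA => ?_⟩
  by_contra hcon
  push Not at hcon
  refine h.false_of_unblocked hA hc hdA hd2 (fun a ha => (h.four_central hA hc hd ha).symm) fun c hc' E hE a ha hm => ?_
  by_contra hne
  exact hcon c hc' ⟨E, hE, a, ha, hm, hne⟩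

/-- The classification of the simple groups without a section `S₃`. -/
theorem classify_of_killed (h8 : EightKilled.{u}) (h4 : FourKilled.{u}) :
    ∀ (G : Type u) [Group G] [Finite G], IsSimpleGroup G → ¬ IsMulCommutative G →
      ¬ Involves (Equiv.Perm (Fin 3)) G → IsSuzukiOrPSL2OddPowerThree G := by
  intro G _ _
  induction hn : Nat.card G using Nat.strong_induction_on generalizing G with
  | _ n ih =>
    intro hs hna hfree
    by_contra hnl
    refine Hyp.false_of_killed (L := G) ⟨hs, hna, hfree, fun H hH K hK N _ hsK hnaK => ?_, hnl⟩ h8 h4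
    have hlt : Nat.card (↥K ⧸ N) < n := by
      have h1 : Nat.card (↥K ⧸ N) ≤ Nat.card ↥K :=
        Nat.card_le_card_of_surjective _ (QuotientGroup.mk'_surjective N)
      have h2 : Nat.card ↥K ≤ Nat.card ↥H := Nat.card_le_card_of_injective _ K.subtype_injective
      have h3 : Nat.card ↥H < Nat.card G := by
        refine lt_of_le_of_ne (Nat.card_le_card_of_injective _ H.subtype_injective) fun e => hH ?_
        exact Subgroup.eq_top_of_card_eq H e
      omega
    exact ih _ hlt (↥K ⧸ N) rfl hsK hnaK (free_quotient (free_subgroup (free_subgroup hfree H) K) N)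

/-- The composition factors of a group without a section `S₃`. -/
theorem compK_of_killed (h8 : EightKilled.{u}) (h4 : FourKilled.{u}) (G : Type u) [Group G] [Finite G]
    (hfree : ¬ Involves (Equiv.Perm (Fin 3)) G) : IsCompositionKGroupWith IsSuzukiOrPSL2OddPowerThree G :=
  fun H _ N _ hs hna => classify_of_killed h8 h4 _ hs hna (free_quotient (free_subgroup hfree H) N)

end CfsgLib.S3Simple
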