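import Cfsg.Agent.Lib.S3Simple.Basic
import Cfsg.Agent.Lib.S3Simple.Component
import Cfsg.Agent.Lib.S3Free.EGroup
import Cfsg.Agent.Lib.AfterFT.CoreSeparated

/-!
The centraliser of an element of a strongly closed elementary abelian subgroup, modulo its core.

Blueprint: `blueprint/S3Free.md`, the setting of the blocks.
-/

set_option autoImplicit false
set_option linter.unusedSectionVars false
set_option linter.style.haveILetI false

namespace CfsgLib.S3Simple

open Cfsg CfsgLib.Comp CfsgLib.AfterFT.CoreSep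

universe u

variable {L : Type u} [Group L] [Finite L] {S : Sylow 2 L} {A : Subgroup L}

/-- The list is closed under isomorphism. -/
theorem listed_congr : ∀ (Y Z : Type u) [Group Y] [Group Z], Nonempty (Y ≃* Z) →
    IsSuzukiOrPSL2OddPowerThree Y → IsSuzukiOrPSL2OddPowerThree Z := by
  rintro Y Z _ _ ⟨e⟩ (⟨F, i1, i2, m, hm, hc, ⟨f⟩⟩ | ⟨F, i1, i2, n, hc, ⟨f⟩⟩)
  · exact Or.inl ⟨F, i1, i2, m, hm, hc, ⟨e.symm.trans f⟩⟩
  · exact Or.inr ⟨F, i1, i2, n, hc, ⟨e.symm.trans f⟩⟩

theorem free_subgroup {G : Type u} [Group G] [Finite G] (h : ¬ Involves (Equiv.Perm (Fin 3)) G) (H : Subgroup G) :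
    ¬ Involves (Equiv.Perm (Fin 3)) H := by
  rintro ⟨K, R, hn, ⟨f⟩⟩
  exact h (QdSection.involves_of_surjective (K.map H.subtype)
    ((f.toMonoidHom.comp (QuotientGroup.mk' _)).comp (K.equivMapOfInjective H.subtype H.subtype_injective).symm.toMonoidHom)
    ((f.surjective.comp (QuotientGroup.mk'_surjective _)).comp (MulEquiv.surjective _)))

theorem free_quotient {G : Type u} [Group G] [Finite G] (h : ¬ Involves (Equiv.Perm (Fin 3)) G) (N : Subgroup G)
    [N.Normal] : ¬ Involves (Equiv.Perm (Fin 3)) (G ⧸ N) := by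
  rintro ⟨K, R, hn, ⟨f⟩⟩
  refine h (QdSection.involves_of_surjective (K.comap (QuotientGroup.mk' N))
    ((f.toMonoidHom.comp (QuotientGroup.mk' _)).comp ((QuotientGroup.mk' N).subgroupComap K))
    ((f.surjective.comp (QuotientGroup.mk'_surjective _)).comp ?_))
  exact MonoidHom.subgroupComap_surjective_of_surjective _ K (QuotientGroup.mk'_surjective N)

theorem Closed.mem_cc (hA : Closed S A) {a x : L} (ha : a ∈ A) (hx : x ∈ A) : x ∈ cc a :=
  AfterFT.CoreSep.mem_cc.mpr (hA.comm hx ha)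

theorem Closed.le_cc (hA : Closed S A) {a : L} (ha : a ∈ A) : A ≤ cc a := fun _ hx => hA.mem_cc ha hx

theorem Closed.isPGroup (hA : Closed S A) : IsPGroup 2 A := S.2.to_le hA.le

theorem Hyp.cc_ne_top (h : Hyp L) {a : L} (h1 : a ≠ 1) : cc a ≠ ⊤ := fun e => by
  haveI := h.simple
  have hz : a ∈ Subgroup.center L := Subgroup.mem_center_iff.mpr fun g =>
    AfterFT.CoreSep.mem_cc.mp (e ▸ Subgroup.mem_top g)
  rcases (inferInstance : (Subgroup.center L).Normal).eq_bot_or_eq_top with hb | hb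
  · exact h1 (Subgroup.mem_bot.mp (hb ▸ hz))
  · exact h.nonabelian ⟨⟨fun x y => (Subgroup.mem_center_iff.mp (hb ▸ Subgroup.mem_top x) y).symm⟩⟩

/-- The centraliser of a non-identity element modulo its core satisfies the standing hypotheses. -/
theorem Hyp.ctx (h : Hyp L) {a : L} (h1 : a ≠ 1) : Ctx (qq a) where
  core := by
    haveI : Fact (Nat.Prime 2) := ⟨Nat.prime_two⟩
    exact pPrimeCore_quotient_eq_bot 2
  free := free_quotient (free_subgroup h.free _) _
  listed := CfsgLib.S3Free.EGrp.quotient_compK listed_congr (h.proper _ (h.cc_ne_top h1)) _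

/-- The subgroup `A` read in `C(a)` modulo its core. -/
abbrev imA (A : Subgroup L) (a : L) : Subgroup (qq a) := (A.subgroupOf (cc a)).map (ff a)

theorem mem_imA {a x : L} (hx : x ∈ A) (h : x ∈ cc a) : ff a ⟨x, h⟩ ∈ imA A a :=
  ⟨⟨x, h⟩, hx, rfl⟩

/-- The canonical map is injective on `A`. -/
theorem Closed.ff_inj (hA : Closed S A) {a x : L} (hx : x ∈ A) (h : x ∈ cc a) (h1 : ff a ⟨x, h⟩ = 1) : x = 1 := by
  have hmem := mem_core_of_bar h1
  have ho := odd_order_core hmem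
  by_contra hne
  rw [hA.orderOf_eq_two hx hne] at ho
  exact absurd ho (by decide)

/-- A strongly closed subgroup is strongly closed in each Sylow subgroup containing it. -/
theorem Closed.of_le (hA : Closed S A) {S' : Sylow 2 L} (h : A ≤ (S' : Subgroup L)) : Closed S' A := by
  haveI : Fact (Nat.Prime 2) := ⟨Nat.prime_two⟩
  obtain ⟨g, hg⟩ := MulAction.exists_smul_eq L S S'
  have hmem : ∀ x, x ∈ (S' : Subgroup L) ↔ g⁻¹ * x * g ∈ (S : Subgroup L) := fun x => by
    rw [← hg, Sylow.coe_subgroup_smul, Subgroup.mem_pointwise_smul_iff_inv_smul_mem, MulAut.smul_def,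
      MulAut.conj_inv_apply]
  have hmove : ∀ x ∈ A, g⁻¹ * x * g ∈ A := fun x hx => by
    have h1 := hA.closed.2 x hx g⁻¹ (by simpa using (hmem x).mp (h hx))
    simpa using h1
  have hgN : g ∈ Subgroup.normalizer (A : Set L) := by
    have : g⁻¹ ∈ Subgroup.normalizer (A : Set L) := mem_normalizer_of_maps fun x hx => by simpa using hmove x hx
    simpa using inv_mem this
  refine ⟨h, hA.elem, hA.ne_bot, h, fun x hx k hk => ?_⟩
  have h2 := (hmem _).mp hk
  have h3 := hA.closed.2 x hx (g⁻¹ * k) (by simpa [mul_assoc] using h2)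
  have h4 := (Subgroup.mem_normalizer_iff.mp hgN _).mp h3
  simpa [mul_assoc] using h4

/-- The image of `A` is strongly closed in some Sylow subgroup of the quotient. -/
theorem Closed.imA_closed (hA : Closed S A) {a : L} (ha : a ∈ A) :
    ∃ T : Sylow 2 (qq a), Closed T (imA A a) := by
  haveI : Fact (Nat.Prime 2) := ⟨Nat.prime_two⟩
  obtain ⟨P, hP⟩ := (hA.isPGroup.of_equiv (Subgroup.subgroupOfEquivOfLe (hA.le_cc ha)).symm).exists_le_sylow
  obtain ⟨S', hS'⟩ := (P.2.map (cc a).subtype).exists_le_sylow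
  have hA' : Closed S' A := hA.of_le fun x hx => hS' ⟨⟨x, hA.mem_cc ha hx⟩, hP hx, rfl⟩
  refine ⟨P.mapSurjective (bar_surjective 2), Subgroup.map_mono hP, ?_, ?_, Subgroup.map_mono hP, ?_⟩
  · refine ⟨⟨⟨?_⟩⟩, ?_⟩
    · rintro ⟨_, x, hx, rfl⟩ ⟨_, y, hy, rfl⟩
      refine Subtype.ext ?_
      show ff a x * ff a y = ff a y * ff a x
      rw [← map_mul, ← map_mul]
      exact congrArg _ (Subtype.ext (hA.comm hx hy))
    · rintro _ ⟨x, hx, rfl⟩
      rw [← map_pow, show x ^ 2 = 1 from Subtype.ext (hA.elem.2 _ hx), map_one]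
  · obtain ⟨x, hx, hx1⟩ := A.bot_or_exists_ne_one.resolve_left hA.ne_bot
    intro he
    exact hx1 (hA.ff_inj hx (hA.mem_cc ha hx) (Subgroup.mem_bot.mp (he ▸ mem_imA hx _)))
  · rintro _ ⟨x, hx, rfl⟩ g hg
    obtain ⟨w, rfl⟩ := bar_surjective 2 g
    obtain ⟨t, ht, hte⟩ := hg
    set W := (P : Subgroup ↥(cc a)) ⊔ pPrimeCore 2 ↥(cc a) with hW
    have hyW : w * x * w⁻¹ ∈ W := by
      have h1 : t⁻¹ * (w * x * w⁻¹) ∈ pPrimeCore 2 ↥(cc a) := QuotientGroup.eq.mp (by
        refine hte.trans ?_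
        rw [← map_inv, ← map_mul, ← map_mul]
        rfl)
      have := mul_mem (Subgroup.mem_sup_left (T := pPrimeCore 2 ↥(cc a)) ht)
        (Subgroup.mem_sup_right (S := (P : Subgroup ↥(cc a))) h1)
      rwa [mul_inv_cancel_left] at this
    have hzp : IsPGroup 2 (Subgroup.zpowers (⟨w * x * w⁻¹, hyW⟩ : W)) := by
      refine zpowers_isPGroup (p := 2) (n := 1) (Subtype.ext ?_)
      rw [pow_one, SubmonoidClass.coe_pow]
      show (w * x * w⁻¹) ^ 2 = 1
      rw [conj_pow, show x ^ 2 = 1 from Subtype.ext (hA.elem.2 _ hx), mul_one, mul_inv_cancel]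
    obtain ⟨Q, hQ⟩ := hzp.exists_le_sylow
    let P' : Sylow 2 W := P.subtype le_sup_left
    obtain ⟨u, hu⟩ := MulAction.exists_smul_eq W Q P'
    obtain ⟨s, hs, o, ho, hso⟩ := Subgroup.mem_sup_of_normal_right.mp (u.2 : (u : ↥(cc a)) ∈ W)
    have h5 : (u : ↥(cc a)) * (w * x * w⁻¹) * (u : ↥(cc a))⁻¹ ∈ (P : Subgroup ↥(cc a)) := by
      have h6 : MulAut.conj u ⟨w * x * w⁻¹, hyW⟩ ∈ (u • Q : Sylow 2 W).toSubgroup :=
        Subgroup.smul_mem_pointwise_smul _ _ _ (hQ (Subgroup.mem_zpowers _))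
      rw [hu] at h6
      exact h6
    have h7 : o * w * x * (o * w)⁻¹ ∈ (P : Subgroup ↥(cc a)) := by
      have := mul_mem (mul_mem (inv_mem hs) h5) hs
      rw [← hso] at this
      simpa [mul_assoc] using this
    have h8 : ((o * w * x * (o * w)⁻¹ : ↥(cc a)) : L) ∈ A := by
      have h9 := hA'.closed.2 (x : L) hx ((o * w : ↥(cc a)) : L) (hS' ⟨_, h7, rfl⟩)
      exact h9
    refine ⟨o * w * x * (o * w)⁻¹, h8, ?_⟩
    have ho1 : ff a o = 1 := (QuotientGroup.eq_one_iff o).mpr ho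
    simp [map_mul, map_inv, ho1]

end CfsgLib.S3Simple
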