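import Cfsg.Agent.Lib.S3Free.Fusion
import Cfsg.Agent.Lib.Fusion.Generation
import Cfsg.Agent.Lib.Fusion.Factorization
import Cfsg.Agent.Lib.S3Simple.CompK

/-!
A saturated 2-fusion system with `S₄`-free local models is generated by the normalisers of `Z(S)` and `J(S)`.

Blueprint: `blueprint/FusionScreen.md`.
-/

set_option autoImplicit false
set_option linter.unusedSectionVars false
set_option linter.style.haveILetI false

namespace CfsgLib.S3Simple

open Cfsg Cfsg.FusionSystem CfsgLib CfsgLib.StrongFusion CfsgLib.S3Free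

universe u

variable {p : ℕ} [Fact p.Prime] {Ω : Type u} [Group Ω] {S : Subgroup Ω} [Finite S] {F : FusionSystem S}
variable {𝒲 : Set (∀ (Q : Type u) [Group Q], Subgroup Q)}

/-- Climbing along a family of functors. -/
theorem le_of_climb_family (h𝒲 : ∀ W ∈ 𝒲, IsCharPFunctor.{u} p W)
    (hF : F.IsSaturated p) (hS : IsPGroup p S) {D : FusionSystem S} (htop : F.Hom S ⊆ D.Hom S)
    (hloc : ∀ U, F.IsFullyNormalized U → U ≠ ⊥ →
      (normalizerIn S U ≠ S → ∀ W ∈ 𝒲, F.NormalizerLe (functorOn W (normalizerIn S U)) D) → F.NormalizerLe U D) :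
    F ≤ D := by
  refine hF.le_of_autGroup_le' hS D fun R hR hbig α hα => ?_
  by_cases hRe : R = S
  · subst hRe
    obtain ⟨φ, hφ, -, he⟩ := F.exists_map_of_mem_autGroup le_rfl hα
    exact D.mem_autGroup_of_map (htop hφ) fun y => (he y).symm
  replace hR : F.IsEssential p R := hR.resolve_left hRe
  have hRS : R ≤ S := hR.1.1
  have hRb : R ≠ ⊥ := by
    rintro rfl
    refine hRe (le_antisymm hRS fun y hy => ?_)
    exact hR.1.centralizerIn_le_self ⟨hy, Subgroup.mem_centralizer_iff.mpr fun z hz => by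
      rw [Subgroup.mem_bot.mp hz, one_mul, mul_one]⟩
  suffices key : ∀ k, ∀ U, U ≤ S → U ≠ ⊥ → Nat.card R < Nat.card (normalizerIn S U) →
      Nat.card S - Nat.card (normalizerIn S U) = k → F.NormalizerLe U D by
    haveI : Finite (normalizerIn S R) := finite_normalizerIn
    have hlt : Nat.card R < Nat.card (normalizerIn S R) :=
      card_lt_of_lt (lt_normalizerIn hS (hR.lt hS hF))
    obtain ⟨φ, hφ, hr, he⟩ := F.exists_map_of_mem_autGroup hRS hα
    have hRm : (R.subgroupOf R).map φ = R := by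
      rw [Subgroup.subgroupOf_self, ← MonoidHom.range_eq_map, hr]
    exact D.mem_autGroup_of_map (key _ R hRS hRb hlt rfl R φ hφ le_rfl (le_normalizerIn hRS) hRm) fun y => (he y).symm
  intro k
  induction k using Nat.strong_induction_on with
  | h k ihk =>
    have full : ∀ U, F.IsFullyNormalized U → U ≠ ⊥ → Nat.card R < Nat.card (normalizerIn S U) →
        Nat.card S - Nat.card (normalizerIn S U) ≤ k → F.NormalizerLe U D := by
      intro U hU hUb hlt hk
      refine hloc U hU hUb fun hTe W hW => ?_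
      obtain ⟨hW1, hW2⟩ := h𝒲 W hW
      set T := normalizerIn S U with hTdef
      have hTS : T ≤ S := normalizerIn_le
      haveI : Finite T := finite_of_le hTS
      have hTp : IsPGroup p T := hS.to_le hTS
      have hTb : T ≠ ⊥ := fun h => hUb (le_bot_iff.mp (h ▸ le_normalizerIn hU.1))
      have hVb := functorOn_ne_bot W hW1 hTp hTb
      have hVS : functorOn W T ≤ S := (Subgroup.map_subtype_le _).trans hTS
      haveI : Finite (normalizerIn S (functorOn W T)) := finite_normalizerIn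
      haveI : Finite (normalizerIn S T) := finite_normalizerIn
      have hT1 : T < normalizerIn S T := lt_normalizerIn hS (lt_of_le_of_ne hTS hTe)
      have hT2 : normalizerIn S T ≤ normalizerIn S (functorOn W T) :=
        inf_le_inf_left _ (FusionSystem.normalizer_le_normalizer_functorOn W hW2 hTp)
      have hc1 : Nat.card T < Nat.card (normalizerIn S (functorOn W T)) :=
        lt_of_lt_of_le (card_lt_of_lt hT1) (Subgroup.card_le_of_le hT2)
      have hle := Nat.card_le_card_of_injective _ (Subgroup.inclusion_injective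
        (normalizerIn_le (S := S) (P := functorOn W T)))
      exact ihk _ (by omega) _ hVS hVb (by omega) rfl
    intro U hUS hUb hlt hk
    obtain ⟨U', hc', hU'⟩ := F.exists_isFullyNormalized hUS
    have hU'b : U' ≠ ⊥ := fun h => hUb (Subgroup.eq_bot_of_card_eq U (by rw [hc'.card_eq, h, Subgroup.card_bot]))
    have hle : Nat.card (normalizerIn S U) ≤ Nat.card (normalizerIn S U') := by
      obtain ⟨φ, hφ, hr⟩ := hc'
      exact hU'.2 U (FusionSystem.IsConj.symm ⟨φ, hφ, hr⟩)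
    exact hF.normalizerLe_transfer hS hc' hU' (full U' hU' hU'b (by omega) (by omega))
      fun P hP => hbig P (by omega)

/-- The image of a functor under an embedding. -/
theorem functorOn_range {W : ∀ (Q : Type u) [Group Q], Subgroup Q} (hW : IsCharPFunctor.{u} p W)
    {T : Subgroup Ω} [Finite T] (hT : IsPGroup p T) {L : Type u} [Group L] {ι : T →* L}
    (hinj : Function.Injective ι) {R : Subgroup L} (hR : R = ι.range) :
    inducedFunctor W R = ((functorOn W T).subgroupOf T).map ι := by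
  subst hR
  have h1 := hW.2 T ι.range hT (MonoidHom.ofInjective hinj)
  have h2 : (functorOn W T).subgroupOf T = W T := by
    rw [functorOn, Subgroup.subgroupOf, Subgroup.comap_map_eq_self_of_injective T.subtype_injective]
  rw [h2, inducedFunctor, ← h1, Subgroup.map_map]
  rfl

/-- Fusion chains in a realising group give maps of `D`. -/
theorem mem_of_chain (h𝒲 : ∀ W ∈ 𝒲, IsCharPFunctor.{u} p W) {T : Subgroup Ω} [Finite T] (hT : IsPGroup p T)
    (E : FusionSystem T) {L : Type u} [Group L] {ι : T →* L} (hι : E.IsRealizedBy ι) (hTS : T ≤ S)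
    (D : FusionSystem S)
    (hloc : ∀ W ∈ 𝒲, ∀ (P : Subgroup Ω) (φ : P →* Ω), φ ∈ E.Hom P → functorOn W T ≤ P →
      ((functorOn W T).subgroupOf P).map φ = functorOn W T → φ ∈ D.Hom P)
    {B : Subgroup L} {g : L} (hch : Chain ι.range (steps (famAt 𝒲 ι.range) ι.range) B g) :
    ∀ (P : Subgroup Ω) (φ : P →* Ω) (hP : P ≤ T) (hφ : ∀ x, φ x ∈ T), (∀ x : P, ι ⟨x, hP x.2⟩ ∈ B) →
      (∀ x : P, ι ⟨φ x, hφ x⟩ = g * ι ⟨x, hP x.2⟩ * g⁻¹) → φ ∈ D.Hom P := by
  induction hch with
  | refl hA hg =>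
    intro P φ hP hφ hPA he
    refine D.mem_of_apply_eq (D.conj_mem (hP.trans hTS) S.one_mem) fun x => ?_
    have h1 : (⟨φ x, hφ x⟩ : T) = ⟨x, hP x.2⟩ := hι.1 ((he x).trans (hg _ (hPA x)))
    rw [show φ x = x from congrArg Subtype.val h1]
    simp [conjHom]
  | @step A n g hA hn h ih =>
    intro P φ hP hφ hPA he
    obtain ⟨W, hW, hnW⟩ := mem_steps_famAt.mp hn
    rw [inf_idem, functorOn_range (h𝒲 W hW) hT hι.1 rfl] at hnW
    set V := functorOn W T with hV
    have hVT : V ≤ T := Subgroup.map_subtype_le _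
    have hnV : ∀ v : V, n * ι ⟨v, hVT v.2⟩ * n⁻¹ ∈ (V.subgroupOf T).map ι := fun v =>
      (Subgroup.mem_normalizer_iff.mp hnW _).mp ⟨⟨v, hVT v.2⟩, v.2, rfl⟩
    have hin : ∀ x : ↥(P ⊔ V), n * ι ⟨x, sup_le hP hVT x.2⟩ * n⁻¹ ∈ ι.range := by
      have h2 : P ⊔ V ≤ (ι.range.comap ((MulAut.conj n).toMonoidHom.comp ι)).map T.subtype :=
        sup_le (fun x hx => ⟨⟨x, hP hx⟩, h.le (conj_mem_cm (hPA ⟨x, hx⟩)), rfl⟩)
          fun v hv => ⟨⟨v, hVT hv⟩, Subgroup.map_le_range ι _ (hnV ⟨v, hv⟩), rfl⟩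
      intro x
      obtain ⟨y, hy, hyx⟩ := h2 x.2
      rw [show (⟨(x : Ω), sup_le hP hVT x.2⟩ : T) = y from Subtype.ext hyx.symm]
      exact hy
    obtain ⟨ψ, hψ, hψe⟩ := hι.exists_hom (sup_le hP hVT) n hin
    haveI := finite_of_le hVT
    have hψV : (V.subgroupOf (P ⊔ V)).map ψ = V := by
      refine Subgroup.eq_of_le_of_card_ge ?_ (le_of_eq ?_)
      · rintro _ ⟨y, hy, rfl⟩
        obtain ⟨w, hw, hwe⟩ := hnV ⟨y, hy⟩
        rw [← hψe y (E.apply_mem hψ y)] at hwe
        rw [show ψ y = (w : Ω) from congrArg Subtype.val (hι.1 hwe).symm]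
        exact hw
      · rw [Subgroup.card_map_of_injective (E.injective_of_mem hψ)]
        exact (Nat.card_congr (Subgroup.subgroupOfEquivOfLe le_sup_right).toEquiv).symm
    have hψD : ψ ∈ D.Hom (P ⊔ V) := hloc W hW _ ψ hψ le_sup_right hψV
    have hφ₁ := E.restrict_mem hψ (le_sup_left : P ≤ P ⊔ V)
    have hφ₁D := D.restrict_mem hψD (le_sup_left : P ≤ P ⊔ V)
    set φ₁ := ψ.comp (Subgroup.inclusion (le_sup_left : P ≤ P ⊔ V)) with hφ₁def
    have hr : φ₁.range ≤ T := E.range_le hφ₁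
    have h1e : ∀ x : P, ι ⟨φ₁ x, E.apply_mem hφ₁ x⟩ = n * ι ⟨x, hP x.2⟩ * n⁻¹ := fun x => hψe _ _
    have hin2 : ∀ y : φ₁.range, g * ι ⟨y, hr y.2⟩ * g⁻¹ ∈ ι.range := by
      rintro ⟨_, x, rfl⟩
      refine ⟨⟨φ x, hφ x⟩, ?_⟩
      rw [he, h1e x]
      group
    obtain ⟨φ₂, hφ₂, hφ₂e⟩ := hι.exists_hom hr g hin2
    have hφ₂D : φ₂ ∈ D.Hom φ₁.range := ih _ φ₂ hr (E.apply_mem hφ₂) (by
      rintro ⟨_, x, rfl⟩
      rw [h1e x]
      exact conj_mem_cm (hPA x)) fun y => hφ₂e y _
    obtain ⟨χ, hχ, hχe⟩ := D.exists_comp hφ₁D hφ₂D fun x => ⟨x, rfl⟩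
    refine D.mem_of_apply_eq hχ fun x => ?_
    rw [hχe]
    refine congrArg Subtype.val (hι.1 ?_ : (⟨φ x, hφ x⟩ : T) = ⟨φ₂ ⟨φ₁ x, ⟨x, rfl⟩⟩, E.apply_mem hφ₂ _⟩)
    rw [he, hφ₂e ⟨φ₁ x, ⟨x, rfl⟩⟩, h1e x]
    group

/-- The two functors. -/
def centerThompsonFamily : Set (∀ (Q : Type u) [Group Q], Subgroup Q) := {centerFun, thompsonFun}

theorem centerThompsonFamily_charP :
    ∀ W ∈ centerThompsonFamily.{u}, IsCharPFunctor.{u} 2 W := by
  rintro W (rfl | rfl)
  exacts [isCharPFunctor_centerFun, isCharPFunctor_thompsonFun]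

/-- Strong fusion in an `S₄`-free group is reached through the normalisers of `Z(T)` and `J(T)`. -/
theorem ctrl_center_thompson {L : Type u} [Group L] [Finite L] (hfree : ¬ Involves (Equiv.Perm (Fin 4)) L)
    (T : Sylow 2 L) (B : Subgroup L) (g : L) (hB : B ≤ (T : Subgroup L)) (hg : cm g B ≤ (T : Subgroup L)) :
    Chain (T : Subgroup L) (steps (famAt centerThompsonFamily.{u} (T : Subgroup L)) (T : Subgroup L)) B g := by
  haveI : Fact (Nat.Prime 2) := ⟨Nat.prime_two⟩
  refine ctrl_of_base _ True centerThompsonFamily_charP (base_of_sections centerThompsonFamily_charP True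
    fun K R _ hcon T' D' _ hfull B' x hB' hx => ?_) T _ ⟨le_rfl, fun x _ g hg => hg⟩ (fun _ => rfl) B g hB hg
  rw [hfull trivial]
  have hn := fun W (hWm : W ∈ centerThompsonFamily.{u}) => Subgroup.le_normalizer.trans
    (StrongFusion.normalizer_le_normalizer_induced (centerThompsonFamily_charP W hWm) T'.2)
  refine chain_of_product T' (hn _ (Or.inl rfl)) (hn _ (Or.inr rfl))
    (fun n hn => mem_steps_famAt.2 ⟨_, Or.inl rfl, by rwa [inf_idem]⟩)
    (fun n hn => mem_steps_famAt.2 ⟨_, Or.inr rfl, by rwa [inf_idem]⟩) (fun y => ?_) hB' hx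
  obtain ⟨a, ha, b, hb, rfl⟩ := exists_product (four_free_section hfree K R) hcon T' y
  refine ⟨a, ?_, b, hb, rfl⟩
  rw [inducedFunctor_centerFun]
  exact Subgroup.centralizer_le_normalizer _ ha

/-- Generation by the normalisers of `Z(S)` and `J(S)`. -/
theorem le_of_center_thompson (hF : F.IsSaturated 2) (hS : IsPGroup 2 S) {D : FusionSystem S}
    (hmod : ∀ U (hU : F.IsFullyNormalized U), U ≠ ⊥ → ∃ (L : Type u) (_ : Group L) (ι : ↥(normalizerIn S U) →* L),
      (F.normalizerSystem U hU.1).IsModel 2 L ι ∧ ¬ Involves (Equiv.Perm (Fin 4)) L)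
    (hD : ∀ W ∈ centerThompsonFamily.{u}, F.NormalizerLe (functorOn W S) D) : F ≤ D := by
  haveI : Fact (Nat.Prime 2) := ⟨Nat.prime_two⟩
  have hWN : ∀ W ∈ centerThompsonFamily.{u}, S ≤ Subgroup.normalizer (functorOn W S : Set Ω) := fun W hW =>
    Subgroup.le_normalizer.trans
      (FusionSystem.normalizer_le_normalizer_functorOn W (centerThompsonFamily_charP W hW).2 hS)
  refine le_of_climb_family centerThompsonFamily_charP hF hS ?_ fun U hU hUb hrec => ?_
  · exact fun φ hφ => hD _ (Or.inr rfl) S φ hφ (Subgroup.map_subtype_le _)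
      (normalizerIn_eq_of_le_normalizer (hWN _ (Or.inr rfl))).ge
      (map_functorOn thompsonFun (centerThompsonFamily_charP _ (Or.inr rfl)).2 hS hφ)
  obtain ⟨L, _, ι, hL, hLfree⟩ := hmod U hU hUb
  haveI := hL.1
  obtain ⟨TT, hTT⟩ := hL.2.2.1
  have hNE := F.normalizerSystem_isNormalizerSystem U hU.1
  haveI : Finite (normalizerIn S U) := finite_normalizerIn
  refine hNE.normalizerLe fun P φ hφ => ?_
  set E := F.normalizerSystem U hU.1
  have hP := E.source_le hφ
  obtain ⟨g, hg⟩ := (hL.2.1.2 P hP φ (E.apply_mem hφ)).mp hφ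
  have hB : (P.subgroupOf (normalizerIn S U)).map ι ≤ (TT : Subgroup L) := hTT ▸ Subgroup.map_le_range ι _
  have hgB : cm g ((P.subgroupOf (normalizerIn S U)).map ι) ≤ (TT : Subgroup L) := by
    rintro _ ⟨_, ⟨s, hs, rfl⟩, rfl⟩
    rw [hTT]
    exact ⟨⟨φ ⟨s, hs⟩, E.apply_mem hφ _⟩, hg ⟨s, hs⟩⟩
  have hch := ctrl_center_thompson hLfree TT _ g hB hgB
  rw [hTT] at hch
  refine mem_of_chain centerThompsonFamily_charP (hS.to_le normalizerIn_le) E hL.2.1 normalizerIn_le D
    (fun W hW P' φ' hφ' hle hmap => ?_) hch P φ hP (E.apply_mem hφ) (fun x => ⟨⟨x, hP x.2⟩, x.2, rfl⟩) hg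
  have hP' : P' ≤ normalizerIn S U := E.source_le hφ'
  by_cases hTe : normalizerIn S U = S
  · rw [hTe] at hle hmap
    exact hD W hW P' φ' (hNE.subsystem P' hφ') hle
      ((hP'.trans hTe.le).trans (normalizerIn_eq_of_le_normalizer (hWN W hW)).ge) hmap
  · refine hrec hTe W hW P' φ' (hNE.subsystem P' hφ') hle (le_inf (hP'.trans normalizerIn_le) ?_) hmap
    exact hP'.trans (Subgroup.le_normalizer.trans (FusionSystem.normalizer_le_normalizer_functorOn W
      (centerThompsonFamily_charP W hW).2 (hS.to_le normalizerIn_le)))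

end CfsgLib.S3Simple
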