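import Cfsg.Agent.Lib.S3Simple.FusionClimb
import Cfsg.Agent.Lib.S3Free.StrongClosure
import Cfsg.Agent.Lib.Fusion.Criterion
import Cfsg.Agent.Lib.Fusion.NormalFunctor
import Cfsg.Agent.Lib.Fusion.ZJFree
import Cfsg.Agent.Lib.Fusion.SolvableSystem
import Cfsg.Agent.Lib.Fusion.Model.Local
import Cfsg.Agent.Lib.JComp.Bridge
import Cfsg.Agent.S5089
import Cfsg.Agent.S5134

/-!
A `Qd(p)`-free saturated system has a non-trivial normal subgroup, hence is solvable.

Blueprint: `blueprint/FusionScreen.md`.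
-/

set_option autoImplicit false
set_option linter.unusedSectionVars false
set_option linter.style.haveILetI false

namespace CfsgLib.S3Simple

open Cfsg Cfsg.FusionSystem CfsgLib CfsgLib.S3Free CfsgLib.S3Free.EGrp

universe u

section general

variable {p : ℕ} [Fact p.Prime] {Ω : Type u} [Group Ω] {S : Subgroup Ω} [Finite S] {F : FusionSystem S}

/-- Solvability from non-trivial cores of the system and of the smaller ones. -/
theorem solvable_of_cores (hF : F.IsSaturated p) (hS : IsPGroup p S) (hfree : ¬ F.QdWitness p)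
    (hcore : S ≠ ⊥ → F.core ≠ ⊥)
    (hsmall : ∀ {Ω' : Type u} [Group Ω'] {S' : Subgroup Ω'} [Finite S'] (E : FusionSystem S'),
      Nat.card S' < Nat.card S → E.IsSaturated p → IsPGroup p S' → ¬ E.QdWitness p → S' ≠ ⊥ → E.core ≠ ⊥) :
    F.IsSolvableSystem := by
  intro R hR hRS _ E hE
  have hSb : S ≠ ⊥ := fun h => hRS (le_antisymm hR.1 (h ▸ bot_le))
  set θ := QuotientGroup.mk' (R.subgroupOf S)
  suffices key : ∀ (S' : Subgroup (↥S ⧸ R.subgroupOf S)) (E' : FusionSystem S'),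
      F.IsFactorSystem R θ E' → E'.core ≠ ⊥ from key _ E hE
  intro S' E' hE'
  obtain ⟨hle, hker, hr, hEm⟩ := id hE'
  subst hr
  haveI : Finite θ.range := Finite.of_surjective θ.rangeRestrict θ.rangeRestrict_surjective
  have hEs : E'.IsSaturated p := (Cfsg.Agent.S5134.result p hS F hF R hR θ E' hE').isSaturated hS hF
  have hpr : IsPGroup p θ.range := hS.of_surjective θ.rangeRestrict θ.rangeRestrict_surjective
  by_cases hRb : R = ⊥
  · obtain ⟨Q, hQb, hQc, hQ⟩ := (Cfsg.Agent.S5089.result p hS F hF).mp (hcore hSb)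
    refine (Cfsg.Agent.S5089.result p hpr E' hEs).mpr ⟨imageAlong θ Q, ?_, ?_,
      stronglyClosed_imageAlong hF hS hE' hR hQ⟩
    · intro hbot
      refine hQb ((Subgroup.eq_bot_iff_forall _).mpr fun q hq => ?_)
      have h1 : θ ⟨q, hQ.1 hq⟩ ∈ imageAlong θ Q := ⟨_, hq, rfl⟩
      rw [hbot, Subgroup.mem_bot, hker, hRb, Subgroup.mem_bot] at h1
      exact h1
    · refine ⟨⟨?_⟩⟩
      rintro ⟨_, a, ha, rfl⟩ ⟨_, b, hb, rfl⟩
      refine Subtype.ext ?_
      show θ a * θ b = θ b * θ a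
      rw [← map_mul, ← map_mul]
      haveI := hQc
      exact congrArg θ (Subtype.ext (Subgroup.mul_comm_of_mem_isMulCommutative Q
        (show (a : Ω) ∈ Q from ha) (show (b : Ω) ∈ Q from hb)))
  · have hlt : Nat.card θ.range < Nat.card S := by
      obtain ⟨z, hz, hz1⟩ := (Subgroup.bot_or_exists_ne_one R).resolve_left hRb
      letI : Fintype S := Fintype.ofFinite _
      letI : Fintype θ.range := Fintype.ofFinite _
      simp only [Nat.card_eq_fintype_card]
      refine Fintype.card_lt_of_surjective_not_injective θ.rangeRestrict θ.rangeRestrict_surjective fun hinj => hz1 ?_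
      have h1 : θ.rangeRestrict ⟨z, hR.1 hz⟩ = θ.rangeRestrict 1 := by
        apply Subtype.ext
        show θ ⟨z, hR.1 hz⟩ = θ 1
        rw [(hker _).mpr hz, map_one]
      exact congrArg Subtype.val (hinj h1)
    refine hsmall E' hlt hEs hpr (fun h => hfree (QdWitness.of_factor hker hEm h)) fun hbot => hRS ?_
    refine le_antisymm hR.1 fun y hy => (hker ⟨y, hy⟩).mp ?_
    have : θ ⟨y, hy⟩ ∈ θ.range := ⟨_, rfl⟩
    rwa [hbot, Subgroup.mem_bot] at this

/-- At odd primes the core is not trivial. -/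
theorem core_ne_bot_odd (hp : p ≠ 2) (hF : F.IsSaturated p) (hS : IsPGroup p S) (hfree : ¬ F.QdWitness p)
    (hSb : S ≠ ⊥) : F.core ≠ ⊥ := fun h =>
  CfsgLib.ZJ.centerThompsonAOf_ne_bot hS hSb (le_bot_iff.mp (h ▸ (hF.isNormal_zj hp hS hfree).le_core))

end general

/-- `Ω₁(Z(T))` of a non-trivial 2-group. -/
theorem omegaCenterOf_ne_bot {L : Type u} [Group L] {T : Subgroup L} [Finite T] (hT : IsPGroup 2 T) (hne : T ≠ ⊥) :
    omegaCenterOf T ≠ ⊥ := by
  haveI : Fact (Nat.Prime 2) := ⟨Nat.prime_two⟩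
  haveI : Nontrivial T := (Subgroup.nontrivial_iff_ne_bot T).mpr hne
  haveI := hT.center_nontrivial
  obtain ⟨n, hn, hc⟩ := (hT.to_subgroup (Subgroup.center T)).nontrivial_iff_card.1 inferInstance
  obtain ⟨z, hz⟩ := exists_prime_orderOf_dvd_card' (G := Subgroup.center T) 2 (hc ▸ dvd_pow_self 2 hn.ne')
  intro hbot
  have hz1 : ((z : T) : L) ∈ omegaCenterOf T := Subgroup.subset_closure
    ⟨⟨(z : T).2, fun y hy => congrArg Subtype.val (Subgroup.mem_center_iff.1 z.2 ⟨y, hy⟩)⟩, by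
      rw [← hz, ← Subgroup.orderOf_coe, ← Subgroup.orderOf_coe, pow_orderOf_eq_one]⟩
  rw [hbot, Subgroup.mem_bot, OneMemClass.coe_eq_one, OneMemClass.coe_eq_one] at hz1
  rw [hz1, orderOf_one] at hz
  omega

variable {Ω : Type u} [Group Ω] {S : Subgroup Ω} [Finite S] {F : FusionSystem S}

/-- The inductive step at the prime 2. -/
theorem core_ne_bot_step [Fact (Nat.Prime 2)] (h8 : EightKilled.{u}) (h4 : FourKilled.{u}) (hF : F.IsSaturated 2)
    (hS : IsPGroup 2 S) (hSb : S ≠ ⊥)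
    (hmod : ∀ U (hU : F.IsFullyNormalized U), U ≠ ⊥ → ∃ (L : Type u) (_ : Group L) (ι : ↥(normalizerIn S U) →* L),
      (F.normalizerSystem U hU.1).IsModel 2 L ι ∧ ¬ Involves (Equiv.Perm (Fin 4)) L) : F.core ≠ ⊥ := by
  intro hb
  have hW := centerThompsonFamily_charP.{u}
  have hWS : ∀ W ∈ centerThompsonFamily.{u}, functorOn W S ≤ S ∧
      S ≤ Subgroup.normalizer (functorOn W S : Set Ω) ∧ functorOn W S ≠ ⊥ := fun W hm =>
    ⟨Subgroup.map_subtype_le _, Subgroup.le_normalizer.trans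
      (FusionSystem.normalizer_le_normalizer_functorOn W (hW W hm).2 hS), functorOn_ne_bot W (hW W hm).1 hS hSb⟩
  -- the normaliser systems over `S` with their models
  have hloc : ∀ U, U ≤ S → S ≤ Subgroup.normalizer (U : Set Ω) → U ≠ ⊥ → ∃ E : FusionSystem S,
      (∀ P, E.Hom P = F.normalizerHom U P) ∧ ∃ (L : Type u) (_ : Group L) (ι : ↥S →* L),
        E.IsModel 2 L ι ∧ ¬ Involves (Equiv.Perm (Fin 4)) L := by
    intro U hUS hUN hUb
    suffices ∀ T : Subgroup Ω, T = S → ∀ E' : FusionSystem T, (∀ P, E'.Hom P = F.normalizerHom U P) →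
        (∃ (L : Type u) (_ : Group L) (ι : ↥T →* L), E'.IsModel 2 L ι ∧ ¬ Involves (Equiv.Perm (Fin 4)) L) →
        ∃ E : FusionSystem S, (∀ P, E.Hom P = F.normalizerHom U P) ∧ ∃ (L : Type u) (_ : Group L) (ι : ↥S →* L),
          E.IsModel 2 L ι ∧ ¬ Involves (Equiv.Perm (Fin 4)) L from
      this _ (normalizerIn_eq_of_le_normalizer hUN) _ (F.normalizerSystem_isNormalizerSystem U hUS)
        (hmod U (isFullyNormalized_of_le_normalizer hUS hUN) hUb)
    rintro T rfl E' h1 h2
    exact ⟨E', h1, h2⟩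
  set J := functorOn thompsonFun S with hJdef
  set Z := functorOn centerFun S with hZdef
  obtain ⟨hJS, hJN, hJb⟩ := hWS _ (Or.inr rfl : thompsonFun ∈ centerThompsonFamily)
  obtain ⟨hZS, hZN, hZb⟩ := hWS _ (Or.inl rfl : centerFun ∈ centerThompsonFamily)
  obtain ⟨EJ, hEJ, M, _, ι, hM, hMfree⟩ := hloc J hJS hJN hJb
  obtain ⟨EZ, hEZ, H, _, κ, hH, hHfree⟩ := hloc Z hZS hZN hZb
  -- inside the model of the normaliser of `J`
  haveI := hM.1
  obtain ⟨T, hT⟩ := hM.2.2.1
  have hι := hM.2.1.1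
  have hJnE : EJ.IsNormal J := by
    refine ⟨hJS, fun P φ hφ => ?_⟩
    rw [hEJ] at hφ
    obtain ⟨-, hP, -, ψ, hψ, hψe, hψQ⟩ := hφ
    have hsup : P ⊔ J ≤ S := sup_le (hP.trans normalizerIn_le) hJS
    refine ⟨ψ, ?_, hψe, hψQ⟩
    rw [hEJ]
    refine ⟨hψ, hsup.trans (normalizerIn_eq_of_le_normalizer hJN).ge, fun y =>
      (normalizerIn_eq_of_le_normalizer hJN).ge (F.apply_mem hψ y),
      ψ.comp (Subgroup.inclusion (sup_le le_rfl le_sup_right)), F.restrict_mem hψ _, fun y => rfl, ?_⟩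
    rw [← Subgroup.map_map]
    refine Eq.trans ?_ hψQ
    congr 1
    rw [show J.subgroupOf (P ⊔ J ⊔ J) = (J.subgroupOf (P ⊔ J)).comap (Subgroup.inclusion (sup_le le_rfl le_sup_right))
      from rfl, Subgroup.map_comap_eq_self_of_surjective]
    intro y
    exact ⟨⟨y, Subgroup.mem_sup_left y.2⟩, Subtype.ext rfl⟩
  have hJT : thompsonSubgroupOf 2 (T : Subgroup M) = (J.subgroupOf S).map ι :=
    functorOn_range isCharPFunctor_thompsonFun hS hι hT
  haveI : (thompsonSubgroupOf 2 (T : Subgroup M)).Normal := hJT ▸ hM.normal_map hJnE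
  obtain ⟨-, hVY⟩ := normalClosure_le_omegaCenter_jh hMfree
    (fun K R _ hcon => sec_of_four_free h8 h4 hMfree K R hcon) T
  set V := Subgroup.normalClosure (omegaCenterOf (T : Subgroup M) : Set M) with hVdef
  haveI : V.Normal := Subgroup.normalClosure_normal
  have hVJ : V ≤ (J.subgroupOf S).map ι := hJT ▸ hVY.trans (omegaCenter_jh_le T)
  have hVr : V ≤ ι.range := hVJ.trans (Subgroup.map_le_range ι _)
  set A := (V.comap ι).map S.subtype with hAdef
  have hA : EJ.IsNormal A := hM.isNormal_comap V hVr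
  have hAS : A ≤ S := hA.1
  have hSA : S ≤ Subgroup.normalizer (A : Set Ω) := hA.le_normalizer
  have hAmem : ∀ (a : Ω) (ha : a ∈ S), a ∈ A ↔ ι ⟨a, ha⟩ ∈ V := fun a ha =>
    ⟨fun ⟨z, hz, he⟩ => by rw [show (⟨a, ha⟩ : S) = z from Subtype.ext he.symm]; exact hz,
      fun h => ⟨⟨a, ha⟩, h, rfl⟩⟩
  have hAb : A ≠ ⊥ := by
    intro hbot
    have hTb : (T : Subgroup M) ≠ ⊥ := by
      intro h
      rw [hT] at h
      refine hSb ((Subgroup.eq_bot_iff_forall _).mpr fun s hs => ?_)
      have h1 : ι ⟨s, hs⟩ ∈ ι.range := ⟨_, rfl⟩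
      rw [h, Subgroup.mem_bot, ← map_one ι] at h1
      exact congrArg Subtype.val (hι h1)
    refine omegaCenterOf_ne_bot T.2 hTb ((Subgroup.eq_bot_iff_forall _).mpr fun v hv => ?_)
    have hvV : v ∈ V := Subgroup.subset_normalClosure hv
    obtain ⟨s, rfl⟩ := hVr hvV
    have h2 : (s : Ω) ∈ A := ⟨s, hvV, rfl⟩
    rw [hbot, Subgroup.mem_bot, OneMemClass.coe_eq_one] at h2
    rw [h2, map_one]
  have hAJ : A ≤ J := by
    intro a ha
    obtain ⟨x, hx, he⟩ := hVJ ((hAmem a (hAS ha)).mp ha)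
    rw [show (a : Ω) = x from congrArg Subtype.val (hι he).symm]
    exact hx
  set Y := functorOn omegaJhFun S with hYdef
  have hAY : A ≤ Y := by
    intro a ha
    have h1 : omegaCenterOf (jh (T : Subgroup M)) = (Y.subgroupOf S).map ι := by
      rw [← inducedFunctor_omegaJhFun]
      exact functorOn_range isCharPFunctor_omegaJhFun hS hι hT
    obtain ⟨x, hx, he⟩ := h1.le (hVY ((hAmem a (hAS ha)).mp ha))
    rw [show (a : Ω) = x from congrArg Subtype.val (hι he).symm]
    exact hx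
  -- inside the model of the normaliser of `Z`
  haveI := hH.1
  obtain ⟨T', hT'⟩ := hH.2.2.1
  have hκ := hH.2.1.1
  set K := (A.subgroupOf S).map κ with hKdef
  have hKn : K.Normal := by
    refine ⟨fun x hx g => ?_⟩
    obtain ⟨c, hc, n, hn, rfl⟩ := exists_product_omega _ H rfl hHfree (compK_constrained h8 h4 hHfree hH.2.2.2)
      hH.2.2.2 T' g
    obtain ⟨a, ha, rfl⟩ := hx
    have hJT' : thompsonSubgroupOf 2 (T' : Subgroup H) = (J.subgroupOf S).map κ :=
      functorOn_range isCharPFunctor_thompsonFun hS hκ hT'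
    rw [hJT'] at hn
    have hnJ : ∀ y : J, n * κ ⟨y, hJS y.2⟩ * n⁻¹ ∈ (J.subgroupOf S).map κ := fun y =>
      (Subgroup.mem_normalizer_iff.mp hn _).mp ⟨⟨y, hJS y.2⟩, y.2, rfl⟩
    obtain ⟨ψ, hψ, hψe⟩ := hH.2.1.exists_hom hJS n fun y => Subgroup.map_le_range κ _ (hnJ y)
    have hψF : ψ ∈ F.Hom J := by
      rw [hEZ] at hψ
      exact hψ.1
    have hψJ : ψ ∈ EJ.Hom J := by
      haveI := finite_of_le hJS
      rw [hEJ]
      refine ⟨hψF, le_normalizerIn hJS, fun y => (normalizerIn_eq_of_le_normalizer hJN).ge (F.apply_mem hψF y),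
        ψ.comp (Subgroup.inclusion (sup_le le_rfl le_rfl)), F.restrict_mem hψF _, fun y => rfl, ?_⟩
      refine Subgroup.eq_of_le_of_card_ge ?_ (le_of_eq ?_)
      · rintro _ ⟨y, hy, rfl⟩
        obtain ⟨w, hw, hwe⟩ := hnJ ⟨y, hy⟩
        rw [← hψe ⟨y, hy⟩ (F.apply_mem hψF _)] at hwe
        show ψ ⟨(y : Ω), _⟩ ∈ J
        rw [show ψ ⟨(y : Ω), hy⟩ = (w : Ω) from congrArg Subtype.val (hκ hwe).symm]
        exact hw
      · rw [Subgroup.card_map_of_injective (F.injective_of_mem (F.restrict_mem hψF _))]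
        exact (Nat.card_congr (Subgroup.subgroupOfEquivOfLe (le_sup_right : J ≤ J ⊔ J)).toEquiv).symm
    have hψA : ψ ⟨(a : Ω), hAJ ha⟩ ∈ A := hA.stronglyClosed.apply_mem_of_mem hψJ ha
    set b : S := ⟨ψ ⟨(a : Ω), hAJ ha⟩, F.apply_mem hψF _⟩ with hbdef
    have hbe : κ b = n * κ a * n⁻¹ := hψe _ _
    have hbY : κ b ∈ omegaCenterOf (jh (T' : Subgroup H)) := by
      rw [← inducedFunctor_omegaJhFun, functorOn_range isCharPFunctor_omegaJhFun hS hκ hT']
      exact ⟨b, hAY hψA, rfl⟩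
    refine ⟨b, hψA, ?_⟩
    rw [show c * n * κ a * (c * n)⁻¹ = c * (n * κ a * n⁻¹) * c⁻¹ by group, ← hbe,
      ← hc _ hbY, mul_inv_cancel_right]
  haveI := hKn
  have hAZ : EZ.IsNormal A := by
    have h := hH.isNormal_comap K (Subgroup.map_le_range κ _)
    rwa [hKdef, Subgroup.comap_map_eq_self_of_injective hκ, Subgroup.subgroupOf_map_subtype,
      inf_eq_left.mpr hAS] at h
  -- both normalisers lie in the normaliser of `A`
  obtain ⟨D, hD⟩ : ∃ D : FusionSystem S, ∀ P, D.Hom P = F.normalizerHom A P := by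
    suffices ∀ T₀ : Subgroup Ω, T₀ = S → ∀ E' : FusionSystem T₀, (∀ P, E'.Hom P = F.normalizerHom A P) →
        ∃ D : FusionSystem S, ∀ P, D.Hom P = F.normalizerHom A P from
      this _ (normalizerIn_eq_of_le_normalizer hSA) _ (F.normalizerSystem_isNormalizerSystem A hAS)
    rintro T₀ rfl E' hE'
    exact ⟨E', hE'⟩
  have hle : F ≤ D := by
    refine le_of_center_thompson hF hS hmod fun W hm P φ hφ hle hPN hmap => ?_
    have hext : φ ∈ F.normalizerHom (functorOn W S) P := by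
      refine ⟨hφ, hPN, fun y => (normalizerIn_eq_of_le_normalizer (hWS W hm).2.1).ge (F.apply_mem hφ y),
        φ.comp (Subgroup.inclusion (sup_le le_rfl hle)), F.restrict_mem hφ _, fun y => rfl, ?_⟩
      rw [← Subgroup.map_map]
      refine Eq.trans ?_ hmap
      congr 1
      rw [show (functorOn W S).subgroupOf (P ⊔ functorOn W S) =
        ((functorOn W S).subgroupOf P).comap (Subgroup.inclusion (sup_le le_rfl hle)) from rfl,
        Subgroup.map_comap_eq_self_of_surjective]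
      intro y
      exact ⟨⟨y, Subgroup.mem_sup_left y.2⟩, Subtype.ext rfl⟩
    rw [hD]
    rcases hm with rfl | rfl
    · exact mem_normalizerHom_of_isNormal le_rfl (fun P φ h => by rw [hEZ] at h; exact h.1) hAZ ((hEZ P).ge hext)
    · exact mem_normalizerHom_of_isNormal le_rfl (fun P φ h => by rw [hEJ] at h; exact h.1) hA ((hEJ P).ge hext)
  have hAn : F.IsNormal A := ⟨hAS, fun P φ hφ => by
    have := hle P hφ
    rw [hD] at this
    exact this.2.2.2⟩
  exact hAb (le_bot_iff.mp (hb ▸ hAn.le_core))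

/-- At the prime 2 the core is not trivial. -/
theorem core_ne_bot_aux [Fact (Nat.Prime 2)] (h8 : EightKilled.{u}) (h4 : FourKilled.{u}) :
    ∀ N m : ℕ, ∀ {Ω : Type u} [Group Ω] {S : Subgroup Ω} [Finite S] (F : FusionSystem S),
      Nat.card S = N → F.count = m → F.IsSaturated 2 → IsPGroup 2 S → ¬ F.QdWitness 2 → S ≠ ⊥ → F.core ≠ ⊥ := by
  intro N
  induction N using Nat.strong_induction_on with
  | h N ihn =>
    intro m
    induction m using Nat.strong_induction_on with
    | h m ihm =>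
      intro Ω _ S _ F hN hm hF hS hfree hSb hb
      refine core_ne_bot_step h8 h4 hF hS hSb (fun U hU hUb => ?_) hb
      set E := F.normalizerSystem U hU.1
      have hNE := F.normalizerSystem_isNormalizerSystem U hU.1
      haveI : Finite (normalizerIn S U) := finite_normalizerIn
      have hTS : normalizerIn S U ≤ S := normalizerIn_le
      have hEs : E.IsSaturated 2 := hF.isSaturated_normalizerSystem hS hU hNE
      have hTp := hS.to_le hTS
      have hEf : ¬ E.QdWitness 2 := fun h => hfree (h.mono hNE.subsystem)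
      have hUn : ¬ F.IsNormal U := fun h => hUb (le_bot_iff.mp (hb ▸ h.le_core))
      have hlt := count_lt_of_lt hNE.subsystem (hNE.proper hU.1 hUn) hTS
      have hcon : E.IsConstrained 2 := by
        refine IsSolvableSystem.isConstrained hTp hEs (solvable_of_cores hEs hTp hEf (fun hne => ?_)
          fun E' hlt' hs' hp' hf' hne' => ihn _ ?_ _ E' rfl rfl hs' hp' hf' hne')
        · rcases hlt with h | ⟨h, h'⟩
          · exact ihn _ (hN ▸ h) _ E rfl rfl hEs hTp hEf hne
          · exact ihm _ (hm ▸ h') E (h.trans hN) rfl hEs hTp hEf hne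
        · exact lt_of_lt_of_le hlt' (hN ▸ Nat.card_le_card_of_injective _ (Subgroup.inclusion_injective hTS))
      obtain ⟨L, iL, ι, hL⟩ := (hcon.setup_core hTp).exists_isModel
      haveI := hL.1
      obtain ⟨TT, hTT⟩ := hL.2.2.1
      exact ⟨L, iL, ι, hL, fun h => hEf (QdWitness.of_involves hL.2.1 hTT (CfsgLib.QdTwo.involves_qd_two h))⟩

end CfsgLib.S3Simple
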