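import Cfsg.Agent.Lib.S3Simple.FusionCore
import Cfsg.Agent.Lib.Fusion.Model.Main

/-!
Solvability of `Qd(p)`-free systems (S5282) and constrained `S₃`-free 2-systems (S5109), from the classification.

Blueprint: `blueprint/FusionScreen.md`.
-/

set_option autoImplicit false
set_option linter.unusedSectionVars false
set_option linter.style.haveILetI false

namespace CfsgLib.S3Simple

open Cfsg Cfsg.FusionSystem CfsgLib CfsgLib.QdSection

universe u

variable {p : ℕ} [Fact p.Prime] {Ω : Type u} [Group Ω] {S : Subgroup Ω} [Finite S] {F : FusionSystem S}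

/-- A system without a witness for `Qd(p)` has a non-trivial normal subgroup. -/
theorem core_ne_bot_of_free (h8 : EightKilled.{u}) (h4 : FourKilled.{u}) (hF : F.IsSaturated p)
    (hS : IsPGroup p S) (hfree : ¬ F.QdWitness p) (hSb : S ≠ ⊥) : F.core ≠ ⊥ := by
  by_cases hp : p = 2
  · subst hp
    exact core_ne_bot_aux h8 h4 _ _ F rfl rfl hF hS hfree hSb
  · exact core_ne_bot_odd hp hF hS hfree hSb

/-- A system without a witness for `Qd(p)` is solvable. -/
theorem solvable_of_free (h8 : EightKilled.{u}) (h4 : FourKilled.{u}) (hF : F.IsSaturated p)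
    (hS : IsPGroup p S) (hfree : ¬ F.QdWitness p) : F.IsSolvableSystem :=
  solvable_of_cores hF hS hfree (core_ne_bot_of_free h8 h4 hF hS hfree)
    fun _ _ hs hp hf hne => core_ne_bot_of_free h8 h4 hs hp hf hne

/-- S5282. -/
theorem realizable_of_killed (h8 : EightKilled.{u}) (h4 : FourKilled.{u}) (hS : IsPGroup p S)
    (hF : F.IsSaturated p) (hfree : F.IsSectionFree p ↥(Cfsg.qd p)) : F.IsRealizable p ∧ F.IsSolvableSystem := by
  have hsol := solvable_of_free h8 h4 hF hS ((hF.isSectionFree_qd_iff hS).mp hfree)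
  obtain ⟨L, iL, ι, hL⟩ := ((hsol.isConstrained hS hF).setup_core hS).exists_isModel
  exact ⟨⟨L, iL, hL.1, ι, hL.2.1, hL.2.2.1⟩, hsol⟩

/-- No section `S₃` in the automisers excludes a witness for `Qd(2)`. -/
theorem no_witness_of_three_free
    (h3 : ∀ U : Subgroup Ω, U ≤ S → ¬ Involves (Equiv.Perm (Fin 3)) ↥(F.autGroup U)) : ¬ F.QdWitness 2 := by
  classical
  rintro ⟨Y, hYS, e, he, hM⟩
  haveI : Finite Y := finite_of_le hYS
  let B : Subgroup (F.autGroup Y) :=
    { carrier := {α | ∃ M : Matrix.SpecialLinearGroup (Fin 2) (ZMod 2), ∀ y : Y, e ((α : MulAut Y) y) = act M (e y)}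
      one_mem' := ⟨1, fun y => by rw [act_one]; rfl⟩
      mul_mem' := by
        rintro a b ⟨M, hMa⟩ ⟨N, hNb⟩
        refine ⟨M * N, fun y => ?_⟩
        rw [act_mul, ← hNb, ← hMa]
        rfl
      inv_mem' := by
        rintro a ⟨M, hMa⟩
        refine ⟨M⁻¹, fun y => ?_⟩
        have h1 := hMa ((a : MulAut Y)⁻¹ y)
        rw [MulAut.apply_inv_self] at h1
        rw [h1, ← act_mul, inv_mul_cancel, act_one]
        rfl }
  have hex : ∀ b : B, ∃ M : Matrix.SpecialLinearGroup (Fin 2) (ZMod 2),
      ∀ y : Y, e (((b : F.autGroup Y) : MulAut Y) y) = act M (e y) := fun b => b.2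
  let f : B →* Matrix.SpecialLinearGroup (Fin 2) (ZMod 2) := MonoidHom.mk' (fun b => (hex b).choose) fun a b => by
    refine act_ext fun v => ?_
    obtain ⟨y, rfl⟩ := he v
    rw [act_mul, ← (hex (a * b)).choose_spec, ← (hex b).choose_spec, ← (hex a).choose_spec]
    rfl
  have hf : Function.Surjective f := by
    intro M
    obtain ⟨φ, hφ, hm, heq⟩ := hM M
    have hr : φ.range = Y := by
      refine Subgroup.eq_of_le_of_card_ge (by rintro _ ⟨y, rfl⟩; exact hm y) (le_of_eq ?_)
      exact Nat.card_congr (MonoidHom.ofInjective (F.injective_of_mem hφ)).toEquiv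
    refine ⟨⟨⟨F.isoOf hφ hr, F.isoOf_mem_autGroup hφ hr⟩, M, fun y => heq y⟩, ?_⟩
    refine act_ext fun v => ?_
    obtain ⟨y, rfl⟩ := he v
    exact ((hex _).choose_spec y).symm.trans (heq y)
  let P := {v : Vec 2 // v ≠ 1}
  have hne : ∀ (M : Matrix.SpecialLinearGroup (Fin 2) (ZMod 2)) (v : P), act M v.1 ≠ 1 := by
    intro M v h
    apply v.2
    have h1 := congrArg (act M⁻¹) h
    rw [← act_mul, inv_mul_cancel, act_one] at h1
    rw [h1]
    show Multiplicative.ofAdd _ = 1
    simp
  let ρ : Matrix.SpecialLinearGroup (Fin 2) (ZMod 2) →* Equiv.Perm P := MonoidHom.mk'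
    (fun M => ⟨fun v => ⟨act M v.1, hne M v⟩, fun v => ⟨act M⁻¹ v.1, hne _ v⟩,
      fun v => Subtype.ext (by
        show act M⁻¹ (act M v.1) = v.1
        rw [← act_mul, inv_mul_cancel, act_one]),
      fun v => Subtype.ext (by
        show act M (act M⁻¹ v.1) = v.1
        rw [← act_mul, mul_inv_cancel, act_one])⟩)
    fun M N => Equiv.ext fun v => Subtype.ext (act_mul M N v.1)
  have hρ : Function.Injective ρ := by
    intro M N h
    refine act_ext fun v => ?_
    by_cases hv : v = 1
    · subst hv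
      show Multiplicative.ofAdd _ = Multiplicative.ofAdd _
      simp
    · exact congrArg Subtype.val (congrFun (congrArg (fun q : Equiv.Perm P => (q : P → P)) h) ⟨v, hv⟩)
  have hP : Nat.card P = 3 := by
    haveI := Fintype.ofFinite (Vec 2)
    have h4 : Nat.card (Vec 2) = 4 := by
      rw [Nat.card_congr Multiplicative.toAdd, Nat.card_fun, Nat.card_zmod, Nat.card_fin]
      norm_num
    have hc : Nat.card P = Nat.card (Vec 2) - 1 := by
      rw [Nat.card_eq_fintype_card, Nat.card_eq_fintype_card, Fintype.card_subtype_compl, Fintype.card_subtype_eq]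
    omega
  have hbij : Function.Bijective ρ := by
    refine hρ.bijective_of_nat_card_le (le_of_eq ?_)
    rw [CfsgLib.QdTwo.card_sl_two, Nat.card_perm, hP]
    rfl
  let k : P ≃ Fin 3 := (Finite.equivFin P).trans (finCongr hP)
  refine h3 Y hYS (involves_of_surjective B
    ((k.permCongrHom.toMonoidHom.comp ρ).comp f) ((k.permCongrHom.surjective.comp hbij.2).comp hf))

/-- S5109. -/
theorem constrained_of_killed (h8 : EightKilled.{u}) (h4 : FourKilled.{u}) (hS : IsPGroup 2 S)
    (hF : F.IsSaturated 2) (h3 : ∀ U : Subgroup Ω, U ≤ S → ¬ Involves (Equiv.Perm (Fin 3)) ↥(F.autGroup U)) :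
    F.IsConstrained 2 := by
  haveI : Fact (Nat.Prime 2) := ⟨Nat.prime_two⟩
  exact (solvable_of_free h8 h4 hF hS (no_witness_of_three_free h3)).isConstrained hS hF

end CfsgLib.S3Simple
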