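import Cfsg.Agent.Lib.S3Simple.Main
import Cfsg.Agent.Lib.S3Simple.Component
import Cfsg.Agent.Lib.S3Simple.Rows
import Cfsg.Agent.Lib.S3Simple.Four.Block
import Cfsg.Agent.Lib.S3Free.SmallSimpleFacts
import Cfsg.Agent.Lib.Homogeneous.Models
import Cfsg.Agent.Lib.CpQuot.Basic
import Cfsg.Agent.Lib.Comp.Balance
import Cfsg.Agent.S2086
import Cfsg.Agent.Lib.Suzuki.Semisimple

/-!
Consequences for groups without real elements of order three (S4031, S4976).
-/

set_option autoImplicit false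
set_option linter.unusedSectionVars false
set_option linter.style.haveILetI false

namespace CfsgLib.S3Simple

open Cfsg CfsgLib.Comp

universe u

variable {G : Type u} [Group G] [Finite G]

local notation "L2[" F "]" => Matrix.ProjectiveSpecialLinearGroup (Fin 2) F

/-- A conjugating element may be replaced by its 2-part when it inverts an element. -/
theorem exists_two_power_inverting {X : Type*} [Group X] [Finite X] {g y : X} (h : g * y * g⁻¹ = y⁻¹) :
    ∃ x : X, (∃ k : ℕ, orderOf x = 2 ^ k) ∧ x * y * x⁻¹ = y⁻¹ := by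
  obtain ⟨k, l, hl, hn⟩ := Nat.exists_eq_pow_mul_and_not_dvd (orderOf_pos g).ne' 2 (by norm_num)
  have h2 : ∀ n : ℕ, g ^ (2 * n) * y * (g ^ (2 * n))⁻¹ = y := fun n => by
    induction n with
    | zero => simp
    | succ n ih =>
      have hgg : g * (g * y * g⁻¹) * g⁻¹ = y := by rw [h, ← conj_inv, h, inv_inv]
      rw [show 2 * (n + 1) = 2 * n + 1 + 1 by ring, pow_succ, pow_succ, mul_inv_rev, mul_inv_rev]
      calc g ^ (2 * n) * g * g * y * (g⁻¹ * (g⁻¹ * (g ^ (2 * n))⁻¹))
          = g ^ (2 * n) * (g * (g * y * g⁻¹) * g⁻¹) * (g ^ (2 * n))⁻¹ := by group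
        _ = y := by rw [hgg, ih]
  obtain ⟨n, rfl⟩ : ∃ n, l = 2 * n + 1 := ⟨l / 2, by omega⟩
  refine ⟨g ^ (2 * n + 1), ⟨k, ?_⟩, ?_⟩
  · rw [orderOf_pow' g (by omega), hn, Nat.gcd_eq_right (dvd_mul_left _ _), Nat.mul_div_cancel _ (by omega)]
  · rw [pow_succ', mul_inv_rev]
    calc g * g ^ (2 * n) * y * ((g ^ (2 * n))⁻¹ * g⁻¹) = g * (g ^ (2 * n) * y * (g ^ (2 * n))⁻¹) * g⁻¹ := by group
      _ = y⁻¹ := by rw [h2, h]

/-- No real element of order three gives no section `S₃`. -/
theorem free_of_not_real (h : ∀ x : G, orderOf x = 3 → ¬ IsConj x x⁻¹) :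
    ¬ Involves (Equiv.Perm (Fin 3)) G := by
  intro hinv
  obtain ⟨x, y, -, ⟨k, hk⟩, hy1, hxy⟩ := GoldschmidtS3.involves_perm3_iff.mp hinv
  rcases Nat.eq_zero_or_pos k with rfl | hk0
  · exact hy1 (orderOf_eq_one_iff.mp (by simpa using hk))
  refine h (y ^ 3 ^ (k - 1)) ?_ (isConj_iff.mpr ⟨x, by rw [← conj_pow, hxy, inv_pow]⟩)
  rw [orderOf_pow' y (by positivity), hk, Nat.gcd_eq_right (Nat.pow_dvd_pow _ (Nat.sub_le _ _)),
    Nat.pow_div (Nat.sub_le _ _) (by norm_num), show k - (k - 1) = 1 by omega, pow_one]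

/-- A listed simple group is a Suzuki group or `PSL₂(3^(2f+1))`, `f ≥ 1`. -/
theorem suzuki_or_galois {K : Type u} [Group K] [Finite K] [IsSimpleGroup K]
    (hl : IsSuzukiOrPSL2OddPowerThree K) :
    Lie.IsoSuzuki K ∨ ∃ f : ℕ, 1 ≤ f ∧ Nonempty (K ≃* L2[GaloisField 3 (2 * f + 1)]) := by
  rcases listed_model hl with ⟨F, i1, i2, m, hm, hc, ⟨e⟩⟩ | ⟨F, i1, i2, m, D, ⟨e⟩⟩
  · exact Or.inl ⟨F, i1, i2, m, hm, hc, ⟨e.trans (Suzuki.lieEquiv hc hm)⟩⟩
  · haveI : Fact (Nat.Prime 3) := ⟨Nat.prime_three⟩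
    refine Or.inr ⟨m, D.hm, ?_⟩
    haveI : Finite (GaloisField 3 (2 * m + 1)) := Nat.finite_of_card_ne_zero (by
      rw [GaloisField.card 3 (2 * m + 1) (by omega)]; positivity)
    haveI := Fintype.ofFinite (GaloisField 3 (2 * m + 1))
    have hc : Fintype.card F = Fintype.card (GaloisField 3 (2 * m + 1)) := by
      rw [D.hq, Fintype.card_eq_nat_card, GaloisField.card 3 (2 * m + 1) (by omega)]
    exact ⟨e.trans (Homogeneous.pslCongr (FiniteField.ringEquivOfCardEq hc))⟩

/-- `PSL₂(3^(2f+1))` has no section `S₃`. -/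
theorem galois_free (f : ℕ) : ¬ Involves (Equiv.Perm (Fin 3)) L2[GaloisField 3 (2 * f + 1)] := by
  haveI : Fact (Nat.Prime 3) := ⟨Nat.prime_three⟩
  haveI : Finite (GaloisField 3 (2 * f + 1)) := Nat.finite_of_card_ne_zero (by
    rw [GaloisField.card 3 (2 * f + 1) (by omega)]; positivity)
  haveI := Fintype.ofFinite (GaloisField 3 (2 * f + 1))
  refine GoldschmidtS3.psl_s3_free fun h => ?_
  refine FiniteField.isSquare_neg_one_iff.mp h ?_
  rw [Fintype.card_eq_nat_card, GaloisField.card 3 (2 * f + 1) (by omega), pow_succ, pow_mul, Nat.mul_mod,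
    Nat.pow_mod]
  norm_num

/-- The order of `PSL₂(3^(2f+1))` is divisible by three. -/
theorem galois_three (f : ℕ) : 3 ∣ Nat.card L2[GaloisField 3 (2 * f + 1)] := by
  haveI : Fact (Nat.Prime 3) := ⟨Nat.prime_three⟩
  haveI : Finite (GaloisField 3 (2 * f + 1)) := Nat.finite_of_card_ne_zero (by
    rw [GaloisField.card 3 (2 * f + 1) (by omega)]; positivity)
  haveI := Fintype.ofFinite (GaloisField 3 (2 * f + 1))
  obtain ⟨x, hx⟩ := ReeTori.exists_three (F := GaloisField 3 (2 * f + 1))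
  have h := orderOf_dvd_natCard x
  rwa [hx] at h

/-- S4031. -/
theorem irrational_of_killed (h8 : EightKilled.{u}) (h4 : FourKilled.{u}) [IsSimpleGroup G]
    (hna : ¬ IsMulCommutative G)
    (hirr : ∀ x : G, (∀ r : ℕ, r.Prime → r ∣ orderOf x → r = 3) →
      Subgroup.normalizer ((Subgroup.zpowers x : Subgroup G) : Set G) ≤ Subgroup.centralizer {x}) :
    (∃ f : ℕ, 1 ≤ f ∧ Nonempty (G ≃* L2[GaloisField 3 (2 * f + 1)])) ∨ Cfsg.IsSuzuki G := by
  have hfree : ¬ Involves (Equiv.Perm (Fin 3)) G := fun hinv => by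
    obtain ⟨x, y, -, ⟨k, hk⟩, hy1, hxy⟩ := GoldschmidtS3.involves_perm3_iff.mp hinv
    have hxn : x ∈ Subgroup.normalizer ((Subgroup.zpowers y : Subgroup G) : Set G) :=
      CfsgLib.Comp.mem_normalizer_of_maps fun z hz => by
        obtain ⟨i, rfl⟩ := Subgroup.mem_zpowers_iff.mp hz
        rw [← conj_zpow, hxy, inv_zpow]
        exact inv_mem (zpow_mem (Subgroup.mem_zpowers y) _)
    have hc := Subgroup.mem_centralizer_singleton_iff.mp
      (hirr y (fun r hr hd => (Nat.prime_dvd_prime_iff_eq hr Nat.prime_three).mp (hr.dvd_of_dvd_pow (hk ▸ hd))) hxn)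
    have hy2 : y ^ 2 = 1 := by
      rw [hc, mul_inv_cancel_right] at hxy
      rw [pow_two]
      nth_rewrite 2 [hxy]
      exact mul_inv_cancel y
    have hd : orderOf y ∣ 2 := orderOf_dvd_of_pow_eq_one hy2
    rw [hk] at hd
    rcases Nat.eq_zero_or_pos k with rfl | hk0
    · exact hy1 (orderOf_eq_one_iff.mp (by simpa using hk))
    · have := Nat.le_of_dvd (by norm_num) hd
      have := Nat.le_self_pow hk0.ne' 3
      omega
  rcases suzuki_or_galois (classify_of_killed h8 h4 G inferInstance hna hfree) with hz | hf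
  · obtain ⟨F, i1, i2, m, hm, hc, ⟨e⟩⟩ := hz
    exact Or.inr ⟨inferInstance, m, hm,
      by rw [Nat.card_congr e.toEquiv, (Cfsg.Agent.S1163.result hm hc).1]; ring⟩
  · exact Or.inl hf

/-! ### The multipliers -/

variable {X : Type u} [Group X] [Finite X]

/-- The centre of a covering group divides the multiplier of the quotient. -/
theorem center_card_dvd_mult [Group.IsPerfect X] {S : Type} [Group S] {A : Type} [CommGroup A]
    (hA : HasSchurMultiplier S A) (e : X ⧸ Subgroup.center X ≃* S) :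
    Nat.card (Subgroup.center X) ∣ Nat.card A := by
  have hk : (e.toMonoidHom.comp (QuotientGroup.mk' (Subgroup.center X))).ker = Subgroup.center X := by
    ext x
    simp [MonoidHom.mem_ker]
  have h := CpQuot.ker_card_dvd hA (e.toMonoidHom.comp (QuotientGroup.mk' (Subgroup.center X)))
    (e.surjective.comp (QuotientGroup.mk'_surjective _)) hk.le
  rwa [hk] at h

/-- The centre of a covering group of a Suzuki group is a 2-group. -/
theorem suzuki_center (hq : IsQuasisimple X) (hs : Lie.IsoSuzuki (X ⧸ Subgroup.center X)) :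
    IsPGroup 2 (Subgroup.center X) := by
  haveI := hq.1
  suffices h : ∀ p : ℕ, p.Prime → p ∣ Nat.card (Subgroup.center X) → p = 2 by
    obtain ⟨k, hk⟩ : ∃ k, Nat.card (Subgroup.center X) = 2 ^ k :=
      ⟨_, Nat.eq_prime_pow_of_unique_prime_dvd Nat.card_pos.ne' fun {d} hd hdv => h d hd hdv⟩
    exact IsPGroup.of_card hk
  intro p hp hd
  by_contra hp2
  haveI : Fact p.Prime := ⟨hp⟩
  obtain ⟨F, i1, i2, m, hm, hF, ⟨e0⟩⟩ := hs
  let e := e0.trans (Suzuki.lieEquiv hF hm).symm
  haveI : Finite ↥(Cfsg.Sz F m) := Finite.of_equiv _ e.toEquiv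
  obtain ⟨z, hz⟩ := exists_prime_orderOf_dvd_card' p hd
  obtain ⟨P, hP⟩ := ((IsPGroup.of_card (n := 1) (show Nat.card (Subgroup.zpowers (z : X)) = p ^ 1 by
    rw [Nat.card_zpowers, Subgroup.orderOf_coe, hz, pow_one]))).exists_le_sylow
  set σ := e.toMonoidHom.comp (QuotientGroup.mk' (Subgroup.center X))
  set Pb := (P : Subgroup X).map σ with hPb
  have hPbp : IsPGroup p Pb := P.2.map σ
  haveI hcyc : IsCyclic Pb := by
    rcases subsingleton_or_nontrivial Pb with hsub | hnt
    · infer_instance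
    · haveI := hPbp.center_nontrivial
      obtain ⟨⟨c, hc⟩, hc1⟩ := exists_ne (1 : Subgroup.center Pb)
      have hne : (c : ↥(Cfsg.Sz F m)) ≠ 1 := fun h => hc1 (Subtype.ext (Subtype.ext h))
      have hss : Suzuki.SS hF (c : ↥(Cfsg.Sz F m)) := by
        refine ⟨hne, fun h => hne (orderOf_eq_one_iff.mp ?_)⟩
        have h2 := Suzuki.orderOf_dvd_of_conjSet _ h
        rw [Suzuki.card_U, ← pow_mul] at h2
        obtain ⟨k, hk⟩ := IsPGroup.iff_orderOf.mp hPbp c
        rw [← Subgroup.orderOf_coe] at hk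
        exact Nat.eq_one_of_dvd_coprimes (Nat.Coprime.pow k _ ((Nat.coprime_primes hp Nat.prime_two).mpr hp2))
          (dvd_of_eq hk) h2
      obtain ⟨-, -, hcyc', -, -⟩ := Suzuki.ss_data hF hm hss
      haveI := hcyc'
      refine isCyclic_of_injective (Subgroup.inclusion (K := Subgroup.centralizer
        ({(c : ↥(Cfsg.Sz F m))} : Set ↥(Cfsg.Sz F m))) fun x hx => ?_) (Subgroup.inclusion_injective _)
      exact Subgroup.mem_centralizer_singleton_iff.mpr
        (congrArg Subtype.val (Subgroup.mem_center_iff.mp hc ⟨x, hx⟩))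
  haveI hab : IsMulCommutative ↥(P : Subgroup X) := by
    refine MonoidHom.isMulCommutative_of_isCyclic_of_ker_le_center (σ.subgroupMap (P : Subgroup X)) fun x hx => ?_
    have hxZ : (x : X) ∈ Subgroup.center X :=
      (QuotientGroup.eq_one_iff _).mp (e.injective ((congrArg Subtype.val hx).trans (map_one e).symm))
    exact Subgroup.mem_center_iff.mpr fun y => Subtype.ext (Subgroup.mem_center_iff.mp hxZ y)
  letI : CommGroup ↥(P : Subgroup X) := { (inferInstance : Group ↥(P : Subgroup X)) with mul_comm := hab.is_comm.comm }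
  have hzc : ∀ g : X, g * (z : X) = (z : X) * g := fun g => Subgroup.mem_center_iff.mp z.2 g
  have key : ∀ (k : ℕ) (g₀ : X), g₀⁻¹ * (z : X) ^ k * g₀ ∈ (P : Subgroup X) →
      g₀⁻¹ * (z : X) ^ k * g₀ = (z : X) ^ k := fun k g₀ _ => by
    rw [mul_assoc, ← (show Commute g₀ (z : X) from hzc g₀).pow_right k |>.eq, inv_mul_cancel_left]
  let τ : X →* ↥(P : Subgroup X) := MonoidHom.transfer (MonoidHom.id ↥(P : Subgroup X))
  have h1 : τ (z : X) = 1 := by
    have hker : commutator X ≤ τ.ker := Abelianization.commutator_subset_ker τ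
    exact MonoidHom.mem_ker.mp (hker Group.IsPerfect.mem_commutator)
  rw [show τ (z : X) = _ from MonoidHom.transfer_eq_pow _ _ key] at h1
  have h2 : (z : X) ^ (P : Subgroup X).index = 1 := congrArg Subtype.val h1
  have h3 := orderOf_dvd_of_pow_eq_one h2
  rw [Subgroup.orderOf_coe, hz] at h3
  exact P.not_dvd_index h3

/-- The centre of a covering group of `PSL₂(3^(2f+1))` has order dividing two. -/
theorem galois_center (hq : IsQuasisimple X) {f : ℕ} (hf : 1 ≤ f)
    (e : X ⧸ Subgroup.center X ≃* L2[GaloisField 3 (2 * f + 1)]) : Nat.card (Subgroup.center X) ∣ 2 := by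
  haveI := hq.1
  haveI : Fact (Nat.Prime 3) := ⟨Nat.prime_three⟩
  haveI : Finite (GaloisField 3 (2 * f + 1)) := Nat.finite_of_card_ne_zero (by
    rw [GaloisField.card 3 (2 * f + 1) (by omega)]; positivity)
  haveI := Fintype.ofFinite (GaloisField 3 (2 * f + 1))
  have hc : Fintype.card (GaloisField 3 (2 * f + 1)) = 3 ^ (2 * f + 1) := by
    rw [Fintype.card_eq_nat_card, GaloisField.card 3 (2 * f + 1) (by omega)]
  have h27 : 27 ≤ 3 ^ (2 * f + 1) :=
    (show 27 = 3 ^ 3 by norm_num) ▸ Nat.pow_le_pow_right (by norm_num) (by omega)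
  have h := center_card_dvd_mult
    (Cfsg.Agent.S2086.result hc 2 le_rfl (fun _ => by omega) (by
      simp only [Set.mem_insert_iff, Set.mem_singleton_iff, Prod.mk.injEq]; omega)) e
  rw [Nat.card_congr Multiplicative.toAdd, Nat.card_zmod] at h
  exact h.trans (Nat.gcd_dvd_left _ _)

/-- A group generated by pairwise commuting non-abelian simple subgroups is their direct product. -/
theorem exists_pi_equiv {Q : Type*} [Group Q] [Finite Q] {k : ℕ} (S : Fin k → Subgroup Q)
    (hs : ∀ i, IsSimpleGroup ↥(S i)) (hna : ∀ i, ¬ IsMulCommutative ↥(S i))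
    (hcomm : Pairwise fun i j => ∀ x y : Q, x ∈ S i → y ∈ S j → Commute x y) (htop : ⨆ i, S i = ⊤) :
    Nonempty (((i : Fin k) → ↥(S i)) ≃* Q) := by
  have hind : iSupIndep S := fun i => by
    rw [disjoint_iff, eq_bot_iff]
    intro x hx
    obtain ⟨hxi, hxo⟩ := Subgroup.mem_inf.mp hx
    have hle : (⨆ j, ⨆ _ : j ≠ i, S j) ≤ Subgroup.centralizer (S i : Set Q) :=
      iSup₂_le fun j hj y hy a ha => hcomm hj.symm a y ha hy
    have hcen : (⟨x, hxi⟩ : ↥(S i)) ∈ Subgroup.center ↥(S i) :=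
      Subgroup.mem_center_iff.mpr fun a => Subtype.ext (hle hxo a a.2)
    haveI := hs i
    have hbot : Subgroup.center ↥(S i) = ⊥ :=
      ((inferInstance : (Subgroup.center ↥(S i)).Normal).eq_bot_or_eq_top).resolve_right fun h =>
        hna i ⟨⟨fun a b => (Subgroup.mem_center_iff.mp (h ▸ Subgroup.mem_top b) a)⟩⟩
    rw [hbot, Subgroup.mem_bot] at hcen
    exact Subgroup.mem_bot.mpr (congrArg Subtype.val hcen)
  refine ⟨MulEquiv.ofBijective (Subgroup.noncommPiCoprod hcomm)
    ⟨Subgroup.injective_noncommPiCoprod_of_iSupIndep hind, ?_⟩⟩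
  rw [← MonoidHom.range_eq_top, Subgroup.noncommPiCoprod_range]
  exact htop

/-- An element inducing an inner automorphism on the simple quotient of a component lies in `E C(E)`. -/
theorem exists_inner_of_actQ {M : Type u} [Group M] [Finite M] {E : Subgroup M} (hE : IsComponent E) {q : M}
    (hq : q ∈ Subgroup.normalizer (E : Set M))
    (h : actQ E ⟨q, hq⟩ ∈ (MulAut.conj (G := ↥E ⧸ Subgroup.center ↥E)).range) :
    ∃ j ∈ E, j⁻¹ * q ∈ Subgroup.centralizer (E : Set M) := by
  obtain ⟨c, hc⟩ := h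
  obtain ⟨j, rfl⟩ := QuotientGroup.mk'_surjective _ c
  refine ⟨j, j.2, ?_⟩
  have hjn : (j : M) ∈ Subgroup.normalizer (E : Set M) := Subgroup.le_normalizer j.2
  have hj : actQ E ⟨j, hjn⟩ = MulAut.conj (QuotientGroup.mk' (Subgroup.center ↥E) j) :=
    MulEquiv.ext fun r => by
      obtain ⟨d, rfl⟩ := QuotientGroup.mk'_surjective _ r
      rw [actQ_apply, MulAut.conj_apply, ← map_inv, ← map_mul, ← map_mul]
      rfl
  refine centralizes_of_actQ hE (mul_mem (inv_mem hjn) hq) ?_
  rw [show (⟨(j : M)⁻¹ * q, mul_mem (inv_mem hjn) hq⟩ : Subgroup.normalizer (E : Set M)) =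
    ⟨j, hjn⟩⁻¹ * ⟨q, hq⟩ from rfl, map_mul, map_inv, hj, hc, inv_mul_cancel]

/-- A group without section `S₃`, generated by 2-elements and without a non-trivial normal `3'`-subgroup, is a
direct product of groups `PSL₂(3^(2f+1))`. -/
theorem product_of_killed (h8 : EightKilled.{u}) (h4 : FourKilled.{u}) (hO : pPrimeCore 3 G = ⊥)
    (hfree : ¬ Involves (Equiv.Perm (Fin 3)) G)
    (hgen : Subgroup.closure {g : G | ∃ k : ℕ, orderOf g = 2 ^ k} = ⊤) :
    ∃ (k : ℕ) (f : Fin k → ℕ), (∀ i, 1 ≤ f i) ∧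
      Nonempty (G ≃* ((i : Fin k) → L2[GaloisField 3 (2 * f i + 1)])) := by
  haveI : Fact (Nat.Prime 3) := ⟨Nat.prime_three⟩
  -- the Fitting subgroup is a central 3-group
  have hF3 : fittingSubgroup G ≤ pCore 3 G := by
    rw [fittingSubgroup_eq_iSup_pCore]
    refine iSup_le fun p => ?_
    by_cases hp : (p : ℕ) = 3
    · rw [hp]
    · haveI : Fact (p : ℕ).Prime := ⟨p.2⟩
      refine le_trans ?_ (hO.le.trans bot_le)
      haveI : (pCore (p : ℕ) G).Normal := inferInstance
      refine le_pPrimeCore ?_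
      obtain ⟨n, hn⟩ := IsPGroup.iff_card.mp (isPGroup_pCore (G := G) (p : ℕ))
      rw [hn]
      exact Nat.Coprime.pow_left n ((Nat.coprime_primes p.2 Nat.prime_three).mpr hp)
  have hZc : pCore 3 G ≤ Subgroup.center G := by
    intro z hz
    refine Subgroup.mem_center_iff.mpr fun g => ?_
    have hg : g ∈ Subgroup.centralizer (pCore 3 G : Set G) := by
      have hle : Subgroup.closure {g : G | ∃ k : ℕ, orderOf g = 2 ^ k} ≤
          Subgroup.centralizer (pCore 3 G : Set G) := (Subgroup.closure_le _).mpr fun x ⟨k, hk⟩ =>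
        two_centralizes_three hfree hk (isPGroup_pCore 3) (by
          rw [Subgroup.normalizer_eq_top]; exact Subgroup.mem_top x)
      exact hle (hgen ▸ Subgroup.mem_top g)
    exact (hg z hz).symm
  -- the components are simple and are linear groups
  have hcomp : ∀ E : Subgroup G, IsComponent E → IsSimpleGroup ↥E ∧ ¬ IsMulCommutative ↥E ∧
      ∃ f : ℕ, 1 ≤ f ∧ Nonempty (↥E ≃* L2[GaloisField 3 (2 * f + 1)]) ∧
        IsSuzukiOrPSL2OddPowerThree (↥E ⧸ Subgroup.center ↥E) ∧ 3 ∣ Nat.card (↥E ⧸ Subgroup.center ↥E) := by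
    intro E hE
    haveI := component_isSimple hE
    have hl := compK_of_killed h8 h4 G hfree E hE.1 (Subgroup.center ↥E) (component_isSimple hE)
      (component_not_comm hE)
    have hz3 : ∀ n, Nat.card (Subgroup.center ↥E) ∣ n → ¬ 3 ∣ n → Subgroup.center ↥E = ⊥ := by
      intro n hn h3
      have hs : ((Subgroup.center ↥E).map E.subtype).IsSubnormal :=
        (Subgroup.Normal.isSubnormal inferInstance).trans' hE.1
      have hle := subnormal_coprime_le (p := 3) hs (by
        rw [Subgroup.card_map_of_injective E.subtype_injective]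
        exact ((Nat.Prime.coprime_iff_not_dvd Nat.prime_three).mpr fun h => h3 (h.trans hn)).symm)
      rw [hO, le_bot_iff, Subgroup.map_eq_bot_iff_of_injective _ E.subtype_injective] at hle
      exact hle
    rcases suzuki_or_galois hl with hz | ⟨f, hf, ⟨e⟩⟩
    · exfalso
      obtain ⟨i, hi⟩ := IsPGroup.iff_card.mp (suzuki_center hE.2 hz)
      have hb := hz3 (2 ^ i) hi.dvd fun h => by
        have := Nat.prime_three.dvd_of_dvd_pow h; norm_num at this
      have h3 : ¬ 3 ∣ Nat.card ↥E := by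
        rw [Subgroup.card_eq_card_quotient_mul_card_subgroup (Subgroup.center ↥E),
          show Nat.card ↥(Subgroup.center ↥E) = 1 by rw [hb, Subgroup.card_bot], mul_one]
        exact suzuki_not_three hz
      have hle := subnormal_coprime_le (p := 3) hE.1
        ((Nat.Prime.coprime_iff_not_dvd Nat.prime_three).mpr h3).symm
      rw [hO, le_bot_iff] at hle
      exact isComponent_ne_bot hE hle
    · have hb := hz3 2 (galois_center hE.2 hf e) (by norm_num)
      have e' : ↥E ≃* ↥E ⧸ Subgroup.center ↥E :=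
        ((QuotientGroup.quotientMulEquivOfEq hb).trans QuotientGroup.quotientBot).symm
      refine ⟨MulEquiv.isSimpleGroup e', fun h : IsMulCommutative ↥E => component_not_comm hE
        ⟨⟨fun a b => e'.symm.injective (by rw [map_mul, map_mul]; exact h.is_comm.comm _ _)⟩⟩, f, hf, ⟨e'.trans e⟩,
        hl, ?_⟩
      rw [Nat.card_congr e.toEquiv]
      exact galois_three f
  have hnorm : ∀ E : Subgroup G, IsComponent E → ∀ q : G, q ∈ Subgroup.normalizer (E : Set G) := by
    intro E hE q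
    obtain ⟨-, -, f, -, -, -, h3⟩ := hcomp E hE
    have hle : Subgroup.closure {g : G | ∃ k : ℕ, orderOf g = 2 ^ k} ≤ Subgroup.normalizer (E : Set G) :=
      (Subgroup.closure_le _).mpr fun x ⟨k, hk⟩ => three_normalizes_of_free hfree hE h3 hk
    exact hle (hgen ▸ Subgroup.mem_top q)
  have hinner : ∀ E : Subgroup G, IsComponent E → ∀ q : G,
      ∃ j ∈ E, j⁻¹ * q ∈ Subgroup.centralizer (E : Set G) := by
    intro E hE q
    obtain ⟨-, -, f, -, -, hl, -⟩ := hcomp E hE
    haveI := component_isSimple hE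
    refine exists_inner_of_actQ hE (hnorm E hE q) ?_
    let ψ : G →* MulAut (↥E ⧸ Subgroup.center ↥E) :=
      (actQ E).comp ((MonoidHom.id G).codRestrict _ fun x => hnorm E hE x)
    have hψ : ψ.range = (actQ E).range := by
      refine le_antisymm (by rintro _ ⟨x, rfl⟩; exact ⟨_, rfl⟩) ?_
      rintro _ ⟨x, rfl⟩
      exact ⟨x, rfl⟩
    have hinn : (MulAut.conj (G := ↥E ⧸ Subgroup.center ↥E)).range ≤ ψ.range := by
      rintro _ ⟨c, rfl⟩
      obtain ⟨e, rfl⟩ := QuotientGroup.mk'_surjective _ c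
      refine ⟨e, MulEquiv.ext fun r => ?_⟩
      obtain ⟨d, rfl⟩ := QuotientGroup.mk'_surjective _ r
      show actQ E ⟨e, _⟩ _ = _
      rw [actQ_apply, MulAut.conj_apply, ← map_inv, ← map_mul, ← map_mul]
      rfl
    have hS : ¬ Involves (Equiv.Perm (Fin 3)) ψ.range := fun h =>
      free_quotient hfree ψ.ker (GoldschmidtS3.involves_congr (QuotientGroup.quotientKerEquivRange ψ).symm h)
    have hle : Subgroup.closure {g : G | ∃ k : ℕ, orderOf g = 2 ^ k} ≤
        (MulAut.conj (G := ↥E ⧸ Subgroup.center ↥E)).range.comap ψ := (Subgroup.closure_le _).mpr fun x ⟨k, hk⟩ => by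
      obtain ⟨j, -, hj⟩ := (Nat.dvd_prime_pow Nat.prime_two).mp (hk ▸ orderOf_map_dvd ψ x)
      exact inner_of_two hl ψ.range hinn hS ⟨x, rfl⟩ hj
    exact hle (hgen ▸ Subgroup.mem_top q)
  -- `G` is its layer
  have hmem : ∀ q : G, q ∈ layer G ⊔ pCore 3 G := by
    intro q
    obtain ⟨e, he, hec⟩ := mem_sup_centralizer_of_inner (k := q) {K : Subgroup G | IsComponent K}
      (Set.toFinite _) (fun J hJ => hJ) (fun J hJ => hinner J hJ q)
    have hc : e⁻¹ * q ∈ Subgroup.centralizer (generalizedFittingSubgroup G : Set G) := by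
      refine Subgroup.le_centralizer_iff.mp (sup_le ?_ ?_) (Subgroup.mem_zpowers _)
      · exact Subgroup.le_centralizer_iff.mpr (Subgroup.zpowers_le.mpr hec)
      · refine (hF3.trans hZc).trans fun z hz x _ => (Subgroup.mem_center_iff.mp hz x)
    have h1 : e⁻¹ * q ∈ layer G ⊔ pCore 3 G :=
      (centralizer_generalizedFitting_le.trans (sup_le le_sup_left (hF3.trans le_sup_right))) hc
    have h2 := mul_mem (Subgroup.mem_sup_left (T := pCore 3 G) (show e ∈ layer G from he)) h1
    rwa [mul_inv_cancel_left] at h2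
  haveI : (layer G).Normal := by
    rw [← Subgroup.normalizer_eq_top_iff, eq_top_iff]
    intro q _
    refine mem_normalizer_of_maps fun y hy => ?_
    have h := map_layer_equiv (G := G) (MulAut.conj q)
    rw [← h]
    exact ⟨y, hy, rfl⟩
  have hL : layer G = ⊤ := by
    rw [eq_top_iff, ← hgen, Subgroup.closure_le]
    rintro x ⟨k, hk⟩
    rw [SetLike.mem_coe, ← QuotientGroup.eq_one_iff]
    obtain ⟨a, ha, z, hz, rfl⟩ := Subgroup.mem_sup_of_normal_left.mp (hmem x)
    have h2 : (QuotientGroup.mk' (layer G)) (a * z) = QuotientGroup.mk' (layer G) z := by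
      rw [map_mul, (QuotientGroup.eq_one_iff a).mpr ha |> fun h => (show QuotientGroup.mk' (layer G) a = 1 from h),
        one_mul]
    show QuotientGroup.mk' (layer G) (a * z) = 1
    obtain ⟨n, hn⟩ := isPGroup_pCore (G := G) 3 ⟨z, hz⟩
    refine orderOf_eq_one_iff.mp (Nat.dvd_one.mp ?_)
    have d1 : orderOf (QuotientGroup.mk' (layer G) (a * z)) ∣ 2 ^ k := hk ▸ orderOf_map_dvd _ _
    have d2 : orderOf (QuotientGroup.mk' (layer G) (a * z)) ∣ 3 ^ n := by
      rw [h2]
      refine (orderOf_map_dvd _ _).trans (orderOf_dvd_of_pow_eq_one ?_)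
      exact congrArg Subtype.val hn
    exact (Nat.Coprime.gcd_eq_one (Nat.Coprime.pow k n (by norm_num : Nat.Coprime 2 3))) ▸ Nat.dvd_gcd d1 d2
  haveI : Finite {K : Subgroup G // IsComponent K} := inferInstance
  obtain ⟨k, ⟨σ⟩⟩ := Finite.exists_equiv_fin {K : Subgroup G // IsComponent K}
  choose hS hN f hf hiso _ _ using fun i : Fin k => hcomp _ (σ.symm i).2
  refine ⟨k, f, hf, ?_⟩
  obtain ⟨π⟩ := exists_pi_equiv (fun i : Fin k => (σ.symm i : Subgroup G)) hS hN
    (fun i j hij x y hx hy => comm_of_commutator_eq_bot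
      ((components_eq_or_commute (σ.symm i).2 (σ.symm j).2).resolve_left fun h =>
        hij (σ.symm.injective (Subtype.ext h))) hx hy)
    (by
      rw [← hL]
      refine le_antisymm (iSup_le fun i => le_layer (σ.symm i).2) (sSup_le fun K hK => ?_)
      exact le_iSup_of_le (σ ⟨K, hK⟩) (by rw [σ.symm_apply_apply]))
  exact ⟨π.symm.trans (MulEquiv.piCongrRight fun i => (hiso i).some)⟩

/-- S4976. -/
theorem real_three_of_killed (h8 : EightKilled.{u}) (h4 : FourKilled.{u}) (h3 : 3 ∣ Nat.card G)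
    (hgen : Subgroup.closure {g : G | ∃ k : ℕ, orderOf g = 2 ^ k} = ⊤) :
    (∀ x : G, orderOf x = 3 → ¬ IsConj x x⁻¹) ↔ ∃ (k : ℕ) (f : Fin k → ℕ), (∀ i, 1 ≤ f i) ∧
      Nonempty (G ⧸ Cfsg.pPrimeCore 3 G ≃* ((i : Fin k) → L2[GaloisField 3 (2 * f i + 1)])) := by
  haveI : Fact (Nat.Prime 3) := ⟨Nat.prime_three⟩
  constructor
  · intro h
    refine product_of_killed h8 h4 (pPrimeCore_quotient_eq_bot 3) (free_quotient (free_of_not_real h) _) ?_
    rw [eq_top_iff, ← Subgroup.map_top_of_surjective _ (QuotientGroup.mk'_surjective (pPrimeCore 3 G)), ← hgen,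
      MonoidHom.map_closure, Subgroup.closure_le]
    rintro _ ⟨g, ⟨k, hk⟩, rfl⟩
    obtain ⟨j, -, hj⟩ := (Nat.dvd_prime_pow Nat.prime_two).mp
      (hk ▸ orderOf_map_dvd (QuotientGroup.mk' (pPrimeCore 3 G)) g)
    exact Subgroup.subset_closure ⟨j, hj⟩
  · rintro ⟨k, f, -, ⟨e⟩⟩ x hx hc
    obtain ⟨g, hg⟩ := isConj_iff.mp hc
    set φ := e.toMonoidHom.comp (QuotientGroup.mk' (pPrimeCore 3 G))
    have hne : φ x ≠ 1 := by
      intro he
      have hxN : x ∈ pPrimeCore 3 G := (QuotientGroup.eq_one_iff x).mp (e.injective (he.trans (map_one e).symm))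
      have := not_dvd_card_pPrimeCore (G := G) Nat.prime_three
      have h' := Subgroup.orderOf_dvd_natCard _ hxN
      rw [hx] at h'
      exact this h'
    obtain ⟨i, hi⟩ := Function.ne_iff.mp hne
    set ψ := (Pi.evalMonoidHom (fun i : Fin k => L2[GaloisField 3 (2 * f i + 1)]) i).comp φ
    haveI : Finite (L2[GaloisField 3 (2 * f i + 1)]) :=
      Finite.of_surjective ψ ((Function.surjective_eval i).comp
        (e.surjective.comp (QuotientGroup.mk'_surjective _)))
    refine galois_free (f i) (GoldschmidtS3.involves_perm3_iff.mpr ?_)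
    obtain ⟨w, hw, hwy⟩ := exists_two_power_inverting (g := ψ g) (y := ψ x)
      (by rw [← map_inv, ← map_inv, ← map_mul, ← map_mul, hg])
    refine ⟨w, ψ x, hw, ⟨1, ?_⟩, hi, hwy⟩
    rw [pow_one]
    exact ((Nat.dvd_prime Nat.prime_three).mp ((orderOf_map_dvd ψ x).trans (dvd_of_eq hx))).resolve_left
      fun h => hi (orderOf_eq_one_iff.mp h)

end CfsgLib.S3Simple
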