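import Cfsg.Agent.Lib.S3Simple.Main
import Cfsg.Agent.Lib.S3Simple.Eight.FieldModel
import Cfsg.Agent.Lib.Coprime
import Cfsg.Agent.Lib.QuadFixed.FixedPoint
import Cfsg.Agent.Lib.Elementary
import Cfsg.Agent.Lib.Solvable.CarterConj
import Mathlib.GroupTheory.SemidirectProduct

/-!
An `S₃`-free group with a group of operators `A` without common fixed points, `A` having a normal subgroup of order
prime to that of the group with nilpotent quotient, is solvable (S4041).

In a minimal counterexample there is no invariant normal subgroup (the fixed points of a quotient lift: coprime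
action for the kernel, conjugacy of Carter subgroups for the nilpotent quotient), the group is simple (a fixed point
of the stabiliser of a minimal normal subgroup spreads to one of `A`), and every group of outer automorphisms of
`Sz(q)` and `L₂(3^(2n+1))` is cyclic and fixes an element.
-/

set_option autoImplicit false
set_option linter.unusedSectionVars false
set_option linter.style.haveILetI false

namespace CfsgLib.S3Simple

open Cfsg CfsgLib.Comp
open scoped Pointwise

universe u v w

namespace Operators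

section Lift

variable {G : Type u} [Group G] [Finite G] {A : Type v} [Group A] [Finite A]

/-- A coset of a solvable invariant normal subgroup fixed by a nilpotent group without fixed points is trivial. -/
theorem nilpotent_lift [Group.IsNilpotent A] (φ : A →* MulAut G) (hfpf : ∀ g : G, (∀ a : A, φ a g = g) → g = 1)
    (N : Subgroup G) [N.Normal] (hN : ∀ a, ∀ n ∈ N, φ a n ∈ N) [Group.IsSolvable N] {g : G}
    (hg : ∀ a, g⁻¹ * φ a g ∈ N) : g ∈ N := by
  haveI : Finite (G ⋊[φ] A) := Finite.of_equiv _ SemidirectProduct.equivProd.symm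
  let Y : Subgroup (G ⋊[φ] A) :=
    { carrier := {y | y.left ∈ N}
      mul_mem' := fun {a b} ha hb => by
        show (a * b).left ∈ N
        rw [SemidirectProduct.mul_left]
        exact N.mul_mem ha (hN _ _ hb)
      one_mem' := N.one_mem
      inv_mem' := fun {a} ha => by
        show (a⁻¹).left ∈ N
        rw [SemidirectProduct.inv_left]
        exact hN _ _ (N.inv_mem ha) }
  haveI : Group.IsSolvable Y := by
    let f : ↥Y →* A := SemidirectProduct.rightHom.comp Y.subtype
    haveI : Group.IsSolvable f.ker := by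
      let i : f.ker →* N :=
        { toFun := fun y => ⟨y.1.1.left, y.1.2⟩
          map_one' := rfl
          map_mul' := fun a b => Subtype.ext (by
            show (a.1.1 * b.1.1).left = a.1.1.left * b.1.1.left
            rw [SemidirectProduct.mul_left, show a.1.1.right = 1 from a.2, map_one, MulAut.one_apply]) }
      refine Group.isSolvable_of_isSolvable_injective (f := i) fun a b h => ?_
      refine Subtype.ext (Subtype.ext (SemidirectProduct.ext (congrArg Subtype.val h :) ?_))
      exact (show a.1.1.right = 1 from a.2).trans (show b.1.1.right = 1 from b.2).symm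
    haveI : Group.IsSolvable A := inferInstance
    exact Group.isSolvable_of_ker_le_range f.ker.subtype f (by rw [Subgroup.range_subtype])
  let ι : A →* ↥Y := (SemidirectProduct.inr (φ := φ)).codRestrict Y fun a => N.one_mem
  have hself : ∀ z : G ⋊[φ] A, (∀ a, ∃ b, z * SemidirectProduct.inr a * z⁻¹ = SemidirectProduct.inr b) →
      z.left = 1 := by
    intro z hz
    refine hfpf _ fun a => ?_
    obtain ⟨b, hb⟩ := hz (z.right⁻¹ * a * z.right)
    have h1 : z.left * φ a z.left⁻¹ = 1 := by
      have h := congrArg SemidirectProduct.left (mul_inv_eq_iff_eq_mul.mp hb)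
      have h' := congrArg SemidirectProduct.right (mul_inv_eq_iff_eq_mul.mp hb)
      simp only [SemidirectProduct.mul_left, SemidirectProduct.mul_right, SemidirectProduct.left_inr,
        SemidirectProduct.right_inr, map_one, mul_one, one_mul] at h h'
      have hb' : b = a := by
        rw [← mul_assoc, ← mul_assoc, mul_inv_cancel, one_mul] at h'
        exact (mul_right_cancel h').symm
      rw [hb'] at h
      rw [map_inv, mul_inv_eq_one]
      exact h
    rw [map_inv, mul_inv_eq_one] at h1
    exact h1.symm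
  set C : Subgroup ↥Y := ι.range with hC
  have hCarter : IsCarterSubgroup C := by
    refine ⟨Group.nilpotent_of_surjective ι.rangeRestrict ι.rangeRestrict_surjective, ?_⟩
    refine le_antisymm (fun y hy => ?_) Subgroup.le_normalizer
    have h1 := hself y.1 fun a => by
      obtain ⟨b, hb⟩ := (Subgroup.mem_normalizer_iff.mp hy (ι a)).mp ⟨a, rfl⟩
      exact ⟨b, (congrArg Subtype.val hb).symm⟩
    exact ⟨y.1.right, Subtype.ext (SemidirectProduct.ext h1.symm rfl)⟩
  set x : G ⋊[φ] A := SemidirectProduct.inl g with hx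
  have hconj : ∀ a, x * SemidirectProduct.inr a * x⁻¹ ∈ Y := fun a => by
    show (x * SemidirectProduct.inr a * x⁻¹).left ∈ N
    simp only [hx, SemidirectProduct.mul_left, SemidirectProduct.mul_right, SemidirectProduct.left_inl,
      SemidirectProduct.right_inl, SemidirectProduct.left_inr, SemidirectProduct.right_inr, SemidirectProduct.inv_left,
      map_one, mul_one, one_mul, inv_one, MulAut.one_apply, map_inv]
    have h := N.inv_mem ((inferInstance : N.Normal).conj_mem _ (hg a) g)
    simpa [mul_assoc] using h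
  let ι' : A →* ↥Y :=
    ((MulAut.conj x).toMonoidHom.comp (SemidirectProduct.inr (φ := φ))).codRestrict Y hconj
  have hCarter' : IsCarterSubgroup ι'.range := by
    refine ⟨Group.nilpotent_of_surjective ι'.rangeRestrict ι'.rangeRestrict_surjective, ?_⟩
    refine le_antisymm (fun y hy => ?_) Subgroup.le_normalizer
    have h1 := hself (x⁻¹ * y.1 * x) fun a => by
      obtain ⟨b, hb⟩ := (Subgroup.mem_normalizer_iff.mp hy (ι' a)).mp ⟨a, rfl⟩
      refine ⟨b, ?_⟩
      have hb' : x * SemidirectProduct.inr b * x⁻¹ = y.1 * (x * SemidirectProduct.inr a * x⁻¹) * (y.1)⁻¹ :=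
        congrArg Subtype.val hb
      calc x⁻¹ * y.1 * x * SemidirectProduct.inr a * (x⁻¹ * y.1 * x)⁻¹
          = x⁻¹ * (y.1 * (x * SemidirectProduct.inr a * x⁻¹) * (y.1)⁻¹) * x := by group
        _ = x⁻¹ * (x * SemidirectProduct.inr b * x⁻¹) * x := by rw [hb']
        _ = SemidirectProduct.inr b := by group
    refine ⟨(x⁻¹ * y.1 * x).right, Subtype.ext ?_⟩
    show x * SemidirectProduct.inr (x⁻¹ * y.1 * x).right * x⁻¹ = y.1
    rw [show SemidirectProduct.inr (x⁻¹ * y.1 * x).right = x⁻¹ * y.1 * x from
      SemidirectProduct.ext h1.symm rfl]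
    group
  obtain ⟨y, hy⟩ := CfsgLib.CarterConj.carter_conjugate _ rfl hCarter hCarter'
  have h1 := hself ((y : G ⋊[φ] A)⁻¹ * x) fun a => by
    have h2 : ι' a ∈ MulAut.conj y • C := hy ▸ ⟨a, rfl⟩
    rw [Subgroup.mem_pointwise_smul_iff_inv_smul_mem] at h2
    obtain ⟨b, hb⟩ := h2
    refine ⟨b, ?_⟩
    have hb' : (SemidirectProduct.inr b : G ⋊[φ] A) =
        (y : G ⋊[φ] A)⁻¹ * (x * SemidirectProduct.inr a * x⁻¹) * (y : G ⋊[φ] A) := by
      have hb2 : (SemidirectProduct.inr b : G ⋊[φ] A) =
          (y : G ⋊[φ] A)⁻¹ * (x * SemidirectProduct.inr a * x⁻¹) * (y : G ⋊[φ] A) := congrArg Subtype.val hb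
      exact hb2
    rw [hb']
    group
  have hxe : g = y.1.left := by
    rw [SemidirectProduct.mul_left, SemidirectProduct.inv_left, SemidirectProduct.inv_right, hx,
      SemidirectProduct.left_inl, ← map_mul] at h1
    have h3 := (φ y.1.right⁻¹).injective (h1.trans (map_one _).symm)
    exact (inv_mul_eq_one.mp h3).symm
  exact hxe ▸ y.2

variable {H : Type w} [Group H] [Group.IsNilpotent H]

/-- A coset of a solvable invariant normal subgroup fixed by operators without fixed points is trivial. -/
theorem lift (φ : A →* MulAut G) (hfpf : ∀ g : G, (∀ a : A, φ a g = g) → g = 1) (π : A →* H)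
    (hcop : (Nat.card π.ker).Coprime (Nat.card G))
    (N : Subgroup G) [N.Normal] (hN : ∀ a, ∀ n ∈ N, φ a n ∈ N) [Group.IsSolvable N] {g : G}
    (hg : ∀ a, g⁻¹ * φ a g ∈ N) : g ∈ N := by
  haveI : Finite (G ⋊[φ] A) := Finite.of_equiv _ SemidirectProduct.equivProd.symm
  -- a representative fixed by the kernel
  set X := G ⋊[φ] A with hX
  let iG : G →* X := SemidirectProduct.inl
  let iA : A →* X := SemidirectProduct.inr
  have hconjA : ∀ (a : A) (y : G), iA a * iG y * (iA a)⁻¹ = iG (φ a y) := fun a y =>
    ((map_inv iA a).symm ▸ (SemidirectProduct.inl_aut (φ := φ) a y).symm)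
  obtain ⟨c, ⟨⟨c', hc', rfl⟩, hcK⟩, hgc⟩ := coprime_fixed_quotient (G := X) (A := π.ker.map iA) (K := iG.range)
    (N := N.map iG) (k := iG g)
    (by
      rintro _ ⟨a, -, rfl⟩
      exact mem_normalizer_of_maps (by rintro _ ⟨y, rfl⟩; exact ⟨φ a y, (hconjA a y).symm⟩))
    (by
      rw [Subgroup.card_map_of_injective SemidirectProduct.inr_injective,
        ← Nat.card_congr (MonoidHom.ofInjective (f := iG) SemidirectProduct.inl_injective).toEquiv]
      exact hcop)
    (CfsgLib.QuadFixed.solvable_or_of_coprime (by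
      rw [Subgroup.card_map_of_injective SemidirectProduct.inr_injective,
        ← Nat.card_congr (MonoidHom.ofInjective (f := iG) SemidirectProduct.inl_injective).toEquiv]
      exact hcop))
    (Subgroup.map_le_range _ _)
    (by
      rintro _ ⟨y, rfl⟩
      refine mem_normalizer_of_maps ?_
      rintro _ ⟨n, hn, rfl⟩
      exact ⟨y * n * y⁻¹, (inferInstance : N.Normal).conj_mem n hn y, by rw [map_mul, map_mul, map_inv]⟩)
    (by
      rintro _ ⟨a, -, rfl⟩
      refine mem_normalizer_of_maps ?_
      rintro _ ⟨n, hn, rfl⟩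
      exact ⟨φ a n, hN a n hn, (hconjA a n).symm⟩)
    ⟨g, rfl⟩
    (by
      rintro _ ⟨a, -, rfl⟩
      refine ⟨φ a g * g⁻¹, ?_, ?_⟩
      · have h := (inferInstance : N.Normal).conj_mem _ (hg a) g
        simpa [mul_assoc] using h
      · rw [map_mul, map_inv, hconjA])
  have hgc' : g⁻¹ * c' ∈ N := by
    rw [← map_inv, ← map_mul] at hgc
    obtain ⟨n, hn, e⟩ := hgc
    exact SemidirectProduct.inl_injective e ▸ hn
  have hcfix : ∀ a ∈ π.ker, φ a c' = c' := fun a ha => by
    have h := hcK (iA a) ⟨a, ha, rfl⟩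
    refine SemidirectProduct.inl_injective (φ := φ) ?_
    show iG (φ a c') = iG c'
    rw [← hconjA, h, mul_inv_cancel_right]
  -- the fixed points of the kernel, acted on by the quotient
  let G' : Subgroup G :=
    { carrier := {y | ∀ a ∈ π.ker, φ a y = y}
      mul_mem' := fun {x y} hx hy a ha => by rw [map_mul, hx a ha, hy a ha]
      one_mem' := fun a _ => map_one _
      inv_mem' := fun {x} hx a ha => by rw [map_inv, hx a ha] }
  have hG' : ∀ a, ∀ y ∈ G', φ a y ∈ G' := by
    intro a y hy k hk
    have h := hy (a⁻¹ * k * a) (by simpa using π.ker.inv_mem (π.ker.inv_mem ((MonoidHom.normal_ker π).conj_mem k hk a⁻¹)))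
    calc φ k (φ a y) = φ (a * (a⁻¹ * k * a)) y := by
          rw [show a * (a⁻¹ * k * a) = k * a by group, map_mul, MulAut.mul_apply]
      _ = φ a y := by rw [map_mul, MulAut.mul_apply, h]
  let ψ : A →* MulAut G' :=
    { toFun := fun a =>
        { toFun := fun y => ⟨φ a y, hG' a y y.2⟩
          invFun := fun y => ⟨φ a⁻¹ y, hG' a⁻¹ y y.2⟩
          left_inv := fun y => Subtype.ext (by
            show φ a⁻¹ (φ a y) = y
            rw [← MulAut.mul_apply, ← map_mul, inv_mul_cancel, map_one, MulAut.one_apply])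
          right_inv := fun y => Subtype.ext (by
            show φ a (φ a⁻¹ y) = y
            rw [← MulAut.mul_apply, ← map_mul, mul_inv_cancel, map_one, MulAut.one_apply])
          map_mul' := fun x y => Subtype.ext (map_mul (φ a) (x : G) y) }
      map_one' := MulEquiv.ext fun y => Subtype.ext (by show φ 1 y = y; rw [map_one, MulAut.one_apply])
      map_mul' := fun a b => MulEquiv.ext fun y => Subtype.ext (by
        show φ (a * b) y = φ a (φ b y)
        rw [map_mul, MulAut.mul_apply]) }
  have hψ : π.ker ≤ ψ.ker := fun k hk => MulEquiv.ext fun y => Subtype.ext (y.2 k hk)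
  haveI : Group.IsSolvable (N.subgroupOf G') := Group.isSolvable_of_isSolvable_injective
    (f := (G'.subtype.comp (N.subgroupOf G').subtype).codRestrict N fun y => y.2)
    fun a b h => Subtype.ext (Subtype.ext (congrArg Subtype.val h :))
  haveI : Group.IsNilpotent (A ⧸ π.ker) := by
    haveI : Group.IsNilpotent π.range := inferInstance
    exact Group.nilpotent_of_mulEquiv (QuotientGroup.quotientKerEquivRange π).symm
  have hmem := nilpotent_lift (A := A ⧸ π.ker) (QuotientGroup.lift π.ker ψ hψ)
    (fun y hy => Subtype.ext (hfpf y fun a => congrArg Subtype.val (hy (QuotientGroup.mk' _ a))))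
    (N.subgroupOf G') (g := (⟨c', hcfix⟩ : G'))
    (fun a n hn => by
      obtain ⟨a, rfl⟩ := QuotientGroup.mk'_surjective _ a
      exact hN a n hn)
    (fun a => by
      obtain ⟨a, rfl⟩ := QuotientGroup.mk'_surjective _ a
      show c'⁻¹ * φ a c' ∈ N
      have h1 : c'⁻¹ * φ a c' = (g⁻¹ * c')⁻¹ * ((g⁻¹ * φ a g) * φ a (g⁻¹ * c')) := by
        rw [map_mul, map_inv]
        group
      rw [h1]
      exact N.mul_mem (N.inv_mem hgc') (N.mul_mem (hg a) (hN a _ hgc')))
  have h2 := N.mul_mem hmem (N.inv_mem hgc')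
  simpa [mul_assoc] using h2

end Lift

section Outer

variable {T : Type u} [Group T] [Finite T]

/-- Automorphisms of a model: every coset of the inner automorphisms fixes an element, and outer groups are cyclic. -/
structure Good (T : Type u) [Group T] : Prop where
  fix : ∀ φ : MulAut T, ∃ g x : T, x ≠ 1 ∧ MulAut.conj g (φ x) = x
  cyclic : ∀ B : Subgroup (MulAut T), B ⊓ (MulAut.conj (G := T)).range = ⊥ → IsCyclic B

theorem Good.congr {T' : Type w} [Group T'] (h : Good T') (e : T ≃* T') : Good T where
  fix φ := by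
    obtain ⟨g, x, hx, he⟩ := h.fix (MulAut.congr e φ)
    refine ⟨e.symm g, e.symm x, fun hh => hx (e.symm.injective (hh.trans (map_one _).symm)), e.injective ?_⟩
    rw [e.apply_symm_apply, MulAut.conj_apply, map_mul, map_mul, map_inv, e.apply_symm_apply]
    exact he
  cyclic B hB := by
    haveI : IsCyclic (B.map (MulAut.congr e).toMonoidHom) := h.cyclic _ (by
      rw [eq_bot_iff]
      rintro _ ⟨⟨b, hb, rfl⟩, x, hx⟩
      have h1 : b = MulAut.conj (e.symm x) := by
        refine MulEquiv.ext fun y => e.injective ?_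
        rw [MulAut.conj_apply, map_mul, map_mul, map_inv, e.apply_symm_apply]
        have h2 := congrArg (fun α : MulAut T' => α (e y)) hx
        simp only [MulAut.conj_apply] at h2
        rw [h2]
        show _ = e (b (e.symm (e y)))
        rw [e.symm_apply_apply]
      have h3 : b ∈ B ⊓ (MulAut.conj (G := T)).range := ⟨hb, _, h1.symm⟩
      rw [hB, Subgroup.mem_bot] at h3
      rw [h3, Subgroup.mem_bot, map_one])
    exact isCyclic_of_injective (((MulAut.congr e).toMonoidHom).subgroupMap B) fun a b hab =>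
      Subtype.ext ((MulAut.congr e).injective (congrArg Subtype.val hab))

open Matrix in
theorem good_sz {F : Type} [Field F] [Fintype F] {m : ℕ} (hm : 1 ≤ m) (hF : Fintype.card F = 2 ^ (2 * m + 1)) :
    Good ↥(Cfsg.Sz F m) := by
  haveI : CharP F 2 := Suzuki.charTwo hF
  have hpow : ∀ i : ℕ, Suzuki.fAut hF hm i = Suzuki.fAut hF hm 1 ^ i := fun i => by
    induction i with
    | zero =>
      refine MulEquiv.ext fun x => Subtype.ext (Subtype.ext ?_)
      ext r s
      show ((x.1.1 r s) ^ 2 ^ 0 : F) = x.1.1 r s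
      rw [pow_zero, pow_one]
    | succ i ih =>
      rw [pow_succ, ← ih]
      refine MulEquiv.ext fun x => Subtype.ext (Subtype.ext ?_)
      ext r s
      show ((x.1.1 r s) ^ 2 ^ (i + 1) : F) = ((x.1.1 r s) ^ 2 ^ 1) ^ 2 ^ i
      rw [← pow_mul, ← pow_add, add_comm 1 i]
  refine ⟨fun φ => ?_, fun B hB => ?_⟩
  · obtain ⟨g, i, rfl⟩ := Suzuki.aut_eq hF hm φ
    refine ⟨g⁻¹, Suzuki.uS hF 1 0, fun h => ?_, ?_⟩
    · exact one_ne_zero (Suzuki.uS_inj hF (h.trans (Suzuki.uS_zero hF).symm)).1
    · rw [MulAut.mul_apply, ← MulAut.mul_apply, ← map_mul, inv_mul_cancel, map_one, MulAut.one_apply,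
        Suzuki.fAut_uS, one_pow, zero_pow (by positivity)]
  · set π := QuotientGroup.mk' (MulAut.conj (G := ↥(Cfsg.Sz F m))).range
    have hgen : ∀ y, y ∈ Subgroup.zpowers (π (Suzuki.fAut hF hm 1)) := fun y => by
      obtain ⟨φ, rfl⟩ := QuotientGroup.mk'_surjective _ y
      obtain ⟨g, i, rfl⟩ := Suzuki.aut_eq hF hm φ
      rw [map_mul, show π (MulAut.conj g) = 1 from (QuotientGroup.eq_one_iff _).mpr ⟨g, rfl⟩, one_mul, hpow (i : ℕ),
        map_pow]
      exact Subgroup.pow_mem _ (Subgroup.mem_zpowers _) _
    haveI : IsCyclic (MulAut ↥(Cfsg.Sz F m) ⧸ (MulAut.conj (G := ↥(Cfsg.Sz F m))).range) := ⟨⟨_, hgen⟩⟩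
    refine isCyclic_of_injective (π.comp B.subtype) ((injective_iff_map_eq_one _).mpr fun b hb => ?_)
    have h3 : (b : MulAut ↥(Cfsg.Sz F m)) ∈ B ⊓ (MulAut.conj (G := ↥(Cfsg.Sz F m))).range := ⟨b.2, (QuotientGroup.eq_one_iff _).mp hb⟩
    rw [hB, Subgroup.mem_bot] at h3
    exact Subtype.ext h3

open Matrix CfsgLib.PSL2 in
theorem good_psl {F : Type} [Field F] [Fintype F] {m : ℕ} (D : ReeTori.QData F m) :
    Good (Matrix.ProjectiveSpecialLinearGroup (Fin 2) F) := by
  classical
  haveI : Fact (Nat.Prime 3) := ⟨Nat.prime_three⟩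
  haveI := D.charP
  have h2 : (2 : F) ≠ 0 := ReeTori.two_ne D
  have hdec : ∀ g : GL (Fin 2) F, ∃ (x : Matrix.ProjectiveSpecialLinearGroup (Fin 2) F) (ε : Fˣ),
      (ε = 1 ∨ ε = -1) ∧ diagAut g = MulAut.conj x * diagAut (dil ε) := by
    intro g
    obtain ⟨c, B, rfl⟩ := exists_dil_mul g
    have hq : Fintype.card F % 4 = 3 := by
      obtain ⟨h, -⟩ := D.mod
      omega
    have hsq : IsSquare (c : F) ∨ IsSquare (-(c : F)) := by
      by_contra hcon
      push Not at hcon
      have hns : ¬ IsSquare (-1 : F) := fun h => (FiniteField.isSquare_neg_one_iff.mp h) hq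
      have hodd : ringChar F ≠ 2 := fun h => h2 (by
        haveI := ringChar.of_eq h
        exact CharP.cast_eq_zero F 2)
      have e1 := (quadraticChar_neg_one_iff_not_isSquare (a := (c : F))).mpr hcon.1
      have e2 := (quadraticChar_neg_one_iff_not_isSquare (a := (-1 : F))).mpr hns
      have e3 := (quadraticChar_neg_one_iff_not_isSquare (a := -(c : F))).mpr hcon.2
      rw [neg_eq_neg_one_mul, map_mul, e2, e1] at e3
      norm_num at e3
    have key : ∀ ε : Fˣ, IsSquare ((c * ε⁻¹ : Fˣ) : F) → ∃ x : Matrix.ProjectiveSpecialLinearGroup (Fin 2) F,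
        diagAut (dil c * SpecialLinearGroup.toGL B) = MulAut.conj x * diagAut (dil ε) := by
      intro ε hε
      obtain ⟨s, hs⟩ := hε
      have hs0 : s ≠ 0 := fun h => (c * ε⁻¹).ne_zero (by rw [hs, h, mul_zero])
      obtain ⟨y, hy⟩ := (dil_inner_iff (c * ε⁻¹)).mpr ⟨Units.mk0 s hs0, Units.ext (by
        rw [powMonoidHom_apply, Units.val_pow_eq_pow_val, pow_two, Units.val_mk0]; exact hs.symm)⟩
      refine ⟨y * diagAut (dil ε) (PSL2.mk B), ?_⟩
      rw [map_mul, diagAut_toGL, map_mul, show c = (c * ε⁻¹) * ε by rw [inv_mul_cancel_right], map_mul, map_mul, hy,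
        mul_assoc, mul_assoc]
      refine congrArg _ (MulEquiv.ext fun z => ?_)
      simp [MulAut.mul_apply, MulAut.conj_apply]
    rcases hsq with h | h
    · obtain ⟨x, hx⟩ := key 1 (by rwa [inv_one, mul_one])
      exact ⟨x, 1, Or.inl rfl, hx⟩
    · obtain ⟨x, hx⟩ := key (-1) (by
        rw [inv_neg, inv_one, mul_neg, mul_one, Units.val_neg]
        exact h)
      exact ⟨x, -1, Or.inr rfl, hx⟩
  refine ⟨fun φ => ?_, fun B hB => ?_⟩
  · set σ := fieldPart 3 φ
    have hf : fieldPart 3 (φ * (fieldAut σ : MulAut (Matrix.ProjectiveSpecialLinearGroup (Fin 2) F))⁻¹) = 1 := by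
      rw [map_mul, map_inv, fieldPart_eq 3 (φ := fieldAut σ) (g := 1) (e := σ) (by rw [map_one, one_mul]),
        mul_inv_cancel]
    obtain ⟨g, hg⟩ := exists_of_fieldPart_eq_one 3 hf
    obtain ⟨y, ε, hε, hy⟩ := hdec g
    let w : SpecialLinearGroup (Fin 2) F := ⟨!![0, 1; -1, 0], by simp [Matrix.det_fin_two_of]⟩
    have hw : fieldAut σ (PSL2.mk w) = PSL2.mk w := by
      rw [PSL2.fieldAut_apply]
      refine congrArg _ (Subtype.ext (Matrix.ext fun i j => ?_))
      show σ ((!![0, 1; -1, 0] : Matrix (Fin 2) (Fin 2) F) i j) = (!![0, 1; -1, 0] : Matrix (Fin 2) (Fin 2) F) i j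
      fin_cases i <;> fin_cases j <;> simp
    have hd : diagAut (dil ε) (PSL2.mk w) = PSL2.mk w := by
      rcases hε with rfl | rfl
      · rw [map_one, map_one, MulAut.one_apply]
      · rw [diagAut_apply, PSL2Klein.mk_eq_iff]
        refine Or.inr (Subtype.ext ?_)
        show w.1 = -(conjSL (dil (-1 : Fˣ)) w).1
        rw [coe_conjSL, ← map_inv]
        simp [dil, w, Matrix.mul_fin_two]
    refine ⟨y⁻¹, PSL2.mk w, ((PSL2Klein.invol_iff h2).mpr (by simp [w, Matrix.trace_fin_two])).1, ?_⟩
    have hφ : φ = MulAut.conj y * diagAut (dil ε) * fieldAut σ := by rw [← hy, ← hg, inv_mul_cancel_right]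
    rw [hφ, MulAut.mul_apply, MulAut.mul_apply, hw, hd, ← MulAut.mul_apply, ← map_mul, inv_mul_cancel, map_one,
      MulAut.one_apply]
  · let f : ↥B →* RingAut F := (fieldPart 3).comp B.subtype
    haveI : Finite (RingAut F) := Finite.of_injective (fun τ : RingAut F => (τ : F → F)) DFunLike.coe_injective
    haveI : IsCyclic (RingAut F) := Chev.ringAut_cyclic_finite F
    haveI : Finite ↥B := inferInstance
    have hker : ∀ a b : ↥B, f a = 1 → f b = 1 → a ≠ 1 → b ≠ 1 → a = b := by
      have hone : ∀ b : ↥B, f b = 1 → b ≠ 1 → ∃ x, ((b : ↥B) : MulAut (Matrix.ProjectiveSpecialLinearGroup (Fin 2) F)) = MulAut.conj x * diagAut (dil (-1)) := by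
        intro b hb hb1
        obtain ⟨g, hg⟩ := exists_of_fieldPart_eq_one 3 (φ := ((b : ↥B) : MulAut (Matrix.ProjectiveSpecialLinearGroup (Fin 2) F))) hb
        obtain ⟨y, ε, hε, hy⟩ := hdec g
        rcases hε with rfl | rfl
        · exfalso
          rw [map_one, map_one, mul_one] at hy
          have h3 : ((b : ↥B) : MulAut (Matrix.ProjectiveSpecialLinearGroup (Fin 2) F)) ∈ B ⊓ (MulAut.conj (G := Matrix.ProjectiveSpecialLinearGroup (Fin 2) F)).range :=
            ⟨b.2, y, (hg.trans hy).symm⟩
          rw [hB, Subgroup.mem_bot] at h3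
          exact hb1 (Subtype.ext h3)
        · exact ⟨y, hg.trans hy⟩
      intro a b ha hb ha1 hb1
      obtain ⟨x, hx⟩ := hone a ha ha1
      obtain ⟨y, hy⟩ := hone b hb hb1
      have h3 : ((a * b⁻¹ : ↥B) : MulAut _) ∈ B ⊓ (MulAut.conj (G := Matrix.ProjectiveSpecialLinearGroup (Fin 2) F)).range :=
        ⟨(a * b⁻¹).2, x * y⁻¹, by
          rw [map_mul, map_inv, Subgroup.coe_mul, Subgroup.coe_inv, hx, hy]
          group⟩
      rw [hB, Subgroup.mem_bot] at h3
      exact mul_inv_eq_one.mp (Subtype.ext h3)
    obtain ⟨⟨_, b0, rfl⟩, hgen⟩ := IsCyclic.exists_generator (α := f.range)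
    have hspan : ∀ b : ↥B, ∃ i : ℤ, f (b0 ^ i) = f b := fun b => by
      obtain ⟨i, hi⟩ := hgen ⟨f b, b, rfl⟩
      exact ⟨i, by rw [map_zpow]; exact congrArg Subtype.val hi⟩
    by_cases hk : ∀ b : ↥B, f b = 1 → b = 1
    · exact isCyclic_of_injective f ((injective_iff_map_eq_one f).mpr hk)
    push Not at hk
    obtain ⟨k, hk, hk1⟩ := hk
    have hk2 : k * k = 1 := by
      by_contra hne
      have := hker (k * k) k (by rw [map_mul, hk, one_mul]) hk hne hk1
      exact hk1 (mul_eq_left.mp this)
    have hcen : ∀ b : ↥B, b * k * b⁻¹ = k := fun b => hker _ k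
      (by rw [map_mul, map_mul, hk, mul_one, ← map_mul, mul_inv_cancel, map_one]) hk
      (fun e => hk1 (conj_eq_one_iff.mp e)) hk1
    set n := orderOf (f b0) with hn
    have hnodd : Odd n := (odd_two_mul_add_one m).of_dvd_nat (L2Model.orderOf_field_dvd D _)
    set b1 := b0 ^ 2 with hb1
    have hb1n : b1 ^ n = 1 := by
      rw [hb1, ← pow_mul, mul_comm, pow_mul, pow_two]
      have h : f (b0 ^ n) = 1 := by rw [map_pow, hn, pow_orderOf_eq_one]
      by_cases he : b0 ^ n = 1
      · rw [he, one_mul]
      · rw [hker _ k h hk he hk1, hk2]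
    obtain ⟨j, hj⟩ := hnodd
    refine ⟨⟨k * b1, fun b => ?_⟩⟩
    have hcomm : Commute k b1 := by
      have h := hcen b1
      exact (mul_inv_eq_iff_eq_mul.mp h).symm
    have hkodd : k ^ n = k := by rw [hj, pow_succ, pow_mul, pow_two, hk2, one_pow, one_mul]
    have hkm : k ∈ Subgroup.zpowers (k * b1) := ⟨n, by
      show (k * b1) ^ (n : ℤ) = k
      rw [zpow_natCast, hcomm.mul_pow, hb1n, mul_one, hkodd]⟩
    have hb1m : b1 ∈ Subgroup.zpowers (k * b1) := by
      have := Subgroup.mul_mem _ (Subgroup.inv_mem _ hkm) (Subgroup.mem_zpowers (k * b1))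
      rwa [inv_mul_cancel_left] at this
    obtain ⟨i, hi⟩ := hspan b
    have hrep : f (b1 ^ ((j + 1 : ℤ) * i)) = f b := by
      rw [← hi, map_zpow, map_zpow, hb1, map_pow, _root_.zpow_mul]
      congr 1
      rw [← zpow_natCast (f b0) 2, ← _root_.zpow_mul, show ((2 : ℕ) : ℤ) * ((j : ℤ) + 1) = ((n + 1 : ℕ) : ℤ) by
        rw [hj]; push_cast; ring, zpow_natCast, pow_succ, hn, pow_orderOf_eq_one, one_mul]
    have hd : f ((b1 ^ ((j + 1 : ℤ) * i))⁻¹ * b) = 1 := by rw [map_mul, map_inv, hrep, inv_mul_cancel]
    set d := (b1 ^ ((j + 1 : ℤ) * i))⁻¹ * b with hd'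
    have hdm : d ∈ Subgroup.zpowers (k * b1) := by
      by_cases hd1 : d = 1
      · exact hd1 ▸ Subgroup.one_mem _
      · exact (hker d k hd hk hd1 hk1).symm ▸ hkm
    have := Subgroup.mul_mem _ (Subgroup.zpow_mem _ hb1m ((j + 1 : ℤ) * i)) hdm
    rwa [hd', mul_inv_cancel_left] at this

end Outer

section Main

variable {H : Type w} [Group H] [Group.IsNilpotent H]

/-- The simple case. -/
theorem simple_false {T : Type u} [Group T] [Finite T] [IsSimpleGroup T] (hgood : Good T)
    (hna : ¬ IsMulCommutative T) {A : Type v} [Group A] [Finite A] (φ : A →* MulAut T)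
    (hfpf : ∀ g : T, (∀ a : A, φ a g = g) → g = 1) (π : A →* H) (hcop : (Nat.card π.ker).Coprime (Nat.card T)) :
    False := by
  set B := φ.range with hB
  set I := (MulAut.conj (G := T)).range with hI
  have hZ : Subgroup.center T = ⊥ := (inferInstance : (Subgroup.center T).Normal).eq_bot_or_eq_top.resolve_right
    fun h => hna ⟨⟨fun a b => (Subgroup.mem_center_iff.mp (h ▸ Subgroup.mem_top b : b ∈ Subgroup.center T) a)⟩⟩
  have hinj : Function.Injective (MulAut.conj (G := T)) := by
    refine (injective_iff_map_eq_one _).mpr fun g hg => ?_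
    have h1 : g ∈ Subgroup.center T := Subgroup.mem_center_iff.mpr fun y => by
      have := congrArg (fun α : MulAut T => α y) hg
      exact (mul_inv_eq_iff_eq_mul.mp this).symm
    rwa [hZ, Subgroup.mem_bot] at h1
  -- no inner automorphism
  have hbot : B ⊓ I = ⊥ := by
    by_contra hne
    haveI : (π.ker.map φ.rangeRestrict).Normal :=
      (MonoidHom.normal_ker π).map _ φ.rangeRestrict_surjective
    set K' := π.ker.map φ.rangeRestrict with hK'
    haveI : Group.IsNilpotent (A ⧸ π.ker) :=
      Group.nilpotent_of_mulEquiv (QuotientGroup.quotientKerEquivRange π).symm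
    haveI : Group.IsNilpotent (↥B ⧸ K') := Group.nilpotent_of_surjective
      (QuotientGroup.map π.ker K' φ.rangeRestrict (Subgroup.le_comap_map _ _))
      (fun y => by
        obtain ⟨y, rfl⟩ := QuotientGroup.mk'_surjective _ y
        obtain ⟨a, rfl⟩ := φ.rangeRestrict_surjective y
        exact ⟨QuotientGroup.mk' _ a, rfl⟩)
    have hIn : I.Normal := by
      refine ⟨?_⟩
      rintro _ ⟨x, rfl⟩ α
      exact ⟨α x, MulEquiv.ext fun y => by simp [MulAut.conj_apply]⟩
    have hIB : ((I.subgroupOf B)).Normal := hIn.subgroupOf B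
    have hKI : ∀ b ∈ K', (b : MulAut T) ∈ I → b = 1 := by
      intro b hb hbI
      obtain ⟨x, hx⟩ := hbI
      have h1 : orderOf b ∣ Nat.card π.ker := by
        obtain ⟨k, hk, rfl⟩ := hb
        exact (orderOf_map_dvd _ k).trans (Subgroup.orderOf_dvd_natCard _ hk)
      have h2 : orderOf b ∣ Nat.card T := by
        rw [← Subgroup.orderOf_coe, ← hx]
        exact (orderOf_map_dvd _ x).trans (orderOf_dvd_natCard x)
      exact orderOf_eq_one_iff.mp (Nat.dvd_one.mp (hcop.gcd_eq_one ▸ Nat.dvd_gcd h1 h2))
    set q := QuotientGroup.mk' K'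
    haveI : ((I.subgroupOf B).map q).Normal := hIB.map q (QuotientGroup.mk'_surjective _)
    have hne' : (I.subgroupOf B).map q ≠ ⊥ := by
      intro e
      refine hne (eq_bot_iff.mpr fun b hb => ?_)
      have h1 : q ⟨b, hb.1⟩ ∈ (I.subgroupOf B).map q := ⟨⟨b, hb.1⟩, hb.2, rfl⟩
      rw [e, Subgroup.mem_bot] at h1
      exact Subgroup.mem_bot.mpr (congrArg Subtype.val (hKI _ ((QuotientGroup.eq_one_iff _).mp h1) hb.2))
    obtain ⟨⟨z, hz⟩, hz1'⟩ := (Subgroup.ne_bot_iff_exists_ne_one (H := (I.subgroupOf B).map q ⊓ Subgroup.center _)).mp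
      (inf_center_ne_bot_of_nilpotent hne')
    have hz1 : z ≠ 1 := fun e => hz1' (Subtype.ext e)
    obtain ⟨⟨b, hbI, rfl⟩, hzc⟩ := hz
    obtain ⟨x, hx⟩ : (b : MulAut T) ∈ I := hbI
    refine hz1 ?_
    have hxfix : x = 1 := by
      refine hfpf x fun a => hinj ?_
      have h1 := Subgroup.mem_center_iff.mp hzc (q (φ.rangeRestrict a))
      rw [← map_mul, ← map_mul] at h1
      have h2 : (φ.rangeRestrict a * b)⁻¹ * (b * φ.rangeRestrict a) ∈ K' := QuotientGroup.eq.mp h1
      have h3 : (φ a * (b : MulAut T))⁻¹ * ((b : MulAut T) * φ a) ∈ I := by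
        have h4 : (φ a * (b : MulAut T))⁻¹ * ((b : MulAut T) * φ a) =
            (b : MulAut T)⁻¹ * ((φ a)⁻¹ * (b : MulAut T) * φ a) := by group
        rw [h4]
        refine I.mul_mem (I.inv_mem ⟨x, hx⟩) ?_
        have h5 := hIn.conj_mem _ ⟨x, hx⟩ (φ a)⁻¹
        rwa [inv_inv] at h5
      have h6 := congrArg Subtype.val (hKI _ h2 h3)
      simp only [Subgroup.coe_mul, Subgroup.coe_inv, OneMemClass.coe_one, MonoidHom.coe_rangeRestrict,
        inv_mul_eq_one] at h6
      rw [← hx] at h6
      have h7 : MulAut.conj (φ a x) = φ a * MulAut.conj x * (φ a)⁻¹ := MulEquiv.ext fun y => by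
        simp [MulAut.conj_apply]
      rw [h7, h6, mul_inv_cancel_right]
    have hb1 : b = 1 := Subtype.ext (by rw [← hx, hxfix, map_one]; rfl)
    rw [hb1, map_one]
  haveI := hgood.cyclic B hbot
  obtain ⟨⟨_, a0, rfl⟩, hgen⟩ := IsCyclic.exists_generator (α := B)
  have hone : ∀ g : T, φ a0 g = g → g = 1 := fun g hg => hfpf g fun a => by
    obtain ⟨i, hi⟩ := hgen ⟨φ a, a, rfl⟩
    have hi' : φ a0 ^ i = φ a := congrArg Subtype.val hi
    rw [← hi']
    exact (Subgroup.zpowers_le.mpr (show φ a0 ∈ MulAction.stabilizer (MulAut T) g from hg))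
      (Subgroup.zpow_mem _ (Subgroup.mem_zpowers _) i)
  obtain ⟨g, x, hx1, hx⟩ := hgood.fix (φ a0)
  have hsurj : Function.Surjective fun h : T => h * (φ a0 h)⁻¹ := by
    refine Finite.surjective_of_injective fun h k e => ?_
    have e' : k⁻¹ * h = φ a0 (k⁻¹ * h) := by
      rw [map_mul, map_inv]
      have e2 : h * (φ a0 h)⁻¹ = k * (φ a0 k)⁻¹ := e
      calc k⁻¹ * h = k⁻¹ * (h * (φ a0 h)⁻¹) * φ a0 h := by group
        _ = _ := by rw [e2]; group
    exact (inv_mul_eq_one.mp (hone _ e'.symm)).symm
  obtain ⟨h, hh⟩ := hsurj g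
  refine hx1 ?_
  have h1 : φ a0 (h⁻¹ * x * h) = h⁻¹ * x * h := by
    have hh' : h * (φ a0 h)⁻¹ = g := hh
    rw [← hh', MulAut.conj_apply] at hx
    rw [map_mul, map_mul, map_inv]
    calc (φ a0 h)⁻¹ * φ a0 x * φ a0 h
        = h⁻¹ * (h * (φ a0 h)⁻¹ * φ a0 x * (h * (φ a0 h)⁻¹)⁻¹) * h := by group
      _ = _ := by rw [hx]
  have h2 := hone _ h1
  rwa [show h⁻¹ * x * h = h⁻¹ * x * (h⁻¹)⁻¹ by rw [inv_inv], conj_eq_one_iff] at h2

set_option maxHeartbeats 1600000 in
/-- The theorem, from the two configurations. -/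
theorem solvable_of_killed (h8 : EightKilled.{u}) (h4 : FourKilled.{u}) :
    ∀ (G : Type u) [Group G] [Finite G] (A : Type v) [Group A] [Finite A] (φ : A →* MulAut G) (π : A →* H),
      (∀ g : G, (∀ a : A, φ a g = g) → g = 1) → ¬ Involves (Equiv.Perm (Fin 3)) G →
      (Nat.card π.ker).Coprime (Nat.card G) → Group.IsSolvable G := by
  intro G _ _
  induction hn : Nat.card G using Nat.strong_induction_on generalizing G with
  | _ n ih =>
    intro A _ _ φ π hfpf hfree hcop
    subst hn
    classical
    by_contra hns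
    -- no proper invariant normal subgroup
    have hinv : ∀ N : Subgroup G, N.Normal → (∀ a, ∀ x ∈ N, φ a x ∈ N) → N = ⊥ ∨ N = ⊤ := by
      intro N hNn hNi
      by_contra hcon
      push Not at hcon
      let ρ : A →* MulAut N :=
        { toFun := fun a =>
            { toFun := fun y => ⟨φ a y, hNi a y y.2⟩
              invFun := fun y => ⟨φ a⁻¹ y, hNi a⁻¹ y y.2⟩
              left_inv := fun y => Subtype.ext (by
                show φ a⁻¹ (φ a y) = y
                rw [← MulAut.mul_apply, ← map_mul, inv_mul_cancel, map_one, MulAut.one_apply])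
              right_inv := fun y => Subtype.ext (by
                show φ a (φ a⁻¹ y) = y
                rw [← MulAut.mul_apply, ← map_mul, mul_inv_cancel, map_one, MulAut.one_apply])
              map_mul' := fun x y => Subtype.ext (map_mul (φ a) (x : G) y) }
          map_one' := MulEquiv.ext fun y => Subtype.ext (by show φ 1 y = y; rw [map_one, MulAut.one_apply])
          map_mul' := fun a b => MulEquiv.ext fun y => Subtype.ext (by
            show φ (a * b) y = φ a (φ b y)
            rw [map_mul, MulAut.mul_apply]) }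
      have hlt : Nat.card N < Nat.card G := by
        rcases lt_or_eq_of_le (Subgroup.card_le_card_group N) with h | h
        · exact h
        · exact absurd (Subgroup.eq_top_of_card_eq N h) hcon.2
      haveI : Group.IsSolvable N := ih _ hlt ↥N rfl A ρ π
        (fun y hy => Subtype.ext (hfpf y fun a => congrArg Subtype.val (hy a))) (free_subgroup hfree N)
        (hcop.coprime_dvd_right (Subgroup.card_subgroup_dvd_card N))
      have hlt2 : Nat.card (G ⧸ N) < Nat.card G := by
        have h := N.card_mul_index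
        rw [Subgroup.index_eq_card] at h
        haveI : Nontrivial N := (Subgroup.nontrivial_iff_ne_bot N).mpr hcon.1
        have h2 : 1 < Nat.card N := Finite.one_lt_card
        have h3 : 0 < Nat.card (G ⧸ N) := Nat.card_pos
        rw [← h]
        exact lt_mul_of_one_lt_left h3 h2
      have hmap : ∀ a, N.map ((φ a : G ≃* G) : G →* G) = N := fun a => by
        refine le_antisymm ?_ fun x hx => ⟨φ a⁻¹ x, hNi a⁻¹ x hx, ?_⟩
        · rintro _ ⟨x, hx, rfl⟩
          exact hNi a x hx
        · show φ a (φ a⁻¹ x) = x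
          rw [← MulAut.mul_apply, ← map_mul, mul_inv_cancel, map_one, MulAut.one_apply]
      let ρ' : A →* MulAut (G ⧸ N) :=
        { toFun := fun a => QuotientGroup.congr N N (φ a) (hmap a)
          map_one' := MulEquiv.ext fun y => by
            obtain ⟨y, rfl⟩ := QuotientGroup.mk'_surjective _ y
            show ((φ 1 y : G) : G ⧸ N) = _
            rw [map_one, MulAut.one_apply]
            rfl
          map_mul' := fun a b => MulEquiv.ext fun y => by
            obtain ⟨y, rfl⟩ := QuotientGroup.mk'_surjective _ y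
            show ((φ (a * b) y : G) : G ⧸ N) = _
            rw [map_mul, MulAut.mul_apply]
            rfl }
      haveI : Group.IsSolvable (G ⧸ N) := ih _ hlt2 (G ⧸ N) rfl A ρ' π
        (fun y hy => by
          obtain ⟨y, rfl⟩ := QuotientGroup.mk'_surjective _ y
          refine (QuotientGroup.eq_one_iff y).mpr (lift φ hfpf π hcop N hNi fun a => ?_)
          exact QuotientGroup.eq.mp (hy a).symm)
        (free_quotient hfree N) (hcop.coprime_dvd_right (Subgroup.card_quotient_dvd_card N))
      exact hns (Group.isSolvable_of_ker_le_range N.subtype (QuotientGroup.mk' N)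
        (by rw [QuotientGroup.ker_mk', Subgroup.range_subtype]))
    haveI : Nontrivial G := by
      rcases subsingleton_or_nontrivial G with h | h
      · exact absurd (Group.isSolvable_of_comm fun a b => Subsingleton.elim _ _) hns
      · exact h
    obtain ⟨T, hTn, -, hT0, hTmin⟩ := CfsgLib.exists_minimal_normal (N := (⊤ : Subgroup G)) top_ne_bot
    haveI := hTn
    -- the images of `T` generate
    set J := ⨆ a : A, T.map (φ a : G ≃* G).toMonoidHom with hJ
    have hJn : J.Normal := by
      haveI : ∀ a, (T.map (φ a : G ≃* G).toMonoidHom).Normal := fun a => hTn.map (φ a : G ≃* G).toMonoidHom (φ a).surjective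
      rw [hJ]
      exact Subgroup.sSup_normal _ (by rintro _ ⟨a, rfl⟩; exact this a)
    have hJtop : J = ⊤ := by
      refine (hinv J hJn fun a x hx => ?_).resolve_left fun e => hT0 (eq_bot_iff.mpr ?_)
      · have h : J.map (φ a : G ≃* G).toMonoidHom ≤ J := by
          rw [hJ, Subgroup.map_iSup]
          refine iSup_le fun b => le_iSup_of_le (a * b) ?_
          rw [Subgroup.map_map, map_mul]
          exact le_rfl
        exact h ⟨x, hx, rfl⟩
      · intro x hx
        have h : φ 1 x ∈ J := Subgroup.mem_iSup_of_mem (1 : A) ⟨x, hx, rfl⟩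
        rwa [map_one, MulAut.one_apply, e] at h
    have hmin : ∀ a b : A, T.map (φ a : G ≃* G).toMonoidHom ≠ T.map (φ b : G ≃* G).toMonoidHom →
        ∀ x ∈ T, ∀ y ∈ T, φ a x * φ b y = φ b y * φ a x := by
      intro a b hne x hx y hy
      have hTa := hTn.map (φ a : G ≃* G).toMonoidHom (φ a).surjective
      have hTb := hTn.map (φ b : G ≃* G).toMonoidHom (φ b).surjective
      haveI := hTa
      haveI := hTb
      have hdisj : T.map (φ a : G ≃* G).toMonoidHom ⊓ T.map (φ b : G ≃* G).toMonoidHom = ⊥ := by
        have hm : ∀ c : A, ∀ M : Subgroup G, M.Normal → M ≤ T.map (φ c : G ≃* G).toMonoidHom →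
            M = ⊥ ∨ M = T.map (φ c : G ≃* G).toMonoidHom := by
          intro c M hM hle
          rcases hTmin (M.comap (φ c : G ≃* G).toMonoidHom) (hM.comap _) (fun z hz => by
            obtain ⟨w, hw, e⟩ := hle hz
            exact (φ c).injective e ▸ hw) with h | h
          · refine Or.inl ?_
            rw [← Subgroup.map_comap_eq_self_of_surjective (f := (φ c : G ≃* G).toMonoidHom) (φ c).surjective M, h, Subgroup.map_bot]
          · exact Or.inr (by rw [← h, Subgroup.map_comap_eq_self_of_surjective (f := (φ c : G ≃* G).toMonoidHom) (φ c).surjective M])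
        have hMn : (T.map (φ a : G ≃* G).toMonoidHom ⊓ T.map (φ b : G ≃* G).toMonoidHom).Normal := inferInstance
        rcases hm a _ hMn inf_le_left with h | h
        · exact h
        rcases hm b _ hMn inf_le_right with h' | h'
        · exact h'
        · exact absurd (h.symm.trans h') hne
      exact Subgroup.commute_of_normal_of_disjoint _ _ hTa hTb (disjoint_iff.mpr hdisj) _ _ ⟨x, hx, rfl⟩ ⟨y, hy, rfl⟩
    have hTsol : ¬ Group.IsSolvable T := by
      intro hs
      have hab := (CfsgLib.minimal_normal_elementary hT0 hs hTmin).1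
      refine hns (Group.isSolvable_of_comm fun x y => ?_)
      have hcomm : ∀ a b : A, ∀ u ∈ T, ∀ v ∈ T, φ a u * φ b v = φ b v * φ a u := by
        intro a b u hu v hv
        by_cases e : T.map (φ a : G ≃* G).toMonoidHom = T.map (φ b : G ≃* G).toMonoidHom
        · obtain ⟨w, hw, hwe⟩ : φ b v ∈ T.map (φ a : G ≃* G).toMonoidHom := e ▸ ⟨v, hv, rfl⟩
          have hwe' : φ a w = φ b v := hwe
          have huw : u * w = w * u := congrArg Subtype.val (hab.is_comm.comm ⟨u, hu⟩ ⟨w, hw⟩)
          rw [← hwe', ← map_mul, ← map_mul, huw]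
        · exact hmin a b e u hu v hv
      have hall : ∀ g : G, g ∈ J := fun g => hJtop ▸ Subgroup.mem_top g
      have h1 : ∀ g : G, ∀ a : A, ∀ u ∈ T, g * φ a u = φ a u * g := by
        intro g a u hu
        have hle : J ≤ Subgroup.centralizer {φ a u} := iSup_le fun b => by
          rintro _ ⟨v, hv, rfl⟩
          exact Subgroup.mem_centralizer_singleton_iff.mpr (hcomm b a v hv u hu)
        exact Subgroup.mem_centralizer_singleton_iff.mp (hle (hall g))
      have hle : J ≤ Subgroup.centralizer {x} := iSup_le fun b => by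
        rintro _ ⟨v, hv, rfl⟩
        exact Subgroup.mem_centralizer_singleton_iff.mpr (h1 x b v hv).symm
      exact (Subgroup.mem_centralizer_singleton_iff.mp (hle (hall y))).symm
    -- the stabiliser of `T`
    let A1 : Subgroup A :=
      { carrier := {a | T.map (φ a : G ≃* G).toMonoidHom = T}
        mul_mem' := fun {a b} ha hb => by
          show T.map (φ (a * b) : G ≃* G).toMonoidHom = T
          have h : (φ (a * b) : G ≃* G).toMonoidHom = (φ a : G ≃* G).toMonoidHom.comp (φ b : G ≃* G).toMonoidHom := by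
            rw [map_mul]; rfl
          rw [h, ← Subgroup.map_map, show T.map (φ b : G ≃* G).toMonoidHom = T from hb]
          exact ha
        one_mem' := by
          show T.map (φ 1 : G ≃* G).toMonoidHom = T
          rw [map_one]
          exact Subgroup.map_id T
        inv_mem' := fun {a} ha => by
          show T.map (φ a⁻¹ : G ≃* G).toMonoidHom = T
          conv_lhs => rw [← show T.map (φ a : G ≃* G).toMonoidHom = T from ha, Subgroup.map_map]
          rw [show (φ a⁻¹ : G ≃* G).toMonoidHom.comp (φ a : G ≃* G).toMonoidHom = MonoidHom.id G from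
            MonoidHom.ext fun z => by
              show φ a⁻¹ (φ a z) = z
              rw [← MulAut.mul_apply, ← map_mul, inv_mul_cancel, map_one, MulAut.one_apply]]
          exact Subgroup.map_id T }
    have hA1 : ∀ (a : A1), ∀ x ∈ T, φ a x ∈ T := fun a x hx => a.2.le ⟨x, hx, rfl⟩
    let ρ : A1 →* MulAut T :=
      { toFun := fun a =>
          { toFun := fun y => ⟨φ a y, hA1 a y y.2⟩
            invFun := fun y => ⟨φ (a : A)⁻¹ y, hA1 a⁻¹ y y.2⟩
            left_inv := fun y => Subtype.ext (by
              show φ (a : A)⁻¹ (φ a y) = y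
              rw [← MulAut.mul_apply, ← map_mul, inv_mul_cancel, map_one, MulAut.one_apply])
            right_inv := fun y => Subtype.ext (by
              show φ a (φ (a : A)⁻¹ y) = y
              rw [← MulAut.mul_apply, ← map_mul, mul_inv_cancel, map_one, MulAut.one_apply])
            map_mul' := fun x y => Subtype.ext (map_mul (φ a) (x : G) y) }
        map_one' := MulEquiv.ext fun y => Subtype.ext (by show φ 1 y = y; rw [map_one, MulAut.one_apply])
        map_mul' := fun a b => MulEquiv.ext fun y => Subtype.ext (by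
          show φ ((a : A) * b) y = φ a (φ b y)
          rw [map_mul, MulAut.mul_apply]) }
    have hρ : ∀ y : T, (∀ a : A1, ρ a y = y) → y = 1 := by
      intro y hy
      -- the product over the cosets of the stabiliser
      haveI : Fintype (A ⧸ A1) := Fintype.ofFinite _
      let v : A ⧸ A1 → G := Quotient.lift (fun a => φ a y) fun a b hab => by
        have h : a⁻¹ * b ∈ A1 := QuotientGroup.leftRel_apply.mp hab
        show φ a y = φ b y
        rw [show b = a * (a⁻¹ * b) by group, map_mul, MulAut.mul_apply,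
          show φ (a⁻¹ * b) y = y from congrArg Subtype.val (hy ⟨_, h⟩)]
      have hvc : ∀ p q : A ⧸ A1, v p * v q = v q * v p := by
        rintro ⟨a⟩ ⟨b⟩
        show φ a y * φ b y = φ b y * φ a y
        by_cases e : T.map (φ a : G ≃* G).toMonoidHom = T.map (φ b : G ≃* G).toMonoidHom
        · have h : a⁻¹ * b ∈ A1 := by
            show T.map (φ (a⁻¹ * b) : G ≃* G).toMonoidHom = T
            rw [show (φ (a⁻¹ * b) : G ≃* G).toMonoidHom =
              (φ a⁻¹ : G ≃* G).toMonoidHom.comp (φ b : G ≃* G).toMonoidHom from by rw [map_mul]; rfl,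
              ← Subgroup.map_map, ← e, Subgroup.map_map]
            rw [show (φ a⁻¹ : G ≃* G).toMonoidHom.comp (φ a : G ≃* G).toMonoidHom = MonoidHom.id G from
              MonoidHom.ext fun z => by
                show φ a⁻¹ (φ a z) = z
                rw [← MulAut.mul_apply, ← map_mul, inv_mul_cancel, map_one, MulAut.one_apply]]
            exact Subgroup.map_id T
          have h2 := congrArg Subtype.val (hy ⟨_, h⟩)
          have h3 : φ b y = φ a y := by
            rw [show b = a * (a⁻¹ * b) by group, map_mul, MulAut.mul_apply]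
            exact congrArg _ h2
          rw [h3]
        · exact hmin a b e y y.2 y y.2
      set W := Subgroup.closure (Set.range v) with hW
      haveI : IsMulCommutative W := Subgroup.isMulCommutative_closure (k := Set.range v) (by
        rintro _ ⟨p, rfl⟩ _ ⟨q, rfl⟩
        exact hvc p q)
      letI : CommGroup W := { (inferInstance : Group W) with mul_comm := fun a b => IsMulCommutative.is_comm.comm a b }
      let v' : A ⧸ A1 → W := fun p => ⟨v p, Subgroup.subset_closure ⟨p, rfl⟩⟩
      have hPfix : ∀ a : A, φ a ((∏ p, v' p : W) : G) = ((∏ p, v' p : W) : G) := by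
        intro a
        let e : A ⧸ A1 ≃ A ⧸ A1 := MulAction.toPerm a
        have hve : ∀ p, φ a (v p) = v (e p) := by
          rintro ⟨b⟩
          show φ a (φ b y) = φ (a * b) y
          rw [map_mul, MulAut.mul_apply]
        have hWa : W ≤ W.comap (φ a : G ≃* G).toMonoidHom := by
          refine (Subgroup.closure_le _).mpr ?_
          rintro _ ⟨p, rfl⟩
          show φ a (v p) ∈ W
          rw [hve]
          exact Subgroup.subset_closure ⟨_, rfl⟩
        let Φ : W →* W := ((φ a : G ≃* G).toMonoidHom.comp W.subtype).codRestrict W fun z => hWa z.2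
        show ((Φ (∏ p, v' p) : W) : G) = _
        rw [map_prod, Finset.prod_congr rfl fun p _ => (Subtype.ext (hve p) : Φ (v' p) = v' (e p)),
          Equiv.prod_comp e v']
      have hP1 := hfpf _ hPfix
      -- `y` lies in `T` and in the product of the others
      set one : A ⧸ A1 := QuotientGroup.mk (1 : A) with hone
      have hsplit : v one * ((∏ p ∈ Finset.univ.erase one, v' p : W) : G) = 1 := by
        rw [← hP1, ← Finset.mul_prod_erase Finset.univ v' (Finset.mem_univ one), Subgroup.coe_mul]
      have hv1 : v one = y := by show φ 1 y = y; rw [map_one, MulAut.one_apply]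
      rw [hv1] at hsplit
      have hcenY : ∀ z ∈ T, z * (y : G) = y * z := by
        intro z hz
        have hcomm : Commute z ((∏ p ∈ Finset.univ.erase one, v' p : W) : G) := by
          refine Finset.prod_induction v' (fun w : W => Commute z (w : G)) (fun u w hu hw => hu.mul_right hw)
            (Commute.one_right z) ?_
          rintro ⟨b⟩ hb
          have hne : T.map (φ (1 : A) : G ≃* G).toMonoidHom ≠ T.map (φ b : G ≃* G).toMonoidHom := by
            intro e
            refine (Finset.mem_erase.mp hb).1 (QuotientGroup.eq.mpr ?_)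
            rw [mul_one]
            refine A1.inv_mem ?_
            show T.map (φ b : G ≃* G).toMonoidHom = T
            rw [← e, map_one]
            exact Subgroup.map_id T
          have := hmin 1 b hne z hz y y.2
          rwa [map_one, MulAut.one_apply] at this
        rw [mul_eq_one_iff_eq_inv] at hsplit
        rw [hsplit]
        exact hcomm.inv_right.eq
      have hyc : (y : G) ∈ T ⊓ Subgroup.centralizer (T : Set G) := ⟨y.2, fun z hz => hcenY z hz⟩
      rcases hTmin (T ⊓ Subgroup.centralizer (T : Set G)) inferInstance inf_le_left with h | h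
      · rw [h, Subgroup.mem_bot] at hyc
        exact Subtype.ext hyc
      · refine absurd (Group.isSolvable_of_comm fun a b => Subtype.ext ?_) hTsol
        have hb : (b : G) ∈ T ⊓ Subgroup.centralizer (T : Set G) := h.symm ▸ b.2
        exact hb.2 a a.2
    let π1 : A1 →* H := π.comp A1.subtype
    have hcop1 : ∀ {k : ℕ}, k ∣ Nat.card G → (Nat.card π1.ker).Coprime k := fun {k} hk => by
      refine (hcop.coprime_dvd_left ?_).coprime_dvd_right hk
      rw [← Subgroup.card_map_of_injective (K := π1.ker) A1.subtype_injective]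
      refine Subgroup.card_dvd_of_le ?_
      rintro _ ⟨z, hz, rfl⟩
      exact hz
    by_cases hTtop : T = ⊤
    swap
    · have hlt : Nat.card T < Nat.card G := by
        rcases lt_or_eq_of_le (Subgroup.card_le_card_group T) with h | h
        · exact h
        · exact absurd (Subgroup.eq_top_of_card_eq T h) hTtop
      exact hTsol (ih _ hlt ↥T rfl A1 ρ π1 hρ (free_subgroup hfree T) (hcop1 (Subgroup.card_subgroup_dvd_card T)))
    -- the simple case
    subst hTtop
    haveI : IsSimpleGroup G := ⟨fun M hM => hTmin M hM le_top⟩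
    have hna : ¬ IsMulCommutative G := fun h => hns (Group.isSolvable_of_comm fun a b => h.is_comm.comm a b)
    have hgood : Good G := by
      rcases listed_model (K := G) (classify_of_killed h8 h4 G inferInstance hna hfree) with
        ⟨F, i1, i2, m, hm, hc, ⟨e⟩⟩ | ⟨F, i1, i2, m, D, ⟨e⟩⟩
      · exact (good_sz hm hc).congr e
      · exact (good_psl D).congr e
    exact simple_false hgood hna φ hfpf π hcop

end Main

end Operators

end CfsgLib.S3Simple
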