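import Cfsg.Agent.Lib.S3Simple.Main
import Cfsg.Agent.Lib.S3Simple.Rows
import Cfsg.Agent.Lib.Suzuki.Semisimple
import Cfsg.Agent.Lib.SpecOrderPSL2.Basic
import Cfsg.Agent.Lib.Comp.PComp

/-!
The π-homogeneous groups of order prime to three (S4045).
-/

set_option autoImplicit false
set_option linter.unusedSectionVars false
set_option linter.style.haveILetI false

namespace CfsgLib.S3Simple.PiHom

open Cfsg

universe u

/-- A prime-power element outside `π` normalising a `p`-subgroup, `p ∈ π`, centralises it. -/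
def Loc (π : Set ℕ) (G : Type u) [Group G] : Prop :=
  ∀ p ∈ π, ∀ H : Subgroup G, IsPGroup p H → ∀ r : ℕ, r.Prime → r ∉ π → ∀ g ∈ Subgroup.normalizer (H : Set G),
    (∃ k : ℕ, g ^ r ^ k = 1) → g ∈ Subgroup.centralizer (H : Set G)

/-- The elements of order prime to `π`. -/
def Out' (π : Set ℕ) {G : Type u} [Group G] (x : G) : Prop :=
  ∀ p : ℕ, p.Prime → p ∣ orderOf x → p ∉ π

variable {π : Set ℕ} {G : Type u} [Group G] [Finite G]

theorem loc_of_hom (hπ : ∀ p ∈ π, p.Prime)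
    (hhom : ∀ H : Subgroup G, H ≠ ⊥ → (∀ p : ℕ, p.Prime → p ∣ Nat.card ↥H → p ∈ π) →
      ∀ p : ℕ, p.Prime → p ∣ (Subgroup.centralizer (H : Set G)).relIndex (Subgroup.normalizer (H : Set G)) → p ∈ π) :
    Loc π G := by
  intro p hp H hH r hr hrπ g hg ⟨k, hk⟩
  haveI : Fact p.Prime := ⟨hπ p hp⟩
  rcases eq_or_ne H ⊥ with rfl | hne
  · intro x hx
    rw [SetLike.mem_coe, Subgroup.mem_bot] at hx
    rw [hx, one_mul, mul_one]
  set N := Subgroup.normalizer (H : Set G) with hN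
  set C := Subgroup.centralizer (H : Set G) with hC
  haveI : (C.subgroupOf N).Normal := by
    refine ⟨fun c hc n => ?_⟩
    rw [Subgroup.mem_subgroupOf] at hc ⊢
    intro h hh
    have h' := (Subgroup.mem_normalizer_iff.mp (inv_mem n.2) h).mp hh
    rw [inv_inv] at h'
    have := hc _ h'
    calc h * ((n * c * n⁻¹ : N) : G) = (n : G) * ((n : G)⁻¹ * h * n * c) * (n : G)⁻¹ := by push_cast; group
      _ = (n : G) * (c * ((n : G)⁻¹ * h * n)) * (n : G)⁻¹ := by rw [this]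
      _ = ((n * c * n⁻¹ : N) : G) * h := by push_cast; group
  set x : N ⧸ C.subgroupOf N := QuotientGroup.mk ⟨g, hg⟩
  have hx1 : x = 1 := by
    by_contra hx
    obtain ⟨i, -, hi⟩ := (Nat.dvd_prime_pow hr).mp (orderOf_dvd_of_pow_eq_one (show x ^ r ^ k = 1 by
      rw [← QuotientGroup.mk_pow]
      exact (QuotientGroup.eq_one_iff _).mpr (show ((⟨g, hg⟩ : N) ^ r ^ k : N).1 ∈ C by simp [hk])))
    have hi0 : i ≠ 0 := fun e => hx (orderOf_eq_one_iff.mp (by rw [hi, e, pow_zero]))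
    refine hrπ (hhom H hne (fun q hq hd => ?_) r hr ?_)
    · obtain ⟨n, hn⟩ := IsPGroup.iff_card.mp hH
      rwa [(Nat.prime_dvd_prime_iff_eq hq Fact.out).mp (hq.dvd_of_dvd_pow (hn ▸ hd))]
    · rw [Subgroup.relIndex, Subgroup.index_eq_card]
      exact ((dvd_pow_self r hi0).trans (hi ▸ dvd_rfl)).trans (orderOf_dvd_natCard x)
  exact Subgroup.mem_subgroupOf.mp ((QuotientGroup.eq_one_iff (N := C.subgroupOf N) ⟨g, hg⟩).mp hx1)

theorem Loc.subgroup (h : Loc π G) (C : Subgroup G) : Loc π ↥C := by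
  intro p hp H hH r hr hrπ g hg ⟨k, hk⟩ x hx
  have hn : (g : G) ∈ Subgroup.normalizer ((H.map C.subtype : Subgroup G) : Set G) :=
    CfsgLib.Comp.mem_normalizer_of_maps (by
      rintro _ ⟨y, hy, rfl⟩
      exact ⟨g * y * g⁻¹, (Subgroup.mem_normalizer_iff.mp hg y).mp hy, rfl⟩)
  exact Subtype.ext (h p hp _ (hH.map _) r hr hrπ g hn ⟨k, congrArg Subtype.val hk⟩ x ⟨x, hx, rfl⟩)

/-- A prime-power element of a quotient lifts to a prime-power element of the preimage. -/
theorem exists_prime_power_lift {N : Subgroup G} [N.Normal] {r : ℕ} (hr : r.Prime) (h : G) {k : ℕ}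
    (hk : (QuotientGroup.mk h : G ⧸ N) ^ r ^ k = 1) :
    ∃ e j : ℕ, (h ^ e) ^ r ^ j = 1 ∧ (QuotientGroup.mk (h ^ e) : G ⧸ N) = QuotientGroup.mk h := by
  obtain ⟨i, a, ha, hn⟩ := Nat.exists_eq_pow_mul_and_not_dvd (orderOf_pos h).ne' r hr.ne_one
  obtain ⟨m, hm⟩ := exists_pow_eq_self_of_coprime (x := (QuotientGroup.mk h : G ⧸ N)) (n := a)
    (((hr.coprime_iff_not_dvd.mpr ha).pow_left k).symm.coprime_dvd_right (orderOf_dvd_of_pow_eq_one hk))
  refine ⟨a * m, i, ?_, by rw [QuotientGroup.mk_pow, pow_mul, hm]⟩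
  rw [← pow_mul, mul_right_comm, pow_mul, mul_comm a, ← hn, pow_orderOf_eq_one, one_pow]

theorem Loc.quotient (hπ : ∀ p ∈ π, p.Prime) (hL : Loc π G) (N : Subgroup G) [N.Normal] :
    Loc π (G ⧸ N) := by
  intro p hp H hH r hr hrπ gb hgb ⟨k, hk⟩
  haveI : Fact p.Prime := ⟨hπ p hp⟩
  obtain ⟨g, rfl⟩ := QuotientGroup.mk'_surjective N gb
  set q := QuotientGroup.mk' N with hq
  set X := H.comap q with hX
  have hNX : N ≤ X := fun x hx => by
    rw [hX, Subgroup.mem_comap, show q x = 1 from (QuotientGroup.eq_one_iff x).mpr hx]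
    exact one_mem H
  obtain ⟨Q⟩ : Nonempty (Sylow p X) := inferInstance
  -- the Sylow subgroup covers `H`
  set f : X →* H := q.subgroupComap H with hf
  have hfs : Function.Surjective f := q.subgroupComap_surjective_of_surjective H (QuotientGroup.mk'_surjective N)
  have hcov : (Q : Subgroup X).map f = ⊤ := by
    obtain ⟨n, hn⟩ := IsPGroup.iff_card.mp hH
    have h1 : ((Q : Subgroup X).map f).index ∣ (Q : Subgroup X).index := Subgroup.index_map_dvd _ hfs
    have h2 : ((Q : Subgroup X).map f).index ∣ p ^ n := hn ▸ Subgroup.index_dvd_card _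
    exact Subgroup.index_eq_one.mp (Nat.dvd_one.mp
      ((Nat.Coprime.pow_left n ((Fact.out : p.Prime).coprime_iff_not_dvd.mpr Q.not_dvd_index)).gcd_eq_one ▸
        Nat.dvd_gcd h2 h1))
  have hsup : X ≤ (Q : Subgroup X).map X.subtype ⊔ N := by
    intro x hx
    obtain ⟨y, hy, he⟩ := (hcov ▸ Subgroup.mem_top (f ⟨x, hx⟩) : f ⟨x, hx⟩ ∈ (Q : Subgroup X).map f)
    have he' : (y : G)⁻¹ * x ∈ N := QuotientGroup.eq.mp (congrArg Subtype.val he)
    simpa using mul_mem (Subgroup.mem_sup_left (T := N) (⟨y, hy, rfl⟩ : (y : G) ∈ (Q : Subgroup X).map X.subtype))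
      (Subgroup.mem_sup_right (S := (Q : Subgroup X).map X.subtype) he')
  set Q' := (Q : Subgroup X).map X.subtype with hQ'
  have hgX : g ∈ Subgroup.normalizer (X : Set G) := CfsgLib.Comp.mem_normalizer_of_maps fun x hx => by
    rw [hX, Subgroup.mem_comap, map_mul, map_mul, map_inv]
    exact (Subgroup.mem_normalizer_iff.mp hgb _).mp hx
  -- Frattini: an element of `g N` normalises `Q'`
  obtain ⟨w, hw, hwg⟩ : ∃ w ∈ Subgroup.normalizer (Q' : Set G), g⁻¹ * w ∈ N := by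
    let φ : MulAut X := X.normalizerMonoidHom ⟨g, hgX⟩
    obtain ⟨x, hx⟩ := MulAction.exists_smul_eq X (φ • Q) Q
    have hxm : (x : G) ∈ Q' ⊔ N := hsup x.2
    obtain ⟨a, ha, n, hn, hxe⟩ := Subgroup.mem_sup_of_normal_right.mp hxm
    have hmap : ∀ y ∈ Q', (x : G) * g * y * ((x : G) * g)⁻¹ ∈ Q' := by
      rintro _ ⟨y, hy, rfl⟩
      refine ⟨x * φ y * x⁻¹, ?_, ?_⟩
      · show _ ∈ (Q : Subgroup X)
        rw [← hx, Sylow.coe_subgroup_smul]
        exact Subgroup.smul_mem_pointwise_smul _ (MulAut.conj x) _ (Subgroup.smul_mem_pointwise_smul (y : ↥X) φ (Q : Subgroup X) hy)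
      · show (x : G) * (g * (y : G) * g⁻¹) * (x : G)⁻¹ = _
        rw [mul_inv_rev]
        simp only [Subgroup.coe_subtype, mul_assoc]
    refine ⟨a⁻¹ * ((x : G) * g), mul_mem (inv_mem (Subgroup.le_normalizer ha))
      (CfsgLib.Comp.mem_normalizer_of_maps hmap), ?_⟩
    rw [← hxe]
    have := ‹N.Normal›.conj_mem n hn g⁻¹
    rw [inv_inv] at this
    convert this using 1
    group
  have hwq : q w = q g := (QuotientGroup.eq.mpr hwg).symm
  obtain ⟨e, j, hej, heq⟩ := exists_prime_power_lift (N := N) hr w (k := k) (by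
    show q w ^ r ^ k = 1
    rw [hwq]; exact hk)
  have hc := hL p hp Q' (Q.2.map _) r hr hrπ (w ^ e) (pow_mem hw e) ⟨j, hej⟩
  intro h hh
  obtain ⟨y, hy⟩ := hfs ⟨h, hh⟩
  obtain ⟨a, ha, n, hn, hye⟩ := Subgroup.mem_sup_of_normal_right.mp (hsup y.2)
  have hqy : q a = h := by
    have : q y = h := congrArg Subtype.val hy
    rw [← this, ← hye, map_mul, show q n = 1 from (QuotientGroup.eq_one_iff n).mpr hn, mul_one]
  have := congrArg q (hc a ha)
  rw [map_mul, map_mul, hqy, show q (w ^ e) = q w from heq, hwq] at this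
  exact this

/-- In a Suzuki group every element of odd prime order is normalised by an involution not centralising it. -/
theorem suzuki_not_loc (hs : Lie.IsoSuzuki G) (hπ : ∀ p ∈ π, p.Prime ∧ p ≠ 2) (hL : Loc π G)
    {p : ℕ} (hp : p ∈ π) : ¬ p ∣ Nat.card G := by
  intro hd
  obtain ⟨F, i1, i2, m, hm, hF, ⟨e0⟩⟩ := hs
  let e := e0.trans (Suzuki.lieEquiv hF hm).symm
  haveI : Finite ↥(Cfsg.Sz F m) := Finite.of_equiv G e.toEquiv
  haveI : Fact p.Prime := ⟨(hπ p hp).1⟩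
  obtain ⟨x, hx⟩ := exists_prime_orderOf_dvd_card' p hd
  set z := e x
  have hz : orderOf z = p := by rw [MulEquiv.orderOf_eq, hx]
  have hss : Suzuki.SS hF z := by
    refine ⟨fun h => (hπ p hp).1.ne_one (by rw [← hz, h, orderOf_one]), fun h => ?_⟩
    have h2 := Suzuki.orderOf_dvd_of_conjSet _ h
    rw [Suzuki.card_U, hz, ← pow_mul] at h2
    exact (hπ p hp).2 ((Nat.prime_dvd_prime_iff_eq (hπ p hp).1 Nat.prime_two).mp ((hπ p hp).1.dvd_of_dvd_pow h2))
  obtain ⟨c, hc, hcyc, hk, hN⟩ := Suzuki.ss_data hF hm hss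
  set A := Subgroup.centralizer ({z} : Set ↥(Cfsg.Sz F m)) with hA
  haveI : Fact (Nat.Prime 2) := ⟨Nat.prime_two⟩
  have h2 : 2 ∣ Nat.card (Subgroup.normalizer (A : Set ↥(Cfsg.Sz F m))) := by
    rw [hN]
    rcases hc with rfl | rfl
    · exact dvd_mul_right _ _
    · exact dvd_mul_of_dvd_left (by norm_num) _
  obtain ⟨t, ht⟩ := exists_prime_orderOf_dvd_card' 2 h2
  have htA : (t : ↥(Cfsg.Sz F m)) ∉ A := fun h => by
    refine (Suzuki.torusOrder_props hF hm hk).2.2.1 ?_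
    rw [← ht, ← Subgroup.orderOf_coe t]
    exact Subgroup.orderOf_dvd_natCard A h
  have hzA : z ∈ A := Subgroup.mem_centralizer_singleton_iff.mpr rfl
  set g := e.symm (t : ↥(Cfsg.Sz F m))
  have hgn : g ∈ Subgroup.normalizer ((Subgroup.zpowers x : Subgroup G) : Set G) := by
    refine CfsgLib.Comp.mem_normalizer_of_maps fun w hw => ?_
    haveI := hcyc
    have hwz : e w ∈ Subgroup.zpowers z := by
      obtain ⟨i, rfl⟩ := Subgroup.mem_zpowers_iff.mp hw
      rw [map_zpow]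
      exact zpow_mem (Subgroup.mem_zpowers z) _
    have hwp : (e w) ^ orderOf z = 1 := by
      refine orderOf_dvd_iff_pow_eq_one.mp ?_
      exact (Subgroup.orderOf_dvd_natCard _ hwz).trans (Nat.card_zpowers z).dvd
    have hmem := CfsgLib.SpecOrderPSL2.mem_zpowers_of_cyclic hzA
      ((Subgroup.mem_normalizer_iff.mp t.2 _).mp (Subgroup.zpowers_le.mpr hzA hwz)) (by rw [conj_pow, hwp]; group)
    obtain ⟨i, hi⟩ := Subgroup.mem_zpowers_iff.mp hmem
    refine Subgroup.mem_zpowers_iff.mpr ⟨i, e.injective ?_⟩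
    rw [map_zpow, hi, map_mul, map_mul, map_inv, MulEquiv.apply_symm_apply]
  have h2π : (2 : ℕ) ∉ π := fun h => (hπ 2 h).2 rfl
  have hc' := hL p hp (Subgroup.zpowers x) (IsPGroup.of_card (n := 1) (by rw [Nat.card_zpowers, hx, pow_one])) 2
    Nat.prime_two h2π g hgn ⟨1, by rw [pow_one, ← map_pow, ← SubmonoidClass.coe_pow, ← ht, pow_orderOf_eq_one,
      OneMemClass.coe_one, map_one]⟩
  refine htA (Subgroup.mem_centralizer_singleton_iff.mpr ?_)
  have := congrArg e (hc' x (Subgroup.mem_zpowers x))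
  rw [map_mul, map_mul, MulEquiv.apply_symm_apply] at this
  exact this.symm

/-- The prime-power elements outside `π` centralise a normal subgroup of order a `π`-number. -/
theorem centralizes_pi_normal (hπ : ∀ p ∈ π, p.Prime) (hL : Loc π G) (N : Subgroup G) [N.Normal]
    (hN : ∀ q : ℕ, q.Prime → q ∣ Nat.card N → q ∈ π) {r : ℕ} (hr : r.Prime) (hrπ : r ∉ π) {g : G}
    (hg : ∃ k : ℕ, g ^ r ^ k = 1) : g ∈ Subgroup.centralizer (N : Set G) := by
  haveI : Fact r.Prime := ⟨hr⟩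
  let φ : MulAut N := N.normalizerMonoidHom ⟨g, by rw [Subgroup.normalizer_eq_top]; exact Subgroup.mem_top g⟩
  set D : Subgroup N := (φ.toMonoidHom.eqLocus (MonoidHom.id _)) with hD
  suffices h : D = ⊤ by
    intro n hn
    have h1 : φ ⟨n, hn⟩ = ⟨n, hn⟩ := (h ▸ Subgroup.mem_top _ : (⟨n, hn⟩ : N) ∈ D)
    exact (mul_inv_eq_iff_eq_mul.mp (congrArg Subtype.val h1 : g * n * g⁻¹ = n)).symm
  refine Subgroup.eq_top_of_card_eq D (Nat.dvd_antisymm (Subgroup.card_subgroup_dvd_card D) ?_)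
  rw [Nat.dvd_iff_prime_pow_dvd_dvd]
  intro q j hq hd
  haveI : Fact q.Prime := ⟨hq⟩
  rcases Nat.eq_zero_or_pos j with rfl | hj
  · simp
  have hqπ : q ∈ π := hN q hq ((dvd_pow_self q hj.ne').trans hd)
  have hP : IsPGroup r (Subgroup.zpowers φ) := by
    obtain ⟨k, hk⟩ := hg
    obtain ⟨i, -, hi⟩ := (Nat.dvd_prime_pow hr).mp (orderOf_dvd_of_pow_eq_one (show φ ^ r ^ k = 1 by
      rw [← map_pow]
      convert map_one N.normalizerMonoidHom
      exact Subtype.ext hk))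
    exact IsPGroup.of_card (n := i) (by rw [Nat.card_zpowers, hi])
  obtain ⟨P, hPfix⟩ := hP.nonempty_fixed_point_of_prime_not_dvd_card (Sylow q N) fun h => hrπ (hN r hr (h.trans
    (by obtain ⟨P⟩ : Nonempty (Sylow q N) := inferInstance
        exact (Sylow.card_eq_index_normalizer P).symm ▸ Subgroup.index_dvd_card _)))
  have hPφ : φ • P = P := hPfix ⟨φ, Subgroup.mem_zpowers φ⟩
  have hgn : g ∈ Subgroup.normalizer (((P : Subgroup N).map N.subtype : Subgroup G) : Set G) :=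
    CfsgLib.Comp.mem_normalizer_of_maps (by
      rintro _ ⟨y, hy, rfl⟩
      refine ⟨φ y, ?_, rfl⟩
      rw [← hPφ]
      exact Subgroup.smul_mem_pointwise_smul (y : ↥N) φ (P : Subgroup N) hy)
  have hc := hL q hqπ _ (P.2.map N.subtype) r hr hrπ g hgn hg
  have hle : (P : Subgroup N) ≤ D := fun y hy => Subtype.ext (by
    show g * (y : G) * g⁻¹ = y
    rw [mul_inv_eq_iff_eq_mul]
    exact (hc (y : G) ⟨y, hy, rfl⟩).symm)
  refine dvd_trans ?_ (Subgroup.card_dvd_of_le hle)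
  rw [Sylow.card_eq_multiplicity]
  exact pow_dvd_pow q ((hq.pow_dvd_iff_le_factorization Nat.card_pos.ne').mp hd)

theorem out'_mul_dvd {K : Type u} [Group K] [Finite K] {x : K} {a b : ℕ} (h : orderOf x ∣ a * b)
    (ha : ∀ p : ℕ, p.Prime → p ∣ a → p ∉ π) (hb : ∀ p : ℕ, p.Prime → p ∣ b → p ∉ π) : Out' π x :=
  fun p hp hd => ((Nat.Prime.dvd_mul hp).mp (hd.trans h)).elim (ha p hp) (hb p hp)

theorem Out'.map {H : Type u} [Group H] (f : G →* H) {x : G} (h : Out' π x) : Out' π (f x) :=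
  fun p hp hd => h p hp (hd.trans (orderOf_map_dvd f x))

/-- S4045 by induction. -/
theorem exists_subgroup_of_killed (h8 : EightKilled.{u}) (h4 : FourKilled.{u}) :
    ∀ (n : ℕ) (G : Type u) [Group G] [Finite G], Nat.card G = n → (∀ p ∈ π, p.Prime ∧ p ≠ 2) →
      ¬ 3 ∣ Nat.card G → Loc π G → ∃ K : Subgroup G, ∀ x : G, x ∈ K ↔ Out' π x := by
  intro n
  induction n using Nat.strong_induction_on with
  | _ n ih =>
  intro G _ _ hn hπ h3 hL
  have hπ' : ∀ p ∈ π, p.Prime := fun p hp => (hπ p hp).1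
  have hone : Out' π (1 : G) := fun p hp hd => absurd (Nat.dvd_one.mp (orderOf_one (G := G) ▸ hd)) hp.ne_one
  rcases subsingleton_or_nontrivial G with hsub | hnt
  · exact ⟨⊤, fun x => by rw [Subsingleton.elim x 1]; exact iff_of_true (Subgroup.mem_top _) hone⟩
  have hlt : ∀ H : Subgroup G, H ≠ ⊤ → Nat.card H < n := fun H hH =>
    hn ▸ lt_of_le_of_ne (Subgroup.card_le_card_group H) fun e => hH (Subgroup.eq_top_of_card_eq H e)
  by_cases hs : IsSimpleGroup G
  · by_cases hcm : IsMulCommutative G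
    · haveI := hcm
      have hp := Group.is_simple_iff_prime_card.mp hs
      by_cases hpπ : Nat.card G ∈ π
      · refine ⟨⊥, fun x => ⟨fun hx => by rw [Subgroup.mem_bot.mp hx]; exact hone, fun hx => ?_⟩⟩
        rw [Subgroup.mem_bot]
        by_contra hne
        have hox : orderOf x = Nat.card G := ((Nat.dvd_prime hp).mp (orderOf_dvd_natCard x)).resolve_left
          fun e => hne (orderOf_eq_one_iff.mp e)
        exact hx _ hp (dvd_of_eq hox.symm) hpπ
      · refine ⟨⊤, fun x => iff_of_true (Subgroup.mem_top x) fun p hp' hd h => hpπ ?_⟩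
        rwa [← (Nat.prime_dvd_prime_iff_eq hp' hp).mp (hd.trans (orderOf_dvd_natCard x))]
    · have hz := (suzuki_or_three (classify_of_killed h8 h4 G hs hcm (free_of_not_three h3))).resolve_right
        fun h => h3 h.1
      exact ⟨⊤, fun x => iff_of_true (Subgroup.mem_top x) fun p hp hd h =>
        suzuki_not_loc hz hπ hL h (hd.trans (orderOf_dvd_natCard x))⟩
  obtain ⟨N₀, hN₀, hb₀, ht₀⟩ : ∃ N : Subgroup G, N.Normal ∧ N ≠ ⊥ ∧ N ≠ ⊤ := by
    by_contra hcon
    push Not at hcon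
    exact hs { eq_bot_or_eq_top_of_normal := fun H hH => or_iff_not_imp_left.mpr (hcon H hH) }
  obtain ⟨N, hNle, ⟨hNn, hNb⟩, hmin⟩ :=
    (Set.toFinite {N : Subgroup G | N.Normal ∧ N ≠ ⊥}).exists_le_minimal ⟨hN₀, hb₀⟩
  haveI := hNn
  have hNt : N ≠ ⊤ := fun e => ht₀ (top_le_iff.mp (e ▸ hNle))
  obtain ⟨KN, hKN⟩ := ih _ (hlt N hNt) N rfl hπ (fun h => h3 (h.trans (Subgroup.card_subgroup_dvd_card N)))
    (hL.subgroup N)
  obtain ⟨Kb, hKb⟩ := ih _ (hn ▸ lt_of_le_of_ne (Nat.card_le_card_of_surjective _ (QuotientGroup.mk'_surjective N))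
    (fun e => hNb (Subgroup.card_eq_one.mp (by
      have h := Subgroup.card_eq_card_quotient_mul_card_subgroup N
      rw [e] at h
      exact (mul_eq_left₀ Nat.card_pos.ne').mp h.symm)))) (G ⧸ N) rfl hπ
    (fun h => h3 (h.trans (Subgroup.card_quotient_dvd_card N))) (hL.quotient hπ' N)
  have hin : ∀ x : G, Out' π x → x ∈ Kb.comap (QuotientGroup.mk' N) := fun x hx => (hKb _).mpr (hx.map _)
  haveI hM : (KN.map N.subtype).Normal := by
    refine ⟨fun y hy g => ?_⟩
    obtain ⟨⟨a, ha⟩, haK, rfl⟩ := hy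
    refine ⟨⟨g * a * g⁻¹, hNn.conj_mem a ha g⟩, (hKN _).mpr fun p hp hd => (hKN _).mp haK p hp ?_, rfl⟩
    rw [← Subgroup.orderOf_coe] at hd ⊢
    exact (MulEquiv.orderOf_eq (MulAut.conj g) a) ▸ hd
  by_cases hKNb : KN.map N.subtype = ⊥
  swap
  · -- `N` has order prime to `π`
    have hall : ∀ q : ℕ, q.Prime → q ∣ Nat.card N → q ∉ π := fun q hq hd => by
      haveI : Fact q.Prime := ⟨hq⟩
      obtain ⟨a, ha⟩ := exists_prime_orderOf_dvd_card' q hd
      have hNK : N ≤ KN.map N.subtype := hmin ⟨hM, hKNb⟩ (Subgroup.map_subtype_le KN)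
      obtain ⟨b, hb, hbe⟩ := hNK a.2
      rw [Subtype.ext hbe] at hb
      exact (hKN a).mp hb q hq (dvd_of_eq ha.symm)
    refine ⟨Kb.comap (QuotientGroup.mk' N), fun x => ⟨fun hx => ?_, hin x⟩⟩
    refine out'_mul_dvd (a := orderOf (QuotientGroup.mk' N x)) (b := Nat.card N) ?_ ((hKb _).mp hx) hall
    refine orderOf_dvd_of_pow_eq_one ?_
    rw [pow_mul]
    exact congrArg Subtype.val (pow_card_eq_one' (x := (⟨x ^ orderOf (QuotientGroup.mk' N x),
      (QuotientGroup.eq_one_iff _).mp (by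
        rw [QuotientGroup.mk_pow]; exact pow_orderOf_eq_one _)⟩ : N)))
  -- `N` is a `π`-group
  have hNπ : ∀ q : ℕ, q.Prime → q ∣ Nat.card N → q ∈ π := fun q hq hd => by
    by_contra hqπ
    haveI : Fact q.Prime := ⟨hq⟩
    obtain ⟨a, ha⟩ := exists_prime_orderOf_dvd_card' q hd
    have haK : a ∈ KN := (hKN a).mpr fun p hp hpd h => hqπ (by
      rw [ha] at hpd; rwa [← (Nat.prime_dvd_prime_iff_eq hp hq).mp hpd])
    rw [Subgroup.map_eq_bot_iff_of_injective _ N.subtype_injective] at hKNb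
    rw [hKNb, Subgroup.mem_bot] at haK
    exact hq.ne_one (ha ▸ haK ▸ orderOf_one)
  set C := Subgroup.centralizer (N : Set G) with hC
  haveI : C.Normal := Subgroup.normal_centralizer
  have hinC : ∀ x : G, Out' π x → x ∈ C := by
    intro x hx
    rw [← QuotientGroup.eq_one_iff, ← orderOf_eq_one_iff]
    by_contra hne
    obtain ⟨r, hr, hrd⟩ := Nat.exists_prime_and_dvd hne
    have hrx : r ∣ orderOf x := hrd.trans (orderOf_map_dvd (QuotientGroup.mk' C) x)
    obtain ⟨k, a, ha, he⟩ := Nat.exists_eq_pow_mul_and_not_dvd (orderOf_pos x).ne' r hr.ne_one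
    have := centralizes_pi_normal hπ' hL N hNπ hr (hx r hr hrx) (g := x ^ a) ⟨k, by
      rw [← pow_mul, mul_comm, ← he, pow_orderOf_eq_one]⟩
    refine ha (hrd.trans (orderOf_dvd_of_pow_eq_one ?_))
    rw [← QuotientGroup.mk_pow]
    exact (QuotientGroup.eq_one_iff _).mpr this
  by_cases hCt : C = ⊤
  swap
  · obtain ⟨K, hK⟩ := ih _ (hlt C hCt) C rfl hπ (fun h => h3 (h.trans (Subgroup.card_subgroup_dvd_card C)))
      (hL.subgroup C)
    refine ⟨K.map C.subtype, fun x => ⟨?_, fun hx => ⟨⟨x, hinC x hx⟩, (hK _).mpr fun p hp hd =>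
      hx p hp (by rwa [← Subgroup.orderOf_coe] at hd), rfl⟩⟩⟩
    rintro ⟨y, hy, rfl⟩ p hp hd
    exact (hK y).mp hy p hp (by rwa [Subgroup.coe_subtype, Subgroup.orderOf_coe] at hd)
  -- `N` is central
  set X := Kb.comap (QuotientGroup.mk' N) with hX
  have hNX : N ≤ X := fun a ha => by
    rw [hX, Subgroup.mem_comap, show QuotientGroup.mk' N a = 1 from (QuotientGroup.eq_one_iff a).mpr ha]
    exact one_mem Kb
  have hidx : (N.subgroupOf X).index = Nat.card Kb := by
    rw [Subgroup.index_eq_card]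
    exact Nat.card_congr ((QuotientGroup.quotientMulEquivOfEq (by
        ext a; rw [MonoidHom.mem_ker]; exact ⟨fun h => Subtype.ext ((QuotientGroup.eq_one_iff _).mpr h),
          fun h => (QuotientGroup.eq_one_iff (N := N) _).mp (show QuotientGroup.mk' N (a : G) = 1 from congrArg Subtype.val h)⟩)).trans
      (QuotientGroup.quotientKerEquivOfSurjective ((QuotientGroup.mk' N).subgroupComap Kb)
        ((QuotientGroup.mk' N).subgroupComap_surjective_of_surjective Kb (QuotientGroup.mk'_surjective N)))).toEquiv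
  have hKbπ : ∀ q : ℕ, q.Prime → q ∣ Nat.card Kb → q ∉ π := fun q hq hd => by
    haveI : Fact q.Prime := ⟨hq⟩
    obtain ⟨a, ha⟩ := exists_prime_orderOf_dvd_card' q hd
    exact (hKb a).mp a.2 q hq (by rw [Subgroup.orderOf_coe, ha])
  haveI : (N.subgroupOf X).Normal := Subgroup.normal_subgroupOf
  obtain ⟨M, hMc⟩ := Subgroup.exists_right_complement'_of_coprime (N := N.subgroupOf X) (by
    refine Nat.coprime_of_dvd fun q hq h1 h2 => ?_
    rw [hidx] at h2
    rw [Nat.card_congr (Subgroup.subgroupOfEquivOfLe hNX).toEquiv] at h1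
    exact hKbπ q hq h2 (hNπ q hq h1))
  have hMcard : Nat.card M = Nat.card Kb := hidx ▸ hMc.symm.index_eq_card.symm
  refine ⟨M.map X.subtype, fun x => ⟨?_, fun hx => ?_⟩⟩
  · rintro ⟨y, hy, rfl⟩ p hp hd
    rw [Subgroup.coe_subtype, Subgroup.orderOf_coe] at hd
    exact hKbπ p hp (hMcard ▸ hd.trans (Subgroup.orderOf_dvd_natCard M hy))
  · obtain ⟨⟨a, b⟩, hab⟩ := hMc.2 ⟨x, hin x hx⟩
    have hab' : ((a : X) : G) * ((b : X) : G) = x := congrArg Subtype.val hab
    have hcomm : Commute ((a : X) : G) ((b : X) : G) :=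
      ((hCt ▸ Subgroup.mem_top ((b : X) : G) : ((b : X) : G) ∈ C) _ a.2)
    refine ⟨(b : X), b.2, ?_⟩
    show ((b : X) : G) = x
    suffices h : ((a : X) : G) = 1 by rw [← hab', h, one_mul]
    rw [← orderOf_eq_one_iff]
    by_contra hne
    obtain ⟨q, hq, hqd⟩ := Nat.exists_prime_and_dvd hne
    have hdq : orderOf ((a : X) : G) ∣ orderOf x * Nat.card Kb := by
      refine orderOf_dvd_of_pow_eq_one ?_
      have h1 : ((b : X) : G) ^ (orderOf x * Nat.card Kb) = 1 := by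
        rw [mul_comm, pow_mul, ← hMcard, show ((b : X) : G) ^ Nat.card M = 1 from
          congrArg (fun w : M => ((w : X) : G)) (pow_card_eq_one' (x := b)), one_pow]
      have h2 : x ^ (orderOf x * Nat.card Kb) = 1 := by rw [pow_mul, pow_orderOf_eq_one, one_pow]
      calc ((a : X) : G) ^ (orderOf x * Nat.card Kb)
          = (((a : X) : G) * ((b : X) : G)) ^ (orderOf x * Nat.card Kb) := by rw [hcomm.mul_pow, h1, mul_one]
        _ = 1 := by rw [hab', h2]
    have hqN : q ∈ π := hNπ q hq (hqd.trans (Subgroup.orderOf_dvd_natCard N a.2))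
    exact ((Nat.Prime.dvd_mul hq).mp (hqd.trans hdq)).elim (fun h => hx q hq h hqN) fun h => hKbπ q hq h hqN

/-- S4045. -/
theorem closed_of_killed (h8 : EightKilled.{u}) (h4 : FourKilled.{u}) (π : Set ℕ)
    (hodd : ∀ p ∈ π, p.Prime ∧ p ≠ 2) (h3 : ¬ 3 ∣ Nat.card G)
    (hhom : ∀ H : Subgroup G, H ≠ ⊥ → (∀ p : ℕ, p.Prime → p ∣ Nat.card ↥H → p ∈ π) →
      ∀ p : ℕ, p.Prime → p ∣ (Subgroup.centralizer (H : Set G)).relIndex (Subgroup.normalizer (H : Set G)) → p ∈ π) :
    ∃ K : Subgroup G, ∀ x : G, x ∈ K ↔ ∀ p : ℕ, p.Prime → p ∣ orderOf x → p ∉ π :=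
  exists_subgroup_of_killed h8 h4 _ G rfl hodd h3 (loc_of_hom (fun p hp => (hodd p hp).1) hhom)

end CfsgLib.S3Simple.PiHom
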