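import Cfsg.Agent.Lib.S3Simple.Irrational
import Cfsg.Agent.Lib.Suzuki.Subfield
import Cfsg.Agent.Lib.FpfSymThree.Basic

/-!
A component of order prime to three and an element of order three with solvable centraliser (S2976).
-/

set_option autoImplicit false
set_option linter.unusedSectionVars false
set_option linter.style.haveILetI false

namespace CfsgLib.S3Simple

open Cfsg CfsgLib.Comp

universe u

/-- A perfect group has only the trivial homomorphism to a solvable group. -/
theorem hom_eq_one_of_perfect_solvable {X Y : Type*} [Group X] [Group Y] [Group.IsPerfect X] [Group.IsSolvable Y]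
    (f : X →* Y) : f = 1 := by
  haveI : Group.IsPerfect ↥f.range := Group.IsPerfect.ofSurjective f.rangeRestrict_surjective
  rcases subsingleton_or_nontrivial ↥f.range with h | h
  · exact MonoidHom.ext fun x => congrArg Subtype.val (Subsingleton.elim (⟨f x, x, rfl⟩ : f.range) 1)
  · exact absurd (inferInstance : Group.IsSolvable ↥f.range) (Group.IsPerfect.not_isSolvable _)

namespace SzFix

open CfsgLib.Suzuki

variable {F : Type} [Field F] [Fintype F] {m : ℕ} (hF : Fintype.card F = 2 ^ (2 * m + 1)) (hm : 1 ≤ m)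

theorem fAut_mul (i j : ℕ) : fAut hF hm i * fAut hF hm j = fAut hF hm (j + i) :=
  MulEquiv.ext fun x => Subtype.ext (Subtype.ext (by
    ext r s
    show ((x.1.1 r s) ^ 2 ^ j) ^ 2 ^ i = (x.1.1 r s) ^ 2 ^ (j + i)
    rw [← pow_mul, ← pow_add]))

theorem fAut_mod (i : ℕ) : fAut hF hm (i % (2 * m + 1)) = fAut hF hm i :=
  MulEquiv.ext fun x => Subtype.ext (Subtype.ext (by
    ext r s
    show (x.1.1 r s) ^ 2 ^ (i % (2 * m + 1)) = (x.1.1 r s) ^ 2 ^ i
    conv_rhs => rw [← Nat.mod_add_div i (2 * m + 1), pow_add, pow_mul, pow_mul, ← hF, FiniteField.pow_card_pow]))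

theorem fAut_zero : fAut hF hm 0 = 1 :=
  MulEquiv.ext fun x => Subtype.ext (Subtype.ext (by
    ext r s
    show (x.1.1 r s) ^ 2 ^ 0 = x.1.1 r s
    rw [pow_zero, pow_one]))

include hF hm in
/-- A field automorphism is inner only if it is trivial. -/
theorem eq_zero_of_inner {i : ℕ} (hi : i < 2 * m + 1)
    (h : fAut hF hm i ∈ (MulAut.conj (G := ↥(Cfsg.Sz F m))).range) : i = 0 := by
  let Φ : Fin (2 * m + 1) → Cfsg.Out ↥(Cfsg.Sz F m) := fun j => QuotientGroup.mk (fAut hF hm j)
  have hs : Function.Surjective Φ := by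
    intro x
    obtain ⟨φ, rfl⟩ := QuotientGroup.mk_surjective x
    obtain ⟨g, j, rfl⟩ := aut_eq hF hm φ
    refine ⟨j, ?_⟩
    have h1 : (QuotientGroup.mk (MulAut.conj g) : Cfsg.Out ↥(Cfsg.Sz F m)) = 1 :=
      (QuotientGroup.eq_one_iff _).mpr ⟨g, rfl⟩
    show _ = (QuotientGroup.mk (MulAut.conj g * fAut hF hm j) : Cfsg.Out ↥(Cfsg.Sz F m))
    rw [QuotientGroup.mk_mul, h1, one_mul]
  haveI := Finite.of_surjective Φ hs
  letI := Fintype.ofFinite (Cfsg.Out ↥(Cfsg.Sz F m))
  have hb : Function.Bijective Φ := (Fintype.bijective_iff_surjective_and_card Φ).mpr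
    ⟨hs, by rw [Fintype.card_fin, Fintype.card_eq_nat_card, CfsgLib.Suzuki.card_out hF hm]⟩
  have h0 : Φ ⟨i, hi⟩ = Φ ⟨0, by omega⟩ := by
    show (QuotientGroup.mk (fAut hF hm i) : Cfsg.Out ↥(Cfsg.Sz F m)) = QuotientGroup.mk (fAut hF hm 0)
    rw [fAut_zero, QuotientGroup.mk_one]
    exact (QuotientGroup.eq_one_iff _).mpr h
  exact congrArg Fin.val (hb.1 h0)

include hF hm in
/-- An automorphism of order dividing three with solvable fixed group forces `q = 8`. -/
theorem eight_of_solvable_fixed (β : MulAut ↥(Cfsg.Sz F m)) (h3 : β ^ 3 = 1)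
    (hsol : Group.IsSolvable ↥(β.toMonoidHom.eqLocus (MonoidHom.id _))) : m = 1 := by
  haveI : Fact (Nat.Prime 3) := ⟨Nat.prime_three⟩
  haveI := Suzuki.isSimple hF hm
  haveI hperf : Group.IsPerfect ↥(Cfsg.Sz F m) := Group.isPerfect_def.mpr (Suzuki.perfect hF hm)
  have hnot3 : ¬ 3 ∣ Nat.card ↥(Cfsg.Sz F m) := by
    rw [Nat.card_congr (lieEquiv hF hm).toEquiv]
    exact suzuki_not_three ⟨F, inferInstance, inferInstance, m, hm, hF, ⟨MulEquiv.refl _⟩⟩
  obtain ⟨g, i, hβ⟩ := aut_eq hF hm β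
  set φ := fAut hF hm (i : ℕ) with hφ
  set R := (MulAut.conj (G := ↥(Cfsg.Sz F m))).range with hR
  have hconj : ∀ a : ↥(Cfsg.Sz F m), (QuotientGroup.mk (MulAut.conj a) : MulAut _ ⧸ R) = 1 := fun a =>
    (QuotientGroup.eq_one_iff _).mpr ⟨a, rfl⟩
  -- the field automorphism has order three
  have hφ3 : φ ^ 3 ∈ R := by
    rw [← QuotientGroup.eq_one_iff, QuotientGroup.mk_pow]
    have : (QuotientGroup.mk β : MulAut _ ⧸ R) ^ 3 = 1 := by rw [← QuotientGroup.mk_pow, h3, QuotientGroup.mk_one]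
    rwa [hβ, QuotientGroup.mk_mul, hconj, one_mul] at this
  have h3i : 3 * (i : ℕ) % (2 * m + 1) = 0 := by
    refine eq_zero_of_inner hF hm (Nat.mod_lt _ (by omega)) ?_
    rw [fAut_mod, show 3 * (i : ℕ) = (i : ℕ) + i + i by ring, ← fAut_mul, ← fAut_mul]
    rwa [pow_succ', pow_two] at hφ3
  have hi0 : (i : ℕ) ≠ 0 := by
    intro hi
    rw [hφ, hi, fAut_zero, mul_one] at hβ
    have hg : g = 1 := by
      have hd : orderOf g ∣ 3 := by
        refine orderOf_dvd_of_pow_eq_one ?_
        have hinj : Function.Injective (MulAut.conj (G := ↥(Cfsg.Sz F m))) := by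
          rw [← MonoidHom.ker_eq_bot_iff]
          refine ((inferInstance : (MulAut.conj (G := ↥(Cfsg.Sz F m))).ker.Normal).eq_bot_or_eq_top).resolve_right
            fun h => ?_
          haveI : IsMulCommutative ↥(Cfsg.Sz F m) := ⟨⟨fun a b => by
            have := DFunLike.congr_fun (MonoidHom.mem_ker.mp (h ▸ Subgroup.mem_top a)) b
            rwa [MulAut.conj_apply, MulAut.one_apply, mul_inv_eq_iff_eq_mul] at this⟩⟩
          exact Group.IsPerfect.not_isMulCommutative ↥(Cfsg.Sz F m) inferInstance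
        exact hinj (by rw [map_pow, ← hβ, h3, map_one])
      exact orderOf_eq_one_iff.mp (((Nat.dvd_prime Nat.prime_three).mp hd).resolve_right fun e =>
        hnot3 (e ▸ orderOf_dvd_natCard g))
    rw [hβ, hg, map_one] at hsol
    refine Group.IsPerfect.not_isSolvable ↥(Cfsg.Sz F m) ?_
    exact Group.isSolvable_of_surjective (f := ((1 : MulAut ↥(Cfsg.Sz F m)).toMonoidHom.eqLocus
      (MonoidHom.id _)).subtype) fun x => ⟨⟨x, rfl⟩, rfl⟩
  obtain ⟨d, hd⟩ : 3 ∣ 2 * m + 1 := by
    by_contra hcon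
    have hco : Nat.Coprime (2 * m + 1) 3 := (Nat.prime_three.coprime_iff_not_dvd.mpr hcon).symm
    have h1 := Nat.le_of_dvd (by omega) (hco.dvd_of_dvd_mul_left (Nat.dvd_of_mod_eq_zero h3i))
    omega
  obtain ⟨t, ht⟩ : d ∣ (i : ℕ) := by
    obtain ⟨c, hc⟩ := Nat.dvd_of_mod_eq_zero h3i
    exact ⟨c, Nat.eq_of_mul_eq_mul_left (show 0 < 3 by norm_num) (by rw [hc, hd, mul_assoc])⟩
  have hord : orderOf φ = 3 := by
    refine orderOf_eq_prime ?_ fun h => hi0 (eq_zero_of_inner hF hm i.2 (by rw [← hφ, h]; exact one_mem _))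
    rw [pow_succ, pow_two, fAut_mul, fAut_mul, show (i : ℕ) + (i + i) = 3 * i by ring, ← fAut_mod, h3i, fAut_zero]
  -- conjugation to the field automorphism inside `Inn ⊔ ⟨φ⟩`
  set H := R ⊔ Subgroup.zpowers φ with hH
  haveI : R.Normal := inferInstance
  have hH9 : ∀ P : Subgroup H, Nat.card P = 3 → ¬ 3 ∣ P.index := by
    intro P hP hd'
    have h9 : 9 ∣ Nat.card R * 3 := by
      refine dvd_trans ?_ (hord ▸ (Nat.card_zpowers φ) ▸ (by
        rw [hH, sup_comm, mul_comm]; exact CfsgLib.card_sup_dvd_mul (Subgroup.zpowers φ) R :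
          Nat.card H ∣ Nat.card R * Nat.card (Subgroup.zpowers φ)))
      rw [← P.card_mul_index, hP]
      exact mul_dvd_mul_left 3 hd'
    refine hnot3 ((Nat.dvd_of_mul_dvd_mul_right (show 0 < 3 by norm_num) h9).trans ?_)
    exact Subgroup.card_range_dvd _
  have hφH : φ ∈ H := Subgroup.mem_sup_right (Subgroup.mem_zpowers φ)
  have hβH : β ∈ H := hβ ▸ mul_mem (Subgroup.mem_sup_left ⟨g, rfl⟩) hφH
  have hβord : orderOf β = 3 := by
    refine orderOf_eq_prime h3 fun h => hi0 (eq_zero_of_inner hF hm i.2 ⟨g⁻¹, ?_⟩)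
    rw [map_inv, inv_eq_iff_mul_eq_one, ← hβ, h]
  have hsyl : ∀ (a : H), orderOf (a : MulAut ↥(Cfsg.Sz F m)) = 3 → ∃ P : Sylow 3 H, (P : Subgroup H) = Subgroup.zpowers a :=
    fun a ha => by
    have hc : Nat.card (Subgroup.zpowers a) = 3 := by rw [Nat.card_zpowers, ← Subgroup.orderOf_coe, ha]
    exact ⟨(IsPGroup.of_card (n := 1) (by rw [hc, pow_one])).toSylow (hH9 _ hc), rfl⟩
  obtain ⟨P, hP⟩ := hsyl ⟨β, hβH⟩ hβord
  obtain ⟨Q, hQ⟩ := hsyl ⟨φ, hφH⟩ hord
  obtain ⟨c, hc⟩ := MulAction.exists_smul_eq H P Q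
  have hmem : c * ⟨β, hβH⟩ * c⁻¹ ∈ (Q : Subgroup H) := by
    rw [← hc, Sylow.coe_subgroup_smul]
    exact Subgroup.smul_mem_pointwise_smul _ (MulAut.conj c) _ (hP ▸ Subgroup.mem_zpowers _)
  rw [hQ] at hmem
  obtain ⟨j, hj⟩ := Subgroup.mem_zpowers_iff.mp hmem
  have hj' : φ ^ j = (c : MulAut _) * β * (c : MulAut _)⁻¹ := congrArg Subtype.val hj
  -- the fixed group of `φ` maps into the fixed group of `β`
  have hfix : ∀ x, φ x = x → β ((c : MulAut _)⁻¹ x) = (c : MulAut _)⁻¹ x := by
    intro x hx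
    have h1 : (φ ^ j) x = x := by
      have hst : φ ∈ MulAction.stabilizer (MulAut ↥(Cfsg.Sz F m)) x := hx
      exact (Subgroup.zpow_mem _ hst j :)
    rw [hj', MulAut.mul_apply, MulAut.mul_apply] at h1
    exact (c : MulAut _).injective (h1.trans (MulAut.apply_inv_self _ (c : MulAut _) x).symm)
  have hsolφ : Group.IsSolvable ↥(φ.toMonoidHom.eqLocus (MonoidHom.id _)) := by
    haveI := hsol
    set c' : MulAut ↥(Cfsg.Sz F m) := (c : MulAut ↥(Cfsg.Sz F m))⁻¹ with hc'
    let f : ↥(φ.toMonoidHom.eqLocus (MonoidHom.id _)) →* ↥(β.toMonoidHom.eqLocus (MonoidHom.id _)) :=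
      (c'.toMonoidHom.comp (φ.toMonoidHom.eqLocus (MonoidHom.id _)).subtype).codRestrict _
        fun x => (hfix x x.2 :)
    exact Group.isSolvable_of_isSolvable_injective (f := f) fun a b hab =>
      Subtype.ext (c'.injective (congrArg Subtype.val hab :))
  -- the subfield subgroup
  obtain ⟨k, rfl⟩ : ∃ k, d = 2 * k + 1 := ⟨d / 2, by omega⟩
  by_contra hm1
  have hk : 1 ≤ k := by omega
  obtain ⟨L, iL, iL', hL, ⟨e⟩⟩ := exists_galois_subGp hF hm hk ⟨3, by rw [hd, mul_comm]⟩
  haveI := Suzuki.isSimple hL hk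
  haveI : Group.IsPerfect ↥(Cfsg.Sz L k) := Group.isPerfect_def.mpr (Suzuki.perfect hL hk)
  have hle : subGp hF hm k ≤ φ.toMonoidHom.eqLocus (MonoidHom.id _) := by
    intro x hx
    have hpow : ∀ t, fAut hF hm ((2 * k + 1) * t) x = x := fun t => by
      induction t with
      | zero => rw [mul_zero, fAut_zero]; rfl
      | succ t ih =>
        rw [Nat.mul_succ, ← fAut_mul, MulAut.mul_apply, ih]
        exact (mem_subGp hF hm).mp hx
    show fAut hF hm (i : ℕ) x = x
    rw [ht]
    exact hpow t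
  haveI := hsolφ
  refine Group.IsPerfect.not_isSolvable ↥(Cfsg.Sz L k) ?_
  exact Group.isSolvable_of_isSolvable_injective (f := (Subgroup.inclusion hle).comp e.symm.toMonoidHom)
    ((Subgroup.inclusion_injective hle).comp e.symm.injective)

end SzFix

variable {G : Type u} [Group G] [Finite G]

/-- S2976. -/
theorem solvable_three_component_of_killed (h8 : EightKilled.{u}) (h4 : FourKilled.{u}) (K : Subgroup G)
    (hK : Cfsg.IsComponent K) (h3 : ¬ 3 ∣ Nat.card ↥K) (y : G) (hy : orderOf y = 3)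
    (hsol : Group.IsSolvable ↥(Subgroup.centralizer ({y} : Set G))) :
    (∃ (F : Type) (_ : Field F) (_ : Fintype F), Fintype.card F = 8 ∧
      Nonempty (↥K ⧸ Subgroup.center ↥K ≃* ↥(Cfsg.Lie.Sz F 4))) ∧
    y ∈ Subgroup.normalizer (K : Set G) ∧ (Cfsg.pCore 2 G = ⊥ → IsSimpleGroup ↥K) := by
  haveI := hsol
  haveI := hK.2.1
  haveI := component_isSimple hK
  have hy3 : y * y * y = 1 := by rw [← pow_two, ← pow_succ, show 2 + 1 = orderOf y from hy.symm, pow_orderOf_eq_one]
  have hy3' : ∀ z : G, y * (y * (y * z * y⁻¹) * y⁻¹) * y⁻¹ = z := fun z => by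
    rw [show y * (y * (y * z * y⁻¹) * y⁻¹) * y⁻¹ = y * y * y * z * (y * y * y)⁻¹ by group, hy3]
    group
  -- `y` normalises the component
  have hyN : y ∈ Subgroup.normalizer (K : Set G) := by
    by_contra hn
    set c := (MulAut.conj y).toMonoidHom with hc
    set K1 := K.map c with hK1
    set K2 := K1.map c with hK2
    have hc1 : IsComponent K1 := isComponent_map_equiv (MulAut.conj y) hK
    have hc2 : IsComponent K2 := isComponent_map_equiv (MulAut.conj y) hc1
    have hne1 : K ≠ K1 := fun e => hn (mem_normalizer_of_map_eq e.symm)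
    have hne2 : K1 ≠ K2 := fun e => hne1 (Subgroup.map_injective (MulAut.conj y).injective e)
    have hne3 : K ≠ K2 := fun e => hn (by
      refine mem_normalizer_of_map_eq (((congrArg (Subgroup.map c) e).trans ?_ : K.map c = K))
      ext z
      constructor
      · rintro ⟨_, ⟨_, ⟨w, hw, rfl⟩, rfl⟩, rfl⟩
        show y * (y * (y * w * y⁻¹) * y⁻¹) * y⁻¹ ∈ K
        rwa [hy3']
      · intro hz
        exact ⟨_, ⟨_, ⟨z, hz, rfl⟩, rfl⟩, hy3' z⟩)
    have comm : ∀ {A B : Subgroup G}, IsComponent A → IsComponent B → A ≠ B → ∀ a ∈ A, ∀ b ∈ B, a * b = b * a :=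
      fun hA hB hne a ha b hb =>
        comm_of_commutator_eq_bot ((components_eq_or_commute hA hB).resolve_left hne) ha hb
    let f : ↥K →* Subgroup.centralizer ({y} : Set G) :=
      { toFun := fun k => ⟨(k : G) * c k * c (c k), by
          have m1 : c k ∈ K1 := ⟨k, k.2, rfl⟩
          have m2 : c (c (k : G)) ∈ K2 := ⟨_, m1, rfl⟩
          refine Subgroup.mem_centralizer_singleton_iff.mpr ?_
          have e1 : y * ((k : G) * c k * c (c k)) * y⁻¹ = c k * c (c k) * k := by
            rw [show y * ((k : G) * c k * c (c k)) * y⁻¹ = c ((k : G) * c k * c (c k)) from rfl, map_mul, map_mul,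
              show c (c (c (k : G))) = k from hy3' k]
          have e2 : c k * c (c k) * k = (k : G) * c k * c (c k) := by
            rw [mul_assoc, ← comm hK hc2 hne3 _ k.2 _ m2, ← mul_assoc, ← comm hK hc1 hne1 _ k.2 _ m1]
          calc (k : G) * c k * c (c k) * y = y * ((k : G) * c k * c (c k)) * y⁻¹ * y := by rw [e1, e2]
            _ = y * ((k : G) * c k * c (c k)) := inv_mul_cancel_right _ _⟩
        map_one' := Subtype.ext (by simp)
        map_mul' := fun a b => Subtype.ext (by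
          have a1 : c (a : G) ∈ K1 := ⟨a, a.2, rfl⟩
          have a2 : c (c (a : G)) ∈ K2 := ⟨_, a1, rfl⟩
          have b1 : c (b : G) ∈ K1 := ⟨b, b.2, rfl⟩
          show ((a : G) * b) * c ((a : G) * b) * c (c ((a : G) * b)) =
            (a : G) * c a * c (c a) * ((b : G) * c b * c (c b))
          rw [map_mul, map_mul]
          have q1 := comm hK hc1 hne1 _ b.2 _ a1
          have q2 := comm hK hc2 hne3 _ b.2 _ a2
          have q3 := comm hc1 hc2 hne2 _ b1 _ a2
          calc (a : G) * b * (c a * c b) * (c (c a) * c (c b))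
              = (a : G) * ((b : G) * c a) * (c b * c (c a)) * c (c b) := by group
            _ = (a : G) * c a * ((b : G) * c (c a)) * c b * c (c b) := by rw [q1, q3]; group
            _ = _ := by rw [q2]; group) }
    refine component_not_comm hK ⟨⟨fun p q => ?_⟩⟩
    obtain ⟨p, rfl⟩ := QuotientGroup.mk'_surjective _ p
    obtain ⟨q, rfl⟩ := QuotientGroup.mk'_surjective _ q
    rw [← map_mul, ← map_mul]
    refine congrArg _ (Subtype.ext ?_)
    have h1 : (p : G) * c p * c (c p) = 1 := congrArg Subtype.val (DFunLike.congr_fun (hom_eq_one_of_perfect_solvable f) p)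
    have hp : (p : G) = (c p * c (c p))⁻¹ := by rw [eq_inv_iff_mul_eq_one, ← mul_assoc, h1]
    have hcq : Commute (c p * c (c p)) (q : G) :=
      Commute.mul_left (comm hK hc1 hne1 _ q.2 _ ⟨p, p.2, rfl⟩).symm
        (comm hK hc2 hne3 _ q.2 _ ⟨_, ⟨p, p.2, rfl⟩, rfl⟩).symm
    show (p : G) * q = q * p
    rw [hp]
    exact hcq.inv_left.eq
  -- the simple quotient is a Suzuki group
  set Q := ↥K ⧸ Subgroup.center ↥K
  have h3Q : ¬ 3 ∣ Nat.card Q := fun h => h3 (h.trans (Subgroup.card_quotient_dvd_card _))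
  have hz : Lie.IsoSuzuki Q := (suzuki_or_three (classify_of_killed h8 h4 Q (component_isSimple hK)
    (component_not_comm hK) (free_of_not_three h3Q))).resolve_right fun h => h3Q h.1
  obtain ⟨F, i1, i2, m, hm, hF, ⟨e0⟩⟩ := id hz
  let e := e0.trans (Suzuki.lieEquiv hF hm).symm
  haveI : Finite ↥(Cfsg.Sz F m) := Finite.of_equiv Q e.toEquiv
  set yn : Subgroup.normalizer (K : Set G) := ⟨y, hyN⟩
  have hyn : yn ^ 3 = 1 := Subtype.ext (by
    rw [pow_succ, pow_two]; exact hy3)
  -- the fixed points in the quotient are covered by the centraliser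
  set α := actQ K yn with hα
  have hsolα : Group.IsSolvable ↥(α.toMonoidHom.eqLocus (MonoidHom.id Q)) := by
    set D := (Subgroup.centralizer ({y} : Set G)).subgroupOf K
    haveI : Group.IsSolvable D := Group.isSolvable_of_isSolvable_injective
      (f := ((K.subtype.comp D.subtype).codRestrict (Subgroup.centralizer ({y} : Set G)) fun d => d.2))
      fun a b hab => Subtype.ext (Subtype.ext (congrArg Subtype.val hab :))
    let ψ : D →* ↥(α.toMonoidHom.eqLocus (MonoidHom.id Q)) :=
      ((QuotientGroup.mk' (Subgroup.center ↥K)).comp D.subtype).codRestrict _ fun d => by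
        show α (QuotientGroup.mk' _ (d : K)) = QuotientGroup.mk' _ (d : K)
        rw [hα, actQ_apply]
        refine congrArg _ (Subtype.ext ?_)
        show y * (d : G) * y⁻¹ = d
        rw [mul_inv_eq_iff_eq_mul]
        exact (Subgroup.mem_centralizer_singleton_iff.mp d.2).symm
    refine Group.isSolvable_of_surjective (f := ψ) ?_
    rintro ⟨q, hq⟩
    obtain ⟨k, rfl⟩ := QuotientGroup.mk'_surjective _ q
    set φ : MulAut K := K.normalizerMonoidHom yn
    have hφ : ∀ x, φ (φ (φ x)) = x := fun x => Subtype.ext (hy3' (x : G))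
    obtain ⟨n, hn, hfix⟩ := CfsgLib.FpfSymThree.exists_fixed_coset φ hφ (N := Subgroup.center ↥K)
      (fun n hn => Subgroup.mem_center_iff.mpr fun a => by
        obtain ⟨a, rfl⟩ := φ.surjective a
        rw [← map_mul, ← map_mul, Subgroup.mem_center_iff.mp hn a])
      (fun h => h3 (h.trans (Subgroup.card_subgroup_dvd_card _))) (x := k) (by
        refine QuotientGroup.eq.mp ?_
        have := hq
        exact this.symm)
    refine ⟨⟨k * n, Subgroup.mem_subgroupOf.mpr (Subgroup.mem_centralizer_singleton_iff.mpr ?_)⟩, Subtype.ext ?_⟩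
    · exact (mul_inv_eq_iff_eq_mul.mp (congrArg Subtype.val hfix)).symm
    · show QuotientGroup.mk' _ (k * n) = QuotientGroup.mk' _ k
      rw [map_mul, show QuotientGroup.mk' (Subgroup.center ↥K) n = 1 from (QuotientGroup.eq_one_iff n).mpr hn,
        mul_one]
  set β : MulAut ↥(Cfsg.Sz F m) := MulAut.congr e α with hβ
  have hm1 : m = 1 := by
    refine SzFix.eight_of_solvable_fixed hF hm β (by rw [hβ, ← map_pow, hα, ← map_pow, hyn, map_one, map_one]) ?_
    haveI := hsolα
    let f : ↥(β.toMonoidHom.eqLocus (MonoidHom.id _)) →* ↥(α.toMonoidHom.eqLocus (MonoidHom.id Q)) :=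
      (e.symm.toMonoidHom.comp (β.toMonoidHom.eqLocus (MonoidHom.id _)).subtype).codRestrict _ fun x => by
        show α (e.symm x) = e.symm x
        refine e.injective ?_
        rw [e.apply_symm_apply]
        exact x.2
    exact Group.isSolvable_of_isSolvable_injective (f := f) fun a b hab =>
      Subtype.ext (e.symm.injective (congrArg Subtype.val hab))
  refine ⟨⟨F, i1, i2, by rw [hF, hm1]; norm_num, ?_⟩, hyN, fun hO => ?_⟩
  · subst hm1
    exact ⟨e0⟩
  · haveI : Fact (Nat.Prime 2) := ⟨Nat.prime_two⟩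
    have hsn : ((Subgroup.center ↥K).map K.subtype).IsSubnormal :=
      (Subgroup.Normal.isSubnormal inferInstance).trans' hK.1
    have hle := isSubnormal_isPGroup_le_pCore hsn ((suzuki_center hK.2 hz).map K.subtype)
    rw [hO, le_bot_iff, Subgroup.map_eq_bot_iff_of_injective _ K.subtype_injective] at hle
    exact MulEquiv.isSimpleGroup ((QuotientGroup.quotientMulEquivOfEq hle).trans QuotientGroup.quotientBot).symm

end CfsgLib.S3Simple
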