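import Mathlib

/-!
Suborbits of odd size of a transitive action of odd degree.
-/

set_option autoImplicit false
set_option linter.unusedSectionVars false

namespace CfsgLib.S3Simple

open MulAction
open scoped Pointwise

universe u v

variable {G : Type u} [Group G] {α : Type v} [MulAction G α] [Finite α] [IsPretransitive G α] {p : α}

/-- The pairs of a suborbit. -/
def Adj (G : Type u) [Group G] {α : Type v} [MulAction G α] (p : α) (S : Set α) (x y : α) : Prop :=
  ∃ g : G, g • p = x ∧ g⁻¹ • y ∈ S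

variable {S : Set α} (hS : ∀ g : G, g • p = p → ∀ s ∈ S, g • s ∈ S)
include hS

theorem adj_iff {x y : α} {g : G} (hg : g • p = x) : Adj G p S x y ↔ g⁻¹ • y ∈ S := by
  refine ⟨fun ⟨h, hh, hy⟩ => ?_, fun h => ⟨g, hg, h⟩⟩
  have := hS (g⁻¹ * h) (by rw [mul_smul, hh, ← hg, inv_smul_smul]) _ hy
  rwa [mul_smul, smul_inv_smul] at this

theorem card_out {g : G} {x : α} (hg : g • p = x) : Nat.card {y // Adj G p S x y} = S.ncard := by
  rw [← Nat.card_coe_set_eq]
  exact Nat.card_congr
    { toFun := fun y => ⟨g⁻¹ • (y : α), (adj_iff hS hg).mp y.2⟩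
      invFun := fun s => ⟨g • (s : α), (adj_iff hS hg).mpr (by rw [inv_smul_smul]; exact s.2)⟩
      left_inv := fun y => Subtype.ext (smul_inv_smul _ _)
      right_inv := fun s => Subtype.ext (inv_smul_smul _ _) }

theorem adj_smul (g : G) {x y : α} (h : Adj G p S x y) : Adj G p S (g • x) (g • y) := by
  obtain ⟨k, hk, hy⟩ := h
  exact ⟨g * k, by rw [mul_smul, hk], by rwa [mul_inv_rev, mul_smul, inv_smul_smul]⟩

/-- The paired suborbit has the same size. -/
theorem card_paired : Nat.card {y // Adj G p S y p} = S.ncard := by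
  classical
  haveI := Fintype.ofFinite α
  have h1 : Nat.card (Σ x : α, {y // Adj G p S x y}) = Nat.card α * S.ncard := by
    rw [Nat.card_sigma]
    rw [Finset.sum_congr rfl fun x _ => card_out hS (exists_smul_eq G p x).choose_spec, Finset.sum_const,
      Finset.card_univ, Nat.card_eq_fintype_card, smul_eq_mul]
  have h2 : Nat.card (Σ y : α, {x // Adj G p S x y}) = Nat.card α * Nat.card {y // Adj G p S y p} := by
    rw [Nat.card_sigma]
    have hin : ∀ y : α, Nat.card {x // Adj G p S x y} = Nat.card {y // Adj G p S y p} := fun y => by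
      obtain ⟨g, hg⟩ := exists_smul_eq G p y
      exact Nat.card_congr
        { toFun := fun x => ⟨g⁻¹ • (x : α), by
            have := adj_smul hS g⁻¹ x.2
            rwa [show g⁻¹ • y = p by rw [← hg, inv_smul_smul]] at this⟩
          invFun := fun x => ⟨g • (x : α), hg ▸ adj_smul hS g x.2⟩
          left_inv := fun x => Subtype.ext (smul_inv_smul _ _)
          right_inv := fun x => Subtype.ext (inv_smul_smul _ _) }
    rw [Finset.sum_congr rfl fun y _ => hin y, Finset.sum_const, Finset.card_univ, ← Nat.card_eq_fintype_card,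
      smul_eq_mul]
  have e : Nat.card (Σ x : α, {y // Adj G p S x y}) = Nat.card (Σ y : α, {x // Adj G p S x y}) := Nat.card_congr
    { toFun := fun q => ⟨q.2.1, q.1, q.2.2⟩
      invFun := fun q => ⟨q.2.1, q.1, q.2.2⟩
      left_inv := fun _ => rfl
      right_inv := fun _ => rfl }
  haveI : Nonempty α := ⟨p⟩
  rw [h1, h2] at e
  exact (Nat.eq_of_mul_eq_mul_left Nat.card_pos e).symm

/-- A self-paired suborbit of odd size is impossible in odd degree. -/
theorem handshake (hodd : Odd (Nat.card α)) (hSodd : Odd S.ncard) (hp : p ∉ S)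
    (hsym : ∀ g : G, g • p ∈ S → g⁻¹ • p ∈ S) : False := by
  classical
  haveI := Fintype.ofFinite α
  let Γ : SimpleGraph α :=
    { Adj := Adj G p S
      symm := ⟨fun x y (h : Adj G p S x y) => by
        obtain ⟨g, rfl, hy⟩ := h
        obtain ⟨k, hk⟩ := exists_smul_eq G p y
        rw [← hk, ← mul_smul] at hy
        exact ⟨k, hk, by rw [← mul_smul]; simpa using hsym _ hy⟩⟩
      loopless := ⟨fun x (h : Adj G p S x x) => by
        obtain ⟨g, rfl, hy⟩ := h
        rw [inv_smul_smul] at hy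
        exact hp hy⟩ }
  have hdeg : ∀ x, Γ.degree x = S.ncard := fun x => by
    rw [← card_out hS (exists_smul_eq G p x).choose_spec, ← SimpleGraph.card_neighborSet_eq_degree,
      ← Nat.card_eq_fintype_card]
    rfl
  have h := Γ.sum_degrees_eq_twice_card_edges
  rw [Finset.sum_congr rfl fun x _ => hdeg x, Finset.sum_const, Finset.card_univ, smul_eq_mul,
    ← Nat.card_eq_fintype_card] at h
  exact Nat.not_even_iff_odd.mpr (hodd.mul hSodd) ⟨_, h.trans (two_mul _)⟩

omit hS

/-- For two suborbits, either the first is self-paired or they are paired and equal in size. -/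
theorem paired_cases {T : Set α} (hS : ∀ g : G, g • p = p → ∀ s ∈ S, g • s ∈ S)
    (hT : ∀ g : G, g • p = p → ∀ s ∈ T, g • s ∈ T) (hStr : ∀ s ∈ S, ∀ s' ∈ S, ∃ g : G, g • p = p ∧ g • s = s')
    (hTtr : ∀ s ∈ T, ∀ s' ∈ T, ∃ g : G, g • p = p ∧ g • s = s') (hp : p ∉ S) (hne : S.Nonempty) (hTne : T.Nonempty)
    (hcov : ∀ y, y ≠ p → y ∈ S ∨ y ∈ T) (hd : Disjoint S T) :
    (∀ g : G, g • p ∈ S → g⁻¹ • p ∈ S) ∨
      (S.ncard = T.ncard ∧ (∀ g : G, g • p ∈ S → g⁻¹ • p ∉ S) ∧ ∀ g : G, g • p ∈ T → g⁻¹ • p ∈ S) := by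
  classical
  have key : ∀ {g : G}, Adj G p S (g • p) p ↔ g⁻¹ • p ∈ S := adj_iff hS rfl
  have whole : ∀ U : Set α, (∀ s ∈ U, ∀ s' ∈ U, ∃ g : G, g • p = p ∧ g • s = s') →
      ∀ y ∈ U, Adj G p S y p → ∀ y' ∈ U, Adj G p S y' p := by
    intro U htr y hy h y' hy'
    obtain ⟨g, hgp, hgy⟩ := htr y hy y' hy'
    have := adj_smul hS g h
    rwa [hgp, hgy] at this
  by_cases h1 : ∃ y ∈ S, Adj G p S y p
  · obtain ⟨y, hy, h⟩ := h1
    exact Or.inl fun g hg => key.mp (whole S hStr y hy h _ hg)
  push Not at h1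
  refine Or.inr ?_
  have hnotp : ¬ Adj G p S p p := fun h => hp (by
    have := (adj_iff hS (one_smul G p)).mp h
    rwa [inv_one, one_smul] at this)
  obtain ⟨t, ht, hta⟩ : ∃ t ∈ T, Adj G p S t p := by
    by_contra hc
    push Not at hc
    have h0 : Nat.card {y // Adj G p S y p} = 0 := by
      haveI : IsEmpty {y // Adj G p S y p} := ⟨fun y => by
        rcases eq_or_ne y.1 p with e | e
        · exact hnotp (by have h := y.2; rwa [e] at h)
        · exact (hcov _ e).elim (fun h => h1 _ h y.2) fun h => hc _ h y.2⟩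
      simp
    rw [card_paired hS] at h0
    exact hne.ne_empty ((Set.ncard_eq_zero (Set.toFinite _)).mp h0)
  refine ⟨?_, fun g hg hg' => h1 _ hg (key.mpr hg'), fun g hg => key.mp (whole T hTtr t ht hta _ hg)⟩
  rw [← card_paired hS, ← Nat.card_coe_set_eq]
  exact Nat.card_congr (Equiv.subtypeEquivRight fun y => ⟨fun h => (hcov y (fun e => hnotp (e ▸ h))).resolve_left
    fun hs => h1 y hs h, fun hy => whole T hTtr t ht hta y hy⟩)

end CfsgLib.S3Simple
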